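import Groth.Agent.Lib.FlatCA.Impurity
import Groth.Agent.Lib.Pure.UI
import Groth.Agent.S0393
import Groth.Agent.H19.FlatLocus.Model
import Mathlib.RingTheory.Flat.Localization

/-!
# Regular elements on fibres of flat finitely presented modules

If `N` is flat and finitely presented, an element which acts injectively on the fibre module near a
prime acts injectively on every `N ⊗ Q` near that prime.
-/

noncomputable section

universe u

open TensorProduct

namespace Groth.Agent.Lib.FlatCA.NzdLimit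

/-- Noetherian case. -/
theorem killed_noetherian {R S N : Type u} [CommRing R] [IsNoetherianRing R] [CommRing S] [Algebra R S]
    [Algebra.FiniteType R S] [AddCommGroup N] [Module S N] [Module R N] [IsScalarTower R S N]
    [Module.Finite S N] [Module.Flat R N] (p : Ideal R) [p.IsPrime] (q : Ideal S) [q.IsPrime] [q.LiesOver p]
    (g : S) (hg : ∀ z : N ⊗[R] p.ResidueField, g • z = 0 → ∃ w ∉ q, w • z = 0)
    (Q : Type u) [AddCommGroup Q] [Module R Q] :
    ∀ z : N ⊗[R] Q, g • z = 0 → ∃ w ∉ q, w • z = 0 := by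
  let Rp := Localization.AtPrime p
  let Sq := Localization.AtPrime q
  let L := LocalizedModule q.primeCompl N
  let l : N →ₗ[S] L := LocalizedModule.mkLinearMap q.primeCompl N
  haveI : IsNoetherianRing S := Algebra.FiniteType.isNoetherianRing R S
  haveI : IsNoetherianRing Sq := IsLocalization.isNoetherianRing q.primeCompl _ inferInstance
  let φ : Rp →+* Sq := Localization.localRingHom p q (algebraMap R S) Ideal.LiesOver.over
  letI : Algebra Rp Sq := φ.toAlgebra
  haveI : IsLocalHom (algebraMap Rp Sq) := Localization.isLocalHom_localRingHom p q _ Ideal.LiesOver.over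
  have hφ : ∀ a : R, φ (algebraMap R Rp a) = algebraMap S Sq (algebraMap R S a) := fun a =>
    Localization.localRingHom_to_map p q _ Ideal.LiesOver.over a
  haveI : Module.Finite Sq L := Module.Finite.of_isLocalizedModule q.primeCompl l
  letI : Module Rp L := Module.compHom L φ
  haveI : IsScalarTower Rp Sq L := IsScalarTower.of_algebraMap_smul fun _ _ => rfl
  haveI : IsScalarTower R Rp L := IsScalarTower.of_algebraMap_smul fun a x => by
    show φ (algebraMap R Rp a) • x = a • x
    rw [hφ, algebraMap_smul, algebraMap_smul]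
  haveI : Module.Flat R L := Groth.Agent.H19.FlatLocus.Model.flat_localized q.primeCompl l
  haveI : Module.Flat Rp L := (Module.flat_iff_of_isLocalization Rp p.primeCompl L).2 inferInstance
  let u : L →ₗ[Rp] L := (LinearMap.lsmul Sq L (algebraMap S Sq g)).restrictScalars Rp
  let v : L →ₗ[R] L := u.restrictScalars R
  have hv : ∀ x : L, v x = g • x := fun x => algebraMap_smul Sq g x
  have hvT : ∀ (Q : Type u) [AddCommGroup Q] [Module R Q] (y : L ⊗[R] Q), v.rTensor Q y = g • y := by
    intro Q _ _ y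
    rw [FiberMod.smul_eq_rTensor]
    exact LinearMap.congr_fun (congrArg (fun f => LinearMap.rTensor Q f) (LinearMap.ext fun x => hv x)) y
  have h0 : Function.Injective (v.rTensor p.ResidueField) := by
    rw [injective_iff_map_eq_zero]
    intro y hy
    rw [hvT] at hy
    haveI := IsLocalizedModule.rTensor q.primeCompl (R := R) (A := S) (N := p.ResidueField) l
    obtain ⟨⟨z, s⟩, rfl⟩ := IsLocalizedModule.mk'_surjective q.primeCompl
      (TensorProduct.AlgebraTensorModule.rTensor R p.ResidueField l) y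
    rw [Function.uncurry_apply_pair] at hy ⊢
    rw [← IsLocalizedModule.mk'_smul, IsLocalizedModule.mk'_eq_zero'] at hy
    obtain ⟨⟨t, ht⟩, hgt⟩ := hy
    rw [Submonoid.mk_smul, smul_comm] at hgt
    obtain ⟨w, hw, hwz⟩ := hg _ hgt
    rw [IsLocalizedModule.mk'_eq_zero']
    exact ⟨⟨w * t, q.primeCompl.mul_mem hw ht⟩, by rw [Submonoid.mk_smul, mul_smul]; exact hwz⟩
  have h1 : Function.Injective (u.lTensor (IsLocalRing.ResidueField Rp)) := by
    let κ := IsLocalRing.ResidueField Rp
    haveI := IsLocalization.tensorProduct_compatibleSMul p.primeCompl Rp κ L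
    let e := TensorProduct.equivOfCompatibleSMul R Rp Rp κ L
    have he : ∀ y, e (u.lTensor κ y) = v.lTensor κ (e y) := fun y => by
      induction y using TensorProduct.induction_on with
      | zero => simp
      | add a b ha hb => simp only [map_add, ha, hb]
      | tmul a b => rfl
    intro a b hab
    refine e.injective ((LinearMap.lTensor_inj_iff_rTensor_inj _ _).2 h0 ?_)
    rw [← he, ← he, hab]
  obtain ⟨hinj, hflat⟩ := S0393.result (S := Sq) u h1
  let C := L ⧸ LinearMap.range u
  haveI : Module.Flat R C := (Module.flat_iff_of_isLocalization Rp p.primeCompl C).1 hflat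
  have hui := Pure.UI.of_flat_right (N := C) v ((LinearMap.range u).mkQ.restrictScalars R) hinj
    (LinearMap.exact_map_mkQ_range u) (Submodule.mkQ_surjective _) Q
  intro z hz
  haveI := IsLocalizedModule.rTensor q.primeCompl (R := R) (A := S) (N := Q) l
  let lQ := TensorProduct.AlgebraTensorModule.rTensor R Q l
  have : lQ z = 0 := hui (by rw [hvT, ← map_smul, hz, map_zero, map_zero])
  obtain ⟨⟨w, hw⟩, hwz⟩ := (IsLocalizedModule.eq_zero_iff q.primeCompl lQ).1 this
  exact ⟨w, hw, hwz⟩

section Descent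

variable {R₁ R S₁ S : Type u} [CommRing R₁] [CommRing R] [CommRing S₁] [CommRing S] [Algebra R₁ R]
  [Algebra R₁ S₁] [Algebra S₁ S] [Algebra R S] [Algebra R₁ S] [IsScalarTower R₁ R S] [IsScalarTower R₁ S₁ S]
  {N₁ N : Type u} [AddCommGroup N₁] [Module S₁ N₁] [Module R₁ N₁] [IsScalarTower R₁ S₁ N₁]
  [AddCommGroup N] [Module S N] [Module R N] [IsScalarTower R S N] [Module S₁ N] [IsScalarTower S₁ S N]

variable (hpo : Algebra.IsPushout R₁ R S₁ S) (F : N₁ →ₗ[S₁] N) (hF : IsBaseChange S F)
  (Q : Type u) [AddCommGroup Q] [Module R Q] [Module R₁ Q] [IsScalarTower R₁ R Q]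

/-- `N₁ ⊗[R₁] Q ≅ N ⊗[R] Q`. -/
def transfer : N₁ ⊗[R₁] Q ≃+ N ⊗[R] Q :=
  ((TensorProduct.comm R₁ N₁ Q).toAddEquiv.trans
    (AlgebraTensorModule.cancelBaseChange R₁ R R Q N₁).symm.toAddEquiv).trans
    ((LinearEquiv.lTensor Q (Impurity.baseChangeEquiv (A := R₁) (B := S₁) (A' := R) hpo.symm F hF).symm).toAddEquiv.trans
      (TensorProduct.comm R Q N).toAddEquiv)

theorem transfer_tmul (n : N₁) (x : Q) : transfer hpo F hF Q (n ⊗ₜ x) = F n ⊗ₜ x := by
  haveI : Algebra.IsPushout R₁ R S₁ S := hpo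
  show TensorProduct.comm R Q N ((LinearEquiv.lTensor Q (Impurity.baseChangeEquiv (A := R₁) (B := S₁) (A' := R) hpo.symm F hF).symm)
    ((AlgebraTensorModule.cancelBaseChange R₁ R R Q N₁).symm (x ⊗ₜ n))) = _
  rw [AlgebraTensorModule.cancelBaseChange_symm_tmul, LinearEquiv.lTensor_tmul, TensorProduct.comm_tmul]
  congr 1
  show hF.equiv ((Algebra.IsPushout.cancelBaseChange R₁ R S₁ S N₁).symm ((1 : R) ⊗ₜ n)) = F n
  rw [Algebra.IsPushout.cancelBaseChange_symm_tmul, map_one, hF.equiv_tmul, one_smul]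

theorem transfer_smul (a : S₁) (z : N₁ ⊗[R₁] Q) :
    transfer hpo F hF Q (a • z) = algebraMap S₁ S a • transfer hpo F hF Q z := by
  induction z using TensorProduct.induction_on with
  | zero => simp
  | add x y hx hy => simp only [smul_add, map_add, hx, hy]
  | tmul n x => rw [TensorProduct.smul_tmul', transfer_tmul, transfer_tmul, TensorProduct.smul_tmul',
      map_smul, algebraMap_smul]

end Descent

section Ext

variable {R₁ R S₁ S : Type u} [CommRing R₁] [CommRing R] [CommRing S₁] [CommRing S] [Algebra R₁ R]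
  [Algebra R₁ S₁] [Algebra S₁ S] [Algebra R S] [Algebra R₁ S] [IsScalarTower R₁ R S] [IsScalarTower R₁ S₁ S]
  {N₁ N : Type u} [AddCommGroup N₁] [Module S₁ N₁] [Module R₁ N₁] [IsScalarTower R₁ S₁ N₁]
  [AddCommGroup N] [Module S N] [Module R N] [IsScalarTower R S N] [Module S₁ N] [IsScalarTower S₁ S N]

attribute [local instance] Algebra.TensorProduct.rightAlgebra

/-- Annihilation on the fibre can be tested after extending the residue field. -/
theorem killed_of_killed (hpo : Algebra.IsPushout R₁ R S₁ S) (F : N₁ →ₗ[S₁] N) (hF : IsBaseChange S F)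
    (p : Ideal R) [p.IsPrime] (q : Ideal S) [q.IsPrime] [q.LiesOver p] (g : S₁)
    (hg : ∀ z : N ⊗[R] p.ResidueField, algebraMap S₁ S g • z = 0 → ∃ w ∉ q, w • z = 0) :
    ∀ z : N₁ ⊗[R₁] (p.comap (algebraMap R₁ R)).ResidueField, g • z = 0 →
      ∃ w ∉ q.comap (algebraMap S₁ S), w • z = 0 := by
  intro z hz
  by_contra hcon
  push Not at hcon
  let p₁ := p.comap (algebraMap R₁ R)
  let κ₁ := p₁.ResidueField
  let ψ : κ₁ →ₐ[R₁] p.ResidueField := Ideal.ResidueField.mapₐ p₁ p (Algebra.ofId R₁ R) rfl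
  let T := fun (Q : Type u) [AddCommGroup Q] [Module R Q] [Module R₁ Q] [IsScalarTower R₁ R Q] =>
    transfer hpo F hF Q
  let z' := T p.ResidueField (ψ.toLinearMap.lTensor N₁ z)
  have hz' : algebraMap S₁ S g • z' = 0 := by
    rw [← transfer_smul]
    have : g • ψ.toLinearMap.lTensor N₁ z = ψ.toLinearMap.lTensor N₁ (g • z) := by
      rw [FiberMod.smul_eq_rTensor, FiberMod.smul_eq_rTensor, ← LinearMap.comp_apply,
        LinearMap.rTensor_comp_lTensor, ← LinearMap.lTensor_comp_rTensor, LinearMap.comp_apply]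
    rw [this, hz, map_zero, map_zero]
  obtain ⟨w, hw, hwz⟩ := hg z' hz'
  -- the fields
  let φq : p.ResidueField →+* q.ResidueField :=
    (Ideal.ResidueField.mapₐ p q (Algebra.ofId R S) Ideal.LiesOver.over).toRingHom
  letI : Algebra κ₁ q.ResidueField := (φq.comp ψ.toRingHom).toAlgebra
  haveI : IsScalarTower R₁ κ₁ q.ResidueField := IsScalarTower.of_algebraMap_eq fun a => by
    show _ = φq (ψ (algebraMap R₁ κ₁ a))
    rw [ψ.commutes, IsScalarTower.algebraMap_apply R₁ R p.ResidueField,
      IsScalarTower.algebraMap_apply R₁ R q.ResidueField]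
    exact ((Ideal.ResidueField.mapₐ p q (Algebra.ofId R S) Ideal.LiesOver.over).commutes _).symm
  let bar : S₁ →ₐ[R₁] q.ResidueField := IsScalarTower.toAlgHom R₁ S₁ q.ResidueField |>.comp (AlgHom.id R₁ S₁)
  let v : κ₁ ⊗[R₁] S₁ →ₗ[κ₁] q.ResidueField := LinearMap.liftBaseChange κ₁ bar.toLinearMap
  let zc : κ₁ ⊗[R₁] N₁ := TensorProduct.comm R₁ N₁ κ₁ z
  let act : S₁ →ₗ[R₁] κ₁ ⊗[R₁] N₁ :=
    { toFun := fun s => ((LinearMap.lsmul S₁ N₁ s).restrictScalars R₁).lTensor κ₁ zc
      map_add' := fun s t => by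
        rw [map_add, LinearMap.restrictScalars_add, LinearMap.lTensor_add, LinearMap.add_apply]
      map_smul' := fun r s => by
        rw [RingHom.id_apply, show (LinearMap.lsmul S₁ N₁ (r • s)).restrictScalars R₁ =
          r • (LinearMap.lsmul S₁ N₁ s).restrictScalars R₁ from LinearMap.ext fun n => smul_assoc r s n,
          LinearMap.lTensor_smul, LinearMap.smul_apply] }
  have hact : ∀ s, act s = TensorProduct.comm R₁ N₁ κ₁ (s • z) := fun s => by
    show ((LinearMap.lsmul S₁ N₁ s).restrictScalars R₁).lTensor κ₁ (TensorProduct.comm R₁ N₁ κ₁ z) = _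
    clear hz hcon z' hz' hwz act zc
    induction z using TensorProduct.induction_on with
    | zero => simp
    | add x y hx hy => simp only [smul_add, map_add, hx, hy]
    | tmul n x => rfl
  let c : κ₁ ⊗[R₁] S₁ →ₗ[κ₁] κ₁ ⊗[R₁] N₁ := LinearMap.liftBaseChange κ₁ act
  have hker : LinearMap.ker c ≤ LinearMap.ker v := by
    intro e he
    rw [LinearMap.mem_ker] at he ⊢
    have hex : ∃ d : R₁, d ∉ p₁ ∧ ∃ b : S₁, d • e = (1 : κ₁) ⊗ₜ[R₁] b := by
      clear he
      induction e using TensorProduct.induction_on with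
      | zero => exact ⟨1, p₁.primeCompl.one_mem, 0, by rw [smul_zero, TensorProduct.tmul_zero]⟩
      | tmul k b =>
        obtain ⟨a, s, hs, rfl⟩ := IsFractionRing.div_surjective (A := R₁ ⧸ p₁) k
        obtain ⟨a, rfl⟩ := Ideal.Quotient.mk_surjective a
        obtain ⟨s, rfl⟩ := Ideal.Quotient.mk_surjective s
        have hs' : s ∉ p₁ := fun h => nonZeroDivisors.ne_zero hs (Ideal.Quotient.eq_zero_iff_mem.2 h)
        refine ⟨s, hs', a • b, ?_⟩
        rw [TensorProduct.smul_tmul', ← TensorProduct.smul_tmul, Algebra.smul_def, Algebra.smul_def, mul_one]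
        congr 1
        rw [← Ideal.Quotient.algebraMap_eq, ← IsScalarTower.algebraMap_apply, ← IsScalarTower.algebraMap_apply,
          mul_div_assoc', mul_div_cancel_left₀ _ fun h => hs' (Ideal.algebraMap_residueField_eq_zero.1 h)]
      | add x y hx hy =>
        obtain ⟨s, hs, b, hb⟩ := hx
        obtain ⟨t, ht, d, hd⟩ := hy
        refine ⟨s * t, p₁.primeCompl.mul_mem hs ht, t • b + s • d, ?_⟩
        rw [smul_add, mul_smul, mul_smul, smul_comm s t x, hb, hd, TensorProduct.tmul_add,
          TensorProduct.tmul_smul, TensorProduct.tmul_smul]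
    obtain ⟨d, hd, b, hb⟩ := hex
    have h1 : b • z = 0 := by
      apply (TensorProduct.comm R₁ N₁ κ₁).injective
      rw [map_zero, ← hact, ← one_smul κ₁ (act b),
        show (1 : κ₁) • act b = c ((1 : κ₁) ⊗ₜ b) by simp [c], ← hb,
        ← algebraMap_smul κ₁ d e, map_smul, he, smul_zero]
    have h2 : v ((1 : κ₁) ⊗ₜ b) = 0 := by
      rw [LinearMap.liftBaseChange_tmul, one_smul]
      show algebraMap S₁ q.ResidueField b = 0
      rw [IsScalarTower.algebraMap_apply S₁ S q.ResidueField, Ideal.algebraMap_residueField_eq_zero]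
      by_contra hb'
      exact hcon b hb' h1
    rw [← hb, ← algebraMap_smul κ₁ d e, map_smul, smul_eq_zero] at h2
    exact h2.resolve_left fun h => hd (Ideal.algebraMap_residueField_eq_zero.1 h)
  let e := c.quotKerEquivRange
  obtain ⟨θ, hθ⟩ := LinearMap.exists_extend
    (((LinearMap.ker c).liftQ v hker) ∘ₗ e.symm.toLinearMap)
  have hθc : ∀ x, θ (c x) = v x := fun x => by
    have := LinearMap.congr_fun hθ ⟨c x, LinearMap.mem_range_self c x⟩
    rw [LinearMap.comp_apply] at this
    refine this.trans ?_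
    show (LinearMap.ker c).liftQ v hker (e.symm ⟨c x, _⟩) = v x
    rw [show (⟨c x, LinearMap.mem_range_self c x⟩ : LinearMap.range c) = e (Submodule.Quotient.mk x) from
      Subtype.ext rfl, LinearEquiv.symm_apply_apply]
    rfl
  letI : Algebra p.ResidueField q.ResidueField := φq.toAlgebra
  haveI : IsScalarTower R p.ResidueField q.ResidueField := IsScalarTower.of_algebraMap_eq fun a =>
    ((Ideal.ResidueField.mapₐ p q (Algebra.ofId R S) Ideal.LiesOver.over).commutes a).symm
  haveI : IsScalarTower R₁ p.ResidueField q.ResidueField := IsScalarTower.of_algebraMap_eq fun a => by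
    rw [IsScalarTower.algebraMap_apply R₁ R p.ResidueField, ← IsScalarTower.algebraMap_apply R p.ResidueField,
      ← IsScalarTower.algebraMap_apply R₁ R]
  let Θ : N₁ ⊗[R₁] p.ResidueField →ₗ[R₁] q.ResidueField :=
    TensorProduct.lift (LinearMap.mk₂ R₁ (fun (n : N₁) (k : p.ResidueField) => φq k * θ ((1 : κ₁) ⊗ₜ n))
      (fun n n' k => by simp only [TensorProduct.tmul_add, map_add, mul_add])
      (fun r n k => by
        rw [TensorProduct.tmul_smul, ← algebraMap_smul κ₁ r ((1 : κ₁) ⊗ₜ[R₁] n), map_smul, algebraMap_smul,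
          mul_smul_comm])
      (fun n k k' => by simp only [map_add, add_mul])
      (fun r n k => by
        show φq (r • k) * _ = _
        rw [show φq (r • k) = r • φq k from (IsScalarTower.toAlgHom R₁ p.ResidueField q.ResidueField).toLinearMap.map_smul r k,
          smul_mul_assoc]))
  have hΘψ : ∀ x : N₁ ⊗[R₁] κ₁, Θ (ψ.toLinearMap.lTensor N₁ x) = θ (TensorProduct.comm R₁ N₁ κ₁ x) := fun x => by
    induction x using TensorProduct.induction_on with
    | zero => simp
    | add a b ha hb => simp only [map_add, ha, hb]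
    | tmul n k =>
      show φq (ψ k) * θ ((1 : κ₁) ⊗ₜ n) = θ (k ⊗ₜ n)
      rw [show k ⊗ₜ[R₁] n = k • ((1 : κ₁) ⊗ₜ[R₁] n) by rw [TensorProduct.smul_tmul', smul_eq_mul, mul_one],
        map_smul, Algebra.smul_def]
      rfl
  have key : ∀ s : S, ∀ (y : N₁ ⊗[R₁] p.ResidueField), y = ψ.toLinearMap.lTensor N₁ z →
      Θ ((T p.ResidueField).symm (s • T p.ResidueField y)) = algebraMap S q.ResidueField s := by
    intro s y hy
    induction s using hpo.out.inductionOn with
    | zero => rw [zero_smul, map_zero, map_zero, map_zero]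
    | tmul b =>
      show Θ ((T p.ResidueField).symm (algebraMap S₁ S b • T p.ResidueField y)) = algebraMap S q.ResidueField (algebraMap S₁ S b)
      rw [← transfer_smul, AddEquiv.symm_apply_apply, hy]
      have hb : b • ψ.toLinearMap.lTensor N₁ z = ψ.toLinearMap.lTensor N₁ (b • z) := by
        rw [FiberMod.smul_eq_rTensor, FiberMod.smul_eq_rTensor, ← LinearMap.comp_apply,
          LinearMap.rTensor_comp_lTensor, ← LinearMap.lTensor_comp_rTensor, LinearMap.comp_apply]
      rw [hb, hΘψ, ← hact, ← one_smul κ₁ (act b),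
        show (1 : κ₁) • act b = c ((1 : κ₁) ⊗ₜ b) by simp [c], hθc,
        LinearMap.liftBaseChange_tmul, one_smul, ← IsScalarTower.algebraMap_apply]
      rfl
    | smul r s hs =>
      rw [smul_assoc, Algebra.smul_def r s, map_mul, ← IsScalarTower.algebraMap_apply R S q.ResidueField, ← hs,
        IsScalarTower.algebraMap_apply R p.ResidueField q.ResidueField]
      obtain ⟨m, hm⟩ := (T p.ResidueField).surjective (s • T p.ResidueField y)
      rw [← hm, AddEquiv.symm_apply_apply]
      clear hm hy hs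
      induction m using TensorProduct.induction_on with
      | zero => simp
      | add a b ha hb => simp only [map_add, smul_add, ha, hb, mul_add]
      | tmul n k =>
        rw [transfer_tmul, ← TensorProduct.tmul_smul, ← transfer_tmul hpo F hF, AddEquiv.symm_apply_apply]
        show φq (r • k) * _ = φq (algebraMap R p.ResidueField r) * (φq k * _)
        rw [Algebra.smul_def, map_mul, mul_assoc]
    | add a b ha hb => rw [add_smul, map_add, map_add, ha, hb, map_add]
  have := key w _ rfl
  rw [show w • T p.ResidueField (ψ.toLinearMap.lTensor N₁ z) = 0 from hwz, map_zero, map_zero] at this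
  exact hw (Ideal.algebraMap_residueField_eq_zero.1 this.symm)

end Ext

attribute [local instance] Algebra.TensorProduct.rightAlgebra

/-- An element regular on the fibre near a prime is regular on all `N ⊗ Q` near that prime. -/
theorem killed_of_fibre {R S N : Type u} [CommRing R] [CommRing S] [Algebra R S] [Algebra.FinitePresentation R S]
    [AddCommGroup N] [Module S N] [Module R N] [IsScalarTower R S N] [Module.FinitePresentation S N]
    [Module.Flat R N] (p : Ideal R) [p.IsPrime] (q : Ideal S) [q.IsPrime] [q.LiesOver p] (g : S)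
    (hg : ∀ z : N ⊗[R] p.ResidueField, g • z = 0 → ∃ w ∉ q, w • z = 0)
    (Q : Type u) [AddCommGroup Q] [Module R Q] :
    ∀ z : N ⊗[R] Q, g • z = 0 → ∃ w ∉ q, w • z = 0 := by
  classical
  obtain ⟨R₀, _, _, S₀, _, _, _, _, _, _, M₀, _, _, _, _, _, _, F, hR₀, hS₀, hM₀, hpo, hF, hflat⟩ :=
    Groth.Agent.H19.FlatLocus.Model.exists_model R S N
  haveI := hflat inferInstance
  let φ : ∀ T : Subalgebra R₀ R, T ⊗[R₀] S₀ →ₐ[R₀] S := fun T =>
    Algebra.TensorProduct.lift ((IsScalarTower.toAlgHom R₀ R S).comp T.val) (IsScalarTower.toAlgHom R₀ S₀ S)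
      fun _ _ => Commute.all _ _
  have hex : ∀ e : S, ∃ s : Finset R, ∀ T : Subalgebra R₀ R, (s : Set R) ⊆ T → e ∈ (φ T).range := by
    intro e
    induction e using hpo.out.inductionOn with
    | zero => exact ⟨∅, fun T _ => zero_mem _⟩
    | tmul b =>
      exact ⟨∅, fun T _ => ⟨1 ⊗ₜ b, by
        show φ T (1 ⊗ₜ b) = algebraMap S₀ S b
        simp [φ]⟩⟩
    | smul r a ha =>
      obtain ⟨s, hs⟩ := ha
      refine ⟨insert r s, fun T hT => ?_⟩
      rw [Finset.coe_insert, Set.insert_subset_iff] at hT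
      obtain ⟨x, hx⟩ := hs T hT.2
      refine ⟨(⟨r, hT.1⟩ : T) ⊗ₜ 1 * x, ?_⟩
      show φ T _ = _
      rw [map_mul, show φ T x = a from hx, Algebra.smul_def]
      simp [φ]
    | add a b ha hb =>
      obtain ⟨s, hs⟩ := ha
      obtain ⟨t, ht⟩ := hb
      refine ⟨s ∪ t, fun T hT => ?_⟩
      rw [Finset.coe_union, Set.union_subset_iff] at hT
      exact add_mem (hs T hT.1) (ht T hT.2)
  obtain ⟨s, hs⟩ := hex g
  let R₁ : Subalgebra R₀ R := Algebra.adjoin R₀ (s : Set R)
  haveI : Algebra.FiniteType R₀ R₁ :=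
    (Subalgebra.fg_iff_finiteType _).1 (Subalgebra.fg_adjoin_finset s)
  haveI := hR₀
  haveI : IsNoetherianRing R₀ := Algebra.FiniteType.isNoetherianRing ℤ R₀
  haveI : IsNoetherianRing R₁ := Algebra.FiniteType.isNoetherianRing R₀ R₁
  let S₁ := R₁ ⊗[R₀] S₀
  letI : Algebra S₁ S := (φ R₁).toRingHom.toAlgebra
  haveI : IsScalarTower S₀ S₁ S := IsScalarTower.of_algebraMap_eq fun b => by
    show algebraMap S₀ S b = φ R₁ (1 ⊗ₜ b)
    simp [φ]
  haveI : IsScalarTower R₁ S₁ S := IsScalarTower.of_algebraMap_eq fun a => by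
    show algebraMap R₁ S a = φ R₁ (a ⊗ₜ 1)
    simp [φ]
    rfl
  haveI : IsScalarTower R₀ S₁ S := IsScalarTower.of_algebraMap_eq fun a => ((φ R₁).commutes a).symm
  have hpo₁ : Algebra.IsPushout R₁ R S₁ S :=
    (Algebra.IsPushout.comp_iff R₀ R₁ S₀ S₁ (T' := S)).1 hpo
  haveI : Algebra.FiniteType R₁ S₁ := inferInstance
  let N₁ := S₁ ⊗[S₀] M₀
  haveI : Module.Flat R₁ N₁ := Module.Flat.of_linearEquiv
    (Impurity.baseChangeEquiv (A := R₀) (B := S₀) (A' := R₁) (B' := S₁) (N := M₀) (N' := N₁)
      (Algebra.IsPushout.symm inferInstance) ((TensorProduct.mk S₀ S₁ M₀) 1) (TensorProduct.isBaseChange S₀ M₀ S₁))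
  letI : Module S₁ N := Module.compHom N (algebraMap S₁ S)
  haveI : IsScalarTower S₁ S N := IsScalarTower.of_algebraMap_smul fun _ _ => rfl
  haveI : IsScalarTower S₀ S₁ N := IsScalarTower.of_algebraMap_smul fun b x => by
    show algebraMap S₁ S (algebraMap S₀ S₁ b) • x = b • x
    rw [← IsScalarTower.algebraMap_apply, algebraMap_smul]
  let F₁ : N₁ →ₗ[S₁] N := LinearMap.liftBaseChange S₁ F
  have hF₁ : IsBaseChange S F₁ := by
    refine IsBaseChange.of_comp (TensorProduct.isBaseChange S₀ M₀ S₁) ?_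
    rw [show (F₁ : N₁ →ₗ[S₀] N) ∘ₗ (TensorProduct.mk S₀ S₁ M₀ 1) = F from LinearMap.ext fun x => by
      show LinearMap.liftBaseChange S₁ F ((1 : S₁) ⊗ₜ x) = F x
      rw [LinearMap.liftBaseChange_tmul, one_smul]]
    exact hF
  obtain ⟨g₁, hg₁⟩ := hs R₁ Algebra.subset_adjoin
  let q₁ := q.comap (algebraMap S₁ S)
  let p₁ := p.comap (algebraMap R₁ R)
  haveI : q₁.LiesOver p₁ := ⟨by
    show p.comap (algebraMap R₁ R) = (q.comap (algebraMap S₁ S)).comap (algebraMap R₁ S₁)
    rw [Ideal.comap_comap, ← IsScalarTower.algebraMap_eq R₁ S₁ S, IsScalarTower.algebraMap_eq R₁ R S,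
      ← Ideal.comap_comap]
    exact congrArg (Ideal.comap _) Ideal.LiesOver.over⟩
  have hg₁' : algebraMap S₁ S g₁ = g := hg₁
  have hk := killed_noetherian (N := N₁) p₁ q₁ g₁
    (killed_of_killed (R₁ := R₁) (S₁ := S₁) (N₁ := N₁) hpo₁ F₁ hF₁ p q g₁ (fun z hz => hg z (hg₁' ▸ hz)))
  intro z hz
  haveI : IsScalarTower R₁ R Q := IsScalarTower.of_algebraMap_smul fun _ _ => rfl
  let T := transfer (R₁ := R₁) (S₁ := S₁) (N₁ := N₁) hpo₁ F₁ hF₁ Q
  obtain ⟨z, rfl⟩ := T.surjective z
  rw [← hg₁', ← transfer_smul, ← map_zero T] at hz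
  obtain ⟨w, hw, hwz⟩ := hk Q z (T.injective hz)
  exact ⟨algebraMap S₁ S w, hw, by rw [← transfer_smul, hwz, map_zero]⟩

end Groth.Agent.Lib.FlatCA.NzdLimit
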