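import Groth.Agent.Lib.FlatCA.WeakAss

/-!
# Associated points of fibres and base change
-/

universe u

open TensorProduct

attribute [local instance] Algebra.TensorProduct.rightAlgebra

namespace Groth.Agent.Lib.FlatCA.FibreAss

section Fibre

variable {A B : Type u} [CommRing A] [CommRing B] [Algebra A B] (N : Type u) [AddCommGroup N] [Module B N]
  (p : Ideal A) [p.IsPrime]

/-- An annihilator in the fibre ring is generated by its preimage. -/
theorem comap_colon (x : _root_.FlatCA.fiberMod p B N) :
    (Submodule.colon (⊥ : Submodule (p.Fiber B) (_root_.FlatCA.fiberMod p B N)) {x}).comap (Impurity.incl p) =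
      Submodule.colon (⊥ : Submodule B (_root_.FlatCA.fiberMod p B N)) {x} := by
  letI : Module A N := Module.compHom N (algebraMap A B)
  haveI : IsScalarTower A B N := IsScalarTower.of_algebraMap_smul fun _ _ => rfl
  ext b
  rw [Ideal.mem_comap, Submodule.mem_colon_singleton, Submodule.mem_bot, Submodule.mem_colon_singleton,
    Submodule.mem_bot, Impurity.incl_smul]

/-- Primes of the fibre ring lie over the point. -/
theorem liesOver_comap (Q : Ideal (p.Fiber B)) [Q.IsPrime] : (Q.comap (Impurity.incl p)).LiesOver p := by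
  have hc : ∀ a : A, Impurity.incl p (algebraMap A B a) = algebraMap A (p.Fiber B) a :=
    (Algebra.TensorProduct.includeRight (R := A) (A := p.ResidueField) (B := B)).commutes
  refine ⟨le_antisymm (fun a ha => ?_) fun a ha => ?_⟩
  · show Impurity.incl p (algebraMap A B a) ∈ Q
    rw [hc, Algebra.TensorProduct.algebraMap_apply, Ideal.algebraMap_residueField_eq_zero.2 ha,
      TensorProduct.zero_tmul]
    exact zero_mem _
  · by_contra hn
    refine Ideal.IsPrime.ne_top (I := Q) inferInstance
      (Ideal.eq_top_of_isUnit_mem _ ?_ (WeakAss.isUnit_algebraMap_fiber p hn))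
    rw [← hc]
    exact ha

/-- The associated points of the fibre are the associated primes over the algebra. -/
theorem assoc_iff (P : Ideal B) [P.IsPrime] [P.LiesOver p] :
    _root_.FlatCA.fiberIdeal p P ∈ associatedPrimes (p.Fiber B) (_root_.FlatCA.fiberMod p B N) ↔
      P ∈ associatedPrimes B (_root_.FlatCA.fiberMod p B N) := by
  obtain ⟨hpr, hcomap⟩ := WeakAss.fiberIdeal_prime p P
  constructor
  · rintro ⟨-, x, hx⟩
    refine ⟨inferInstance, x, ?_⟩
    rw [← comap_colon, ← Ideal.comap_radical, ← hx, hcomap]
  · rintro ⟨-, x, hx⟩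
    refine ⟨hpr, x, ?_⟩
    rw [← comap_colon, ← Ideal.comap_radical] at hx
    rw [← WeakAss.map_comap_incl p (Submodule.colon (⊥ : Submodule (p.Fiber B) _) {x}).radical, ← hx]
    rfl

end Fibre

section BaseChange

variable {A B A' B' : Type u} [CommRing A] [CommRing B] [CommRing A'] [CommRing B'] [Algebra A B]
  [Algebra A A'] [Algebra B B'] [Algebra A' B'] [Algebra A B'] [IsScalarTower A B B'] [IsScalarTower A A' B']
  {N N' : Type u} [AddCommGroup N] [Module B N]
  [AddCommGroup N'] [Module B' N'] [Module B N'] [IsScalarTower B B' N']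

/-- The fibre module embeds, compatibly with the actions, in the fibre module of a base change. -/
theorem exists_injective (hpo : Algebra.IsPushout A B A' B') (f : N →ₗ[B] N') (hf : IsBaseChange B' f)
    (t : Ideal A) [t.IsPrime] (t' : Ideal A') [t'.IsPrime] [t'.LiesOver t] :
    ∃ j : _root_.FlatCA.fiberMod t B N → _root_.FlatCA.fiberMod t' B' N', ∀ (b : B) (x : _root_.FlatCA.fiberMod t B N),
      algebraMap B B' b • j x = 0 ↔ b • x = 0 := by
  letI : Module A N := Module.compHom N (algebraMap A B)
  haveI : IsScalarTower A B N := IsScalarTower.of_algebraMap_smul fun _ _ => rfl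
  letI : Module A' N' := Module.compHom N' (algebraMap A' B')
  haveI : IsScalarTower A' B' N' := IsScalarTower.of_algebraMap_smul fun _ _ => rfl
  letI : Module A N' := Module.compHom N' (algebraMap A B')
  haveI : IsScalarTower A B N' := IsScalarTower.of_algebraMap_smul fun a n => by
    rw [← algebraMap_smul B' (algebraMap A B a) n, ← IsScalarTower.algebraMap_apply]
    rfl
  haveI : IsScalarTower A A' N' := IsScalarTower.of_algebraMap_smul fun a n => by
    show algebraMap A' B' (algebraMap A A' a) • n = algebraMap A B' a • n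
    rw [← IsScalarTower.algebraMap_apply]
  haveI : SMulCommClass A' B N' := ⟨fun a b n => by
    rw [← algebraMap_smul B' a (b • n), ← algebraMap_smul B' b n, smul_comm, algebraMap_smul, algebraMap_smul]⟩
  let φ : t.ResidueField →ₐ[A] t'.ResidueField :=
    Ideal.ResidueField.mapₐ t t' (Algebra.ofId A A') (Ideal.LiesOver.over (p := t) (P := t'))
  obtain ⟨r, hr⟩ : ∃ r : t'.ResidueField →ₗ[A] t.ResidueField, ∀ c, r (φ c) = c := by
    letI := φ.toRingHom.toAlgebra
    haveI : IsScalarTower A t.ResidueField t'.ResidueField :=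
      IsScalarTower.of_algebraMap_eq fun a => (φ.commutes a).symm
    obtain ⟨r, hr⟩ := LinearMap.exists_leftInverse_of_injective (Algebra.linearMap t.ResidueField t'.ResidueField)
      (LinearMap.ker_eq_bot.2 φ.toRingHom.injective)
    exact ⟨r.restrictScalars A, fun c => LinearMap.congr_fun hr c⟩
  -- the `B`-bilinear map on pure tensors
  let g : N ⊗[A] t.ResidueField →ₗ[B] N' ⊗[A'] t'.ResidueField :=
    AlgebraTensorModule.lift
      { toFun := fun n =>
          { toFun := fun c => f n ⊗ₜ[A'] φ c
            map_add' := fun c d => by rw [map_add, TensorProduct.tmul_add]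
            map_smul' := fun a c => by
              rw [RingHom.id_apply, map_smul, ← algebraMap_smul A' a (φ c), TensorProduct.tmul_smul,
                algebraMap_smul] }
        map_add' := fun n m => LinearMap.ext fun c => by
          show f (n + m) ⊗ₜ[A'] φ c = _
          rw [map_add, TensorProduct.add_tmul]; rfl
        map_smul' := fun b n => LinearMap.ext fun c => by
          show f (b • n) ⊗ₜ[A'] φ c = _
          rw [map_smul]; rfl }
  let e' : N' ⊗[A'] t'.ResidueField ≃ₗ[A'] t'.ResidueField ⊗[A'] (A' ⊗[A] N) :=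
    (TensorProduct.comm A' _ _).trans (LinearEquiv.lTensor _ (Impurity.baseChangeEquiv hpo f hf))
  let h : N' ⊗[A'] t'.ResidueField →ₗ[A] N ⊗[A] t.ResidueField :=
    (r.lTensor N).comp ((TensorProduct.comm A t'.ResidueField N).toLinearMap.comp
      (((AlgebraTensorModule.cancelBaseChange A A' A' t'.ResidueField N).restrictScalars A).toLinearMap.comp
        (e'.restrictScalars A).toLinearMap))
  have hb1 : ∀ n, Impurity.baseChangeEquiv (A' := A') hpo f hf (f n) = 1 ⊗ₜ[A] n := fun n => by
    haveI : Algebra.IsPushout A A' B B' := hpo.symm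
    show Algebra.IsPushout.cancelBaseChange A A' B B' N (hf.equiv.symm (f n)) = _
    rw [show hf.equiv.symm (f n) = (1 : B') ⊗ₜ[B] n from hf.equiv.symm_apply_eq.2 (by simp [IsBaseChange.equiv_tmul]),
      Algebra.IsPushout.cancelBaseChange_tmul]
  have hgh : ∀ y, h (g y) = y := by
    intro y
    induction y using TensorProduct.induction_on with
    | zero => simp
    | add a b ha hb => rw [map_add, map_add, ha, hb]
    | tmul n c =>
      show r.lTensor N (TensorProduct.comm A t'.ResidueField N
        (AlgebraTensorModule.cancelBaseChange A A' A' t'.ResidueField N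
          (φ c ⊗ₜ[A'] Impurity.baseChangeEquiv (A' := A') hpo f hf (f n)))) = _
      rw [hb1, AlgebraTensorModule.cancelBaseChange_tmul, one_smul, TensorProduct.comm_tmul,
        LinearMap.lTensor_tmul, hr]
  let e := FiberMod.fiberModEquiv t B N
  let d := FiberMod.fiberModEquiv t' B' N'
  refine ⟨fun x => d.symm (g (e x)), fun b x => ?_⟩
  rw [← map_smul, LinearEquiv.map_eq_zero_iff, algebraMap_smul, ← map_smul, ← map_smul,
    map_eq_zero_iff _ (Function.LeftInverse.injective hgh), LinearEquiv.map_eq_zero_iff]

/-- An associated point of a fibre lifts to every fibre of a base change over it. -/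
theorem exists_assoc_over [Algebra.FiniteType A' B'] (hpo : Algebra.IsPushout A B A' B') (f : N →ₗ[B] N')
    (hf : IsBaseChange B' f) (t : Ideal A) [t.IsPrime] (t' : Ideal A') [t'.IsPrime] [t'.LiesOver t]
    (P : Ideal B) [P.IsPrime] [P.LiesOver t]
    (hP : _root_.FlatCA.fiberIdeal t P ∈ associatedPrimes (t.Fiber B) (_root_.FlatCA.fiberMod t B N)) :
    ∃ (P' : Ideal B') (_ : P'.IsPrime), P'.LiesOver P ∧ P'.LiesOver t' ∧
      _root_.FlatCA.fiberIdeal t' P' ∈ associatedPrimes (t'.Fiber B') (_root_.FlatCA.fiberMod t' B' N') := by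
  letI : Module A' N' := Module.compHom N' (algebraMap A' B')
  haveI : IsScalarTower A' B' N' := IsScalarTower.of_algebraMap_smul fun _ _ => rfl
  obtain ⟨j, hj⟩ := exists_injective hpo f hf t t'
  obtain ⟨-, x, hx⟩ := (assoc_iff N t P).1 hP
  haveI : IsNoetherianRing (t'.Fiber B') := Algebra.FiniteType.isNoetherianRing t'.ResidueField _
  let ψ : B →+* t'.Fiber B' := (Impurity.incl t').comp (algebraMap B B')
  let C := Submodule.colon (⊥ : Submodule (t'.Fiber B') (_root_.FlatCA.fiberMod t' B' N')) {j x}
  have hC : C.comap ψ = Submodule.colon (⊥ : Submodule B (_root_.FlatCA.fiberMod t B N)) {x} := by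
    ext b
    rw [Ideal.mem_comap, Submodule.mem_colon_singleton, Submodule.mem_bot, Submodule.mem_colon_singleton,
      Submodule.mem_bot, ← hj b x]
    exact Iff.of_eq (congrArg (· = 0) (Impurity.incl_smul (p := t') (algebraMap B B' b) (j x)))
  have hmin : P ∈ (C.comap ψ).minimalPrimes := by
    rw [hC, ← Ideal.radical_minimalPrimes, ← hx, Ideal.minimalPrimes_eq_subsingleton_self]
    exact rfl
  obtain ⟨Q, hQ, hQP⟩ := Ideal.exists_minimalPrimes_comap_eq ψ P hmin
  haveI := hQ.1.1
  refine ⟨Q.comap (Impurity.incl t'), inferInstance, ⟨?_⟩, liesOver_comap t' Q, ?_⟩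
  · rw [Ideal.under_def, Ideal.comap_comap]
    exact hQP.symm
  obtain ⟨y, hy⟩ := Submodule.exists_eq_colon_of_mem_minimalPrimes hQ
  refine ⟨?_, y, ?_⟩ <;>
    rw [show _root_.FlatCA.fiberIdeal t' (Q.comap (Impurity.incl t')) = Q from WeakAss.map_comap_incl t' Q]
  · exact inferInstance
  · rw [← hy]
    exact hQ.1.1.radical.symm

end BaseChange

end Groth.Agent.Lib.FlatCA.FibreAss
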