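import Groth.Agent.Lib.FlatCA.NzdLimit
import Mathlib.RingTheory.Ideal.AssociatedPrime.Finiteness

/-!
# Weakly associated points of flat finitely presented modules
-/

noncomputable section

universe u

open TensorProduct

attribute [local instance] Algebra.TensorProduct.rightAlgebra

namespace Groth.Agent.Lib.FlatCA.WeakAss

/-- Every element of a fibre ring becomes integral after a scalar outside the prime. -/
theorem exists_smul_eq_incl {R S : Type u} [CommRing R] [CommRing S] [Algebra R S] (p : Ideal R) [p.IsPrime]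
    (c : p.Fiber S) : ∃ s : R, s ∉ p ∧ ∃ b : S, algebraMap R (p.Fiber S) s * c = Impurity.incl p b := by
  induction c using TensorProduct.induction_on with
  | zero => exact ⟨1, p.primeCompl.one_mem, 0, by rw [mul_zero, map_zero]⟩
  | tmul k b =>
    obtain ⟨a, s, hs, rfl⟩ := IsFractionRing.div_surjective (A := R ⧸ p) k
    obtain ⟨a, rfl⟩ := Ideal.Quotient.mk_surjective a
    obtain ⟨s, rfl⟩ := Ideal.Quotient.mk_surjective s
    have hs' : s ∉ p := fun h =>
      nonZeroDivisors.ne_zero hs (Ideal.Quotient.eq_zero_iff_mem.2 h)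
    refine ⟨s, hs', a • b, ?_⟩
    show _ = (1 : p.ResidueField) ⊗ₜ[R] (a • b)
    rw [Algebra.TensorProduct.algebraMap_apply, Algebra.TensorProduct.tmul_mul_tmul, one_mul,
      ← TensorProduct.smul_tmul, Algebra.smul_def a (1 : p.ResidueField), mul_one]
    congr 1
    rw [← Ideal.Quotient.algebraMap_eq, ← IsScalarTower.algebraMap_apply, ← IsScalarTower.algebraMap_apply,
      mul_div_assoc', mul_div_cancel_left₀ _ fun h => hs' (Ideal.algebraMap_residueField_eq_zero.1 h)]
  | add x y hx hy =>
    obtain ⟨s, hs, b, hb⟩ := hx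
    obtain ⟨t, ht, d, hd⟩ := hy
    refine ⟨s * t, p.primeCompl.mul_mem hs ht, t • b + s • d, ?_⟩
    have hl : ∀ (r : R) (z : S), Impurity.incl p (r • z) = algebraMap R (p.Fiber S) r * Impurity.incl p z := fun r z => by
      rw [← Algebra.smul_def]
      exact map_smul (Algebra.TensorProduct.includeRight (R := R) (A := p.ResidueField) (B := S)) r z
    rw [map_add, hl, hl, map_mul, ← hb, ← hd]
    ring

variable {R S : Type u} [CommRing R] [CommRing S] [Algebra R S]

theorem isUnit_algebraMap_fiber (p : Ideal R) [p.IsPrime] {s : R} (hs : s ∉ p) :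
    IsUnit (algebraMap R (p.Fiber S) s) := by
  rw [Algebra.TensorProduct.algebraMap_apply]
  exact (isUnit_iff_ne_zero.2 fun h0 => hs (Ideal.algebraMap_residueField_eq_zero.1 h0)).map
    (Algebra.TensorProduct.includeLeftRingHom (R := R) (A := p.ResidueField) (B := S))

theorem map_comap_incl (p : Ideal R) [p.IsPrime] (J : Ideal (p.Fiber S)) :
    (J.comap (Impurity.incl p)).map (Impurity.incl p) = J := by
  refine le_antisymm Ideal.map_comap_le fun e he => ?_
  obtain ⟨s, hs, b, hb⟩ := exists_smul_eq_incl p e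
  refine (Ideal.unit_mul_mem_iff_mem _ (isUnit_algebraMap_fiber p hs)).1 (hb ▸ Ideal.mem_map_of_mem _ ?_)
  rw [Ideal.mem_comap, ← hb]
  exact J.mul_mem_left _ he

/-- The ideal generated by a prime over `p` in the fibre ring is prime, with the prime as preimage. -/
theorem fiberIdeal_prime (p : Ideal R) [p.IsPrime] (q : Ideal S) [q.IsPrime] [q.LiesOver p] :
    (_root_.FlatCA.fiberIdeal p q).IsPrime ∧ (_root_.FlatCA.fiberIdeal p q).comap (Impurity.incl p) = q := by
  let Q : PrimeSpectrum (p.Fiber S) := PrimeSpectrum.preimageEquivFiber R S ⟨p, inferInstance⟩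
    ⟨⟨q, inferInstance⟩, PrimeSpectrum.ext (Ideal.LiesOver.over (p := p) (P := q)).symm⟩
  have hQ : Q.asIdeal.comap (Impurity.incl p) = q :=
    congrArg (fun z => z.1.asIdeal) ((PrimeSpectrum.preimageEquivFiber R S ⟨p, inferInstance⟩).symm_apply_apply
      ⟨⟨q, inferInstance⟩, PrimeSpectrum.ext (Ideal.LiesOver.over (p := p) (P := q)).symm⟩)
  have h : _root_.FlatCA.fiberIdeal p q = Q.asIdeal := by
    conv_lhs => rw [← hQ]
    exact map_comap_incl p Q.asIdeal
  exact ⟨h ▸ Q.2, by rw [h, hQ]⟩

variable [Algebra.FiniteType R S] {N : Type u} [AddCommGroup N] [Module S N] [Module R N] [IsScalarTower R S N]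
  [Module.Finite S N]

omit [Module.Finite S N] in
/-- Avoiding the associated points below `q` gives regularity on the fibre near `q`. -/
theorem killed_fibre_of_avoid (p : Ideal R) [p.IsPrime] (q : Ideal S) [q.IsPrime] [q.LiesOver p] (g : S)
    (hg : ∀ r ∈ associatedPrimes (p.Fiber S) (_root_.FlatCA.fiberMod p S N),
      r ≤ _root_.FlatCA.fiberIdeal p q → Impurity.incl p g ∉ r) :
    ∀ z : N ⊗[R] p.ResidueField, g • z = 0 → ∃ w ∉ q, w • z = 0 := by
  intro z hz
  by_contra hcon
  push Not at hcon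
  let e := FiberMod.fiberModEquiv p S N
  let x : _root_.FlatCA.fiberMod p S N := e.symm z
  haveI : IsNoetherianRing (p.Fiber S) := Algebra.FiniteType.isNoetherianRing p.ResidueField _
  have hle : Submodule.colon (⊥ : Submodule (p.Fiber S) (_root_.FlatCA.fiberMod p S N)) {x} ≤
      _root_.FlatCA.fiberIdeal p q := by
    intro c hc
    rw [Submodule.mem_colon_singleton, Submodule.mem_bot] at hc
    obtain ⟨s, hs, b, hb⟩ := exists_smul_eq_incl p c
    refine (Ideal.unit_mul_mem_iff_mem _ (isUnit_algebraMap_fiber p hs)).1 (hb ▸ Ideal.mem_map_of_mem _ ?_)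
    have h1 : b • x = 0 := by rw [← Impurity.incl_smul, ← hb, mul_smul, hc, smul_zero]
    by_contra hbq
    refine hcon b hbq ?_
    have := congrArg e h1
    rwa [map_smul, map_zero, e.apply_symm_apply] at this
  haveI := (fiberIdeal_prime p q).1
  obtain ⟨r, hr, hrq⟩ := Ideal.exists_minimalPrimes_le hle
  obtain ⟨y, hy⟩ := Submodule.exists_eq_colon_of_mem_minimalPrimes hr
  refine hg r ⟨hr.1.1, y, ?_⟩ hrq (hr.1.2 ?_)
  · rw [← hy]; exact hr.1.1.radical.symm
  · rw [Submodule.mem_colon_singleton, Submodule.mem_bot, Impurity.incl_smul]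
    apply e.injective
    rw [map_smul, map_zero, e.apply_symm_apply, hz]

/-- Weakly associated points of `N ⊗ M` are associated points of the fibres. -/
theorem mem_fibre_of_minimal [Algebra.FinitePresentation R S] [Module.FinitePresentation S N] [Module.Flat R N]
    (M : Type u) [AddCommGroup M] [Module R M] (p : Ideal R) [p.IsPrime] (q : Ideal S) [q.IsPrime] [q.LiesOver p]
    (z : N ⊗[R] M) (hq : q ∈ (Submodule.span S {z}).annihilator.minimalPrimes) :
    _root_.FlatCA.fiberIdeal p q ∈ associatedPrimes (p.Fiber S) (_root_.FlatCA.fiberMod p S N) := by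
  by_contra hnot
  haveI : IsNoetherianRing (p.Fiber S) := Algebra.FiniteType.isNoetherianRing p.ResidueField _
  haveI := (fiberIdeal_prime p q).1
  haveI : Module.Finite (p.Fiber S) (_root_.FlatCA.fiberMod p S N) := Module.Finite.base_change S (p.Fiber S) N
  let rs := {r ∈ associatedPrimes (p.Fiber S) (_root_.FlatCA.fiberMod p S N) | r ≤ _root_.FlatCA.fiberIdeal p q}
  have hrs : rs.Finite := (associatedPrimes.finite (p.Fiber S) _).subset fun r hr => hr.1
  obtain ⟨g, hgq, hg⟩ : ∃ g ∈ q, ∀ r ∈ rs, Impurity.incl p g ∉ r := by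
    by_contra hcon
    push Not at hcon
    have hsub : (q : Set S) ⊆ ⋃ r ∈ (↑hrs.toFinset : Set (Ideal (p.Fiber S))), (r.comap (Impurity.incl p) : Set S) := by
      intro g hg
      obtain ⟨r, hr, hgr⟩ := hcon g hg
      exact Set.mem_iUnion₂.2 ⟨r, hrs.mem_toFinset.2 hr, hgr⟩
    obtain ⟨r, hr, hle⟩ := (Ideal.subset_union_prime ⊥ ⊥ fun r hr _ _ =>
      haveI := (hrs.mem_toFinset.1 hr).1.1
      Ideal.IsPrime.comap _).1 hsub
    have hr' := hrs.mem_toFinset.1 hr
    refine hnot ((le_antisymm ?_ hr'.2) ▸ hr'.1)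
    exact (Ideal.map_mono hle).trans Ideal.map_comap_le
  have hk := NzdLimit.killed_of_fibre p q g
    (killed_fibre_of_avoid p q g fun r hr hrq => hg r ⟨hr, hrq⟩) M
  obtain ⟨n, w, hw, hwz⟩ : ∃ (n : ℕ), ∃ w ∉ q, (g ^ n * w) • z = 0 := by
    by_contra hcon
    push Not at hcon
    obtain ⟨P, hP, hle, hd⟩ := Ideal.exists_le_prime_disjoint (Submodule.span S {z}).annihilator
      (Submonoid.powers g ⊔ q.primeCompl) (by
        rw [Set.disjoint_left]
        intro c hc hc'
        obtain ⟨a, ⟨n, rfl⟩, w, hw, rfl⟩ := Submonoid.mem_sup.1 hc'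
        exact hcon n w hw ((Submodule.mem_annihilator_span_singleton _ _).1 hc))
    have hPq : P ≤ q := fun c hc => by
      by_contra hcq
      exact Set.disjoint_left.1 hd hc (Submonoid.mem_sup_right hcq)
    exact Set.disjoint_left.1 hd (hq.2 ⟨hP, hle⟩ hPq hgq) (Submonoid.mem_sup_left (Submonoid.mem_powers g))
  induction n generalizing w with
  | zero =>
    rw [pow_zero, one_mul] at hwz
    exact hw (hq.1.2 ((Submodule.mem_annihilator_span_singleton _ _).2 hwz))
  | succ n ih =>
    rw [pow_succ', mul_assoc, mul_smul] at hwz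
    obtain ⟨w', hw', hw'z⟩ := hk _ hwz
    rw [smul_smul, show w' * (g ^ n * w) = g ^ n * (w' * w) by ring] at hw'z
    exact ih (w' * w) (fun h => (Ideal.IsPrime.mem_or_mem inferInstance h).elim hw' hw) hw'z

omit [Algebra.FiniteType R S] in
/-- An element killed by a flat algebra is killed away from every covered prime. -/
theorem exists_kill_of_flat {S' X : Type u} [CommRing S'] [Algebra S S'] [Module.Flat S S'] [AddCommGroup X]
    [Module S X] (z : X) (hz : (1 : S') ⊗ₜ[S] z = 0) (q : Ideal S) (q' : Ideal S') [q'.IsPrime]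
    (hq' : q'.comap (algebraMap S S') = q) : ∃ w ∉ q, w • z = 0 := by
  by_contra hcon
  push Not at hcon
  let a := LinearMap.ker (LinearMap.toSpanSingleton S X z)
  let ι : (S ⧸ a) →ₗ[S] X := Submodule.liftQ a (LinearMap.toSpanSingleton S X z) le_rfl
  have hι : Function.Injective ι := LinearMap.ker_eq_bot.1 (Submodule.ker_liftQ_eq_bot _ _ _ le_rfl)
  have h1 : (1 : S') ⊗ₜ[S] (Ideal.Quotient.mk a 1) = 0 := by
    apply Module.Flat.lTensor_preserves_injective_linearMap (M := S') ι hι
    rw [LinearMap.lTensor_tmul, map_zero]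
    show (1 : S') ⊗ₜ[S] ((1 : S) • z) = 0
    rw [one_smul, hz]
  have h2 := congrArg (TensorProduct.tensorQuotEquivQuotSMul S' a) h1
  rw [TensorProduct.tensorQuotEquivQuotSMul_tmul_mk, one_smul, map_zero, Submodule.Quotient.mk_eq_zero,
    Ideal.smul_top_eq_map] at h2
  refine Ideal.IsPrime.ne_top (inferInstance : q'.IsPrime) ((Ideal.eq_top_iff_one _).2 (Ideal.map_le_iff_le_comap.2 ?_ h2))
  intro c hc
  rw [hq']
  by_contra hcq
  exact hcon c hcq (LinearMap.toSpanSingleton_apply S X z c ▸ hc)

end Groth.Agent.Lib.FlatCA.WeakAss
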