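import Groth.Agent.Lib.FlatCA.DescendElements
import Groth.Agent.Lib.FlatCA.WeakAss
import Groth.Agent.Lib.FlatCA.FibreAss
import Groth.Agent.Lib.LocalFlat.UnivInjective
import Mathlib.Algebra.Module.Torsion.Basic

/-!
# Weakly associated primes of `N ⊗ M` lie over weakly associated primes of `M`
-/

noncomputable section

universe u

open TensorProduct

attribute [local instance] Algebra.TensorProduct.rightAlgebra

namespace Groth.Agent.Lib.FlatCA.WeakAssBC

section Basic

variable {S X : Type u} [CommRing S] [AddCommGroup X] [Module S X]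

/-- Minimality over an annihilator, elementwise. -/
theorem nil_of_minimal (q : Ideal S) [q.IsPrime] (z : X) (hq : q ∈ (Submodule.span S {z}).annihilator.minimalPrimes) :
    (∀ w ∉ q, w • z ≠ 0) ∧ ∀ c ∈ q, ∃ n : ℕ, ∃ w ∉ q, (w * c ^ n) • z = 0 := by
  refine ⟨fun w hw h => hw (hq.1.2 ((Submodule.mem_annihilator_span_singleton _ _).2 h)), fun c hc => ?_⟩
  by_contra hcon
  push Not at hcon
  obtain ⟨P, hP, hle, hd⟩ := Ideal.exists_le_prime_disjoint (Submodule.span S {z}).annihilator
    (Submonoid.powers c ⊔ q.primeCompl) (by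
      rw [Set.disjoint_left]
      intro a ha ha'
      obtain ⟨b, ⟨n, rfl⟩, w, hw, rfl⟩ := Submonoid.mem_sup.1 ha'
      exact hcon n w hw (by rw [mul_comm]; exact (Submodule.mem_annihilator_span_singleton _ _).1 ha))
  have hPq : P ≤ q := fun a ha => by
    by_contra haq
    exact Set.disjoint_left.1 hd ha (Submonoid.mem_sup_right haq)
  exact Set.disjoint_left.1 hd (hq.2 ⟨hP, hle⟩ hPq hc) (Submonoid.mem_sup_left (Submonoid.mem_powers c))

/-- Finitely many nilpotently acting elements can be made to kill a multiple which survives at the prime. -/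
theorem exists_killed (q : Ideal S) [q.IsPrime] (F : Finset S) (hF : (F : Set S) ⊆ q) (z : X)
    (hz : ∀ w ∉ q, w • z ≠ 0) (hnil : ∀ c ∈ F, ∃ n : ℕ, ∃ w ∉ q, (w * c ^ n) • z = 0) :
    ∃ b : S, (∀ f ∈ F, f • b • z = 0) ∧ ∀ w ∉ q, w • b • z ≠ 0 := by
  classical
  induction F using Finset.induction_on with
  | empty => exact ⟨1, by simp, by simpa using hz⟩
  | insert c F hcF ih =>
    rw [Finset.coe_insert, Set.insert_subset_iff] at hF
    obtain ⟨b, hb, hb'⟩ := ih hF.2 fun d hd => hnil d (Finset.mem_insert_of_mem hd)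
    obtain ⟨n, w, hw, hwn⟩ := hnil c (Finset.mem_insert_self c F)
    have hex : ∃ n : ℕ, ∃ w ∉ q, (w * c ^ n) • b • z = 0 := ⟨n, w, hw, by rw [smul_comm, hwn, smul_zero]⟩
    obtain ⟨w', hw', hw'n⟩ := Nat.find_spec hex
    rcases Nat.eq_zero_or_eq_succ_pred (Nat.find hex) with h0 | hs
    · rw [h0, pow_zero, mul_one] at hw'n
      exact absurd hw'n (hb' w' hw')
    refine ⟨w' * c ^ (Nat.find hex - 1) * b, fun f hf => ?_, fun v hv h => ?_⟩
    · rcases Finset.mem_insert.1 hf with rfl | hf
      · rw [smul_smul, show f * (w' * f ^ (Nat.find hex - 1) * b) = w' * f ^ (Nat.find hex - 1 + 1) * b by ring,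
          show Nat.find hex - 1 + 1 = Nat.find hex from hs.symm, mul_smul, hw'n]
      · rw [mul_smul, smul_comm, hb f hf, smul_zero]
    · refine Nat.find_min hex (Nat.sub_lt (Nat.pos_of_ne_zero fun h0 => by simp [h0] at hs) one_pos)
        ⟨v * w', fun h' => (Ideal.IsPrime.mem_or_mem inferInstance h').elim hv hw', ?_⟩
      rw [smul_smul] at h ⊢
      rwa [show v * w' * c ^ (Nat.find hex - 1) * b = v * (w' * c ^ (Nat.find hex - 1) * b) by ring]

/-- A vector killed by a prime and surviving at it is detected by a functional into the residue field. -/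
theorem exists_functional (Q : Ideal S) [Q.IsPrime] (hX : ∀ c ∈ Q, ∀ x : X, c • x = 0) (v : X)
    (hv : ∀ a ∉ Q, a • v ≠ 0) : ∃ ℓ : X →ₗ[S] Q.ResidueField, ℓ v ≠ 0 := by
  let O := Localization.AtPrime Q
  let XQ := LocalizedModule Q.primeCompl X
  let l : X →ₗ[S] XQ := LocalizedModule.mkLinearMap Q.primeCompl X
  have hkill : Module.IsTorsionBySet O XQ (IsLocalRing.maximalIdeal O : Set O) := by
    rintro y ⟨c, hc⟩
    obtain ⟨⟨x, s⟩, rfl⟩ := IsLocalizedModule.mk'_surjective Q.primeCompl l y
    obtain ⟨⟨a, t⟩, ht⟩ := IsLocalization.surj Q.primeCompl c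
    have ha : a ∈ Q := (IsLocalization.AtPrime.to_map_mem_maximal_iff O Q a).1 (by
      rw [← ht]
      exact Ideal.mul_mem_right _ _ hc)
    show c • IsLocalizedModule.mk' l x s = 0
    refine ((IsLocalization.map_units O t).smul_eq_zero).1 ?_
    rw [smul_smul, mul_comm, ht, algebraMap_smul, ← IsLocalizedModule.mk'_smul, hX a ha, IsLocalizedModule.mk'_zero]
  letI : Module Q.ResidueField XQ := hkill.module
  haveI : IsScalarTower S Q.ResidueField XQ := IsScalarTower.of_algebraMap_smul fun a x => by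
    rw [IsScalarTower.algebraMap_apply S O Q.ResidueField]
    exact (hkill.mk_smul (algebraMap S O a) x).trans (algebraMap_smul O a x)
  have hv0 : l v ≠ 0 := fun h => by
    obtain ⟨⟨a, ha⟩, hav⟩ := (IsLocalizedModule.eq_zero_iff Q.primeCompl l).1 h
    exact hv a ha hav
  obtain ⟨φ, hφ⟩ := Module.Projective.exists_dual_ne_zero Q.ResidueField hv0
  exact ⟨(φ.restrictScalars S).comp l, hφ⟩

/-- Elements killed by finitely many scalars come from the torsion, for a flat module. -/
theorem mem_range_of_killed {R N M : Type u} [CommRing R] [AddCommGroup N] [Module R N] [Module.Flat R N]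
    [AddCommGroup M] [Module R M] (A : Finset R) (W : Submodule R M) (hW : ∀ m, m ∈ W ↔ ∀ a ∈ A, a • m = 0)
    (z : N ⊗[R] M) (hz : ∀ a ∈ A, a • z = 0) : ∃ y : N ⊗[R] W, W.subtype.lTensor N y = z := by
  classical
  let g : M →ₗ[R] (A → M) := LinearMap.pi fun a => LinearMap.lsmul R M a.1
  have hex : Function.Exact W.subtype g := fun m => by
    refine ⟨fun h => ⟨⟨m, (hW m).2 fun a ha => congrFun h ⟨a, ha⟩⟩, rfl⟩, ?_⟩
    rintro ⟨w, rfl⟩
    exact funext fun a => (hW _).1 w.2 a.1 a.2
  refine (Module.Flat.lTensor_exact N hex z).1 ?_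
  apply (TensorProduct.piRight R R N fun _ : A => M).injective
  rw [map_zero]
  funext a
  have key : ∀ z : N ⊗[R] M, (TensorProduct.piRight R R N fun _ : A => M) (g.lTensor N z) a = a.1 • z := fun z => by
    induction z using TensorProduct.induction_on with
    | zero => simp
    | add x y hx hy => simp only [map_add, Pi.add_apply, hx, hy, smul_add]
    | tmul n m => simp [g]
  rw [key, hz a.1 a.2]
  rfl

/-- A multiplier which is injective modulo the maximal ideal of a free algebra is injective on all base changes. -/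
theorem eq_zero_of_smul_eq_zero {C E W : Type u} [CommRing C] [IsLocalRing C] [CommRing E] [Algebra C E]
    [Module.Free C E] [AddCommGroup W] [Module C W] (σ : E)
    (hσ : ∀ e : E, σ * e ∈ IsLocalRing.maximalIdeal C • (⊤ : Submodule C E) →
      e ∈ IsLocalRing.maximalIdeal C • (⊤ : Submodule C E))
    (y : E ⊗[C] W) (hy : σ • y = 0) : y = 0 := by
  let u : E →ₗ[C] E := (LinearMap.lsmul E E σ).restrictScalars C
  let d := TensorProduct.quotTensorEquivQuotSMul E (IsLocalRing.maximalIdeal C)
  have hu : Function.Injective (u.lTensor (IsLocalRing.ResidueField C)) := by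
    show Function.Injective (u.lTensor (C ⧸ IsLocalRing.maximalIdeal C))
    refine (injective_iff_map_eq_zero _).2 fun x hx => ?_
    obtain ⟨x, rfl⟩ := d.symm.surjective x
    obtain ⟨e, rfl⟩ := Submodule.Quotient.mk_surjective _ x
    rw [LinearEquiv.map_eq_zero_iff, Submodule.Quotient.mk_eq_zero]
    refine hσ e ((Submodule.Quotient.mk_eq_zero _).1 (d.symm.map_eq_zero_iff.1 ?_))
    rw [← hx, TensorProduct.quotTensorEquivQuotSMul_symm_mk, TensorProduct.quotTensorEquivQuotSMul_symm_mk,
      LinearMap.lTensor_tmul]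
    rfl
  apply Groth.Agent.Lib.LocalFlat.UnivInjective.rTensor_injective_of_projective u hu W
  rw [map_zero, ← FiberMod.smul_eq_rTensor, hy]

end Basic

section Core

variable {R S R₁ S₁ N N₁ W : Type u} [CommRing R] [CommRing S] [Algebra R S] [CommRing R₁] [CommRing S₁]
  [Algebra R₁ R] [Algebra R₁ S₁] [Algebra S₁ S] [Algebra R₁ S] [IsScalarTower R₁ R S] [IsScalarTower R₁ S₁ S]
  [AddCommGroup N] [Module S N] [Module R N] [IsScalarTower R S N]
  [AddCommGroup N₁] [Module S₁ N₁] [Module R₁ N₁] [IsScalarTower R₁ S₁ N₁] [Module S₁ N] [IsScalarTower S₁ S N]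
  [AddCommGroup W] [Module R W]

set_option backward.isDefEq.respectTransparency false in
/-- The heart of the matter: over a model where the prime of the fibre is defined, a nonzero element
killed by it gives a nonzero element of the coefficient module killed nilpotently by the base prime. -/
theorem exists_nil_of_killed (hpo : Algebra.IsPushout R₁ R S₁ S) (F : N₁ →ₗ[S₁] N) (hF : IsBaseChange S F)
    (p : Ideal R) [p.IsPrime] (q : Ideal S) [q.IsPrime] [q.LiesOver p] (G : Finset S₁)
    (hG : (Ideal.span (G : Set S₁)).map ((Impurity.incl p).comp (algebraMap S₁ S)) = _root_.FlatCA.fiberIdeal p q)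
    {C : Type u} [CommRing C] [IsLocalRing C] [Algebra R C] [Algebra R₁ C] [IsScalarTower R₁ R C]
    [Algebra (p.comap (algebraMap R₁ R)).ResidueField C] [IsScalarTower R₁ (p.comap (algebraMap R₁ R)).ResidueField C]
    [Module C W] [IsScalarTower R C W]
    (hCmax : ∀ a ∈ p, algebraMap R C a ∈ IsLocalRing.maximalIdeal C)
    (hCfrac : ∀ c : C, ∃ u ∉ p, ∃ a : R, IsUnit (algebraMap R C u) ∧ algebraMap R C u * c = algebraMap R C a)
    (gC : C →+* q.ResidueField) (hgC : ∀ a : R, gC (algebraMap R C a) = algebraMap R q.ResidueField a)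
    (hgCm : ∀ c ∈ IsLocalRing.maximalIdeal C, gC c = 0)
    (z : N ⊗[R] W) (hzG : ∀ g ∈ G, algebraMap S₁ S g • z = 0) (hz : ∀ w ∉ q, w • z ≠ 0)
    (hnil : ∀ a ∈ p, ∃ n : ℕ, ∃ w ∉ q, (w * algebraMap R S a ^ n) • z = 0) :
    ∃ x : W, x ≠ 0 ∧ ∀ a ∈ p, ∃ n : ℕ, a ^ n • x = 0 := by
  classical
  let p₁ := p.comap (algebraMap R₁ R)
  let q₁ := q.comap (algebraMap S₁ S)
  haveI : q₁.LiesOver p₁ := ⟨by
    show p.comap (algebraMap R₁ R) = (q.comap (algebraMap S₁ S)).comap (algebraMap R₁ S₁)
    rw [Ideal.comap_comap, ← IsScalarTower.algebraMap_eq R₁ S₁ S, IsScalarTower.algebraMap_eq R₁ R S,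
      ← Ideal.comap_comap]
    exact congrArg (Ideal.comap _) Ideal.LiesOver.over⟩
  let k := p₁.ResidueField
  let Fib := p₁.Fiber S₁
  let Q : Ideal Fib := _root_.FlatCA.fiberIdeal p₁ q₁
  obtain ⟨hQ, hQc⟩ := WeakAss.fiberIdeal_prime p₁ q₁
  haveI : Q.IsPrime := hQ
  let L := Q.ResidueField
  letI iAkL : Algebra k L := ((algebraMap Fib L).comp (algebraMap k Fib)).toAlgebra
  letI : Module k L := iAkL.toModule
  have hkFL : ∀ c : k, algebraMap k L c = algebraMap Fib L (algebraMap k Fib c) := fun _ => rfl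
  haveI : IsScalarTower R₁ k L := IsScalarTower.of_algebraMap_eq fun a =>
    (IsScalarTower.algebraMap_apply R₁ Fib L a).trans (congrArg _ (IsScalarTower.algebraMap_apply R₁ k Fib a))
  letI iAkC : Algebra k C := ‹Algebra (p.comap (algebraMap R₁ R)).ResidueField C›
  haveI : IsScalarTower R₁ k C := ‹IsScalarTower R₁ (p.comap (algebraMap R₁ R)).ResidueField C›
  letI : Module k W := Module.compHom W (algebraMap k C)
  haveI : IsScalarTower k C W := IsScalarTower.of_algebraMap_smul fun _ _ => rfl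
  letI : Module R₁ W := Module.compHom W (algebraMap R₁ R)
  haveI : IsScalarTower R₁ R W := IsScalarTower.of_algebraMap_smul fun _ _ => rfl
  have hR₁C : ∀ (a : R₁) (x : W), algebraMap R₁ C a • x = a • x := fun a x => by
    show algebraMap R₁ C a • x = algebraMap R₁ R a • x
    rw [IsScalarTower.algebraMap_apply R₁ R C, algebraMap_smul]
  haveI : IsScalarTower R₁ k W := IsScalarTower.of_algebraMap_smul fun a x => by
    show algebraMap k C (algebraMap R₁ k a) • x = a • x
    rw [← IsScalarTower.algebraMap_apply, hR₁C]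
  -- the free `C`-algebra `E` and the map from `S`
  let E := C ⊗[k] L
  let jL : L →+* E := (Algebra.TensorProduct.includeRight : L →ₐ[k] E).toRingHom
  let fR : R →+* E := (algebraMap C E).comp (algebraMap R C)
  letI : Algebra R₁ E := (fR.comp (algebraMap R₁ R)).toAlgebra
  have hjk : ∀ a : R₁, jL (algebraMap R₁ L a) = fR (algebraMap R₁ R a) := fun a => by
    show _ = algebraMap C E (algebraMap R C (algebraMap R₁ R a))
    rw [← IsScalarTower.algebraMap_apply R₁ R C, IsScalarTower.algebraMap_apply R₁ k C,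
      IsScalarTower.algebraMap_apply R₁ k L]
    exact (Algebra.TensorProduct.includeRight : L →ₐ[k] E).commutes _
  haveI : Algebra.IsPushout R₁ R S₁ S := hpo
  let π : S →+* E := (Algebra.pushoutDesc S (R := R₁)
    ({ toRingHom := fR, commutes' := fun _ => rfl } : R →ₐ[R₁] E)
    ({ toRingHom := jL.comp (algebraMap S₁ L),
       commutes' := fun a => by
        show jL (algebraMap S₁ L (algebraMap R₁ S₁ a)) = fR (algebraMap R₁ R a)
        rw [← IsScalarTower.algebraMap_apply R₁ S₁ L, hjk] } : S₁ →ₐ[R₁] E) fun _ _ => mul_comm _ _).toRingHom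
  have hπR : ∀ a : R, π (algebraMap R S a) = fR a := fun a => Algebra.pushoutDesc_left S _ _ _ a
  have hπS : ∀ b : S₁, π (algebraMap S₁ S b) = jL (algebraMap S₁ L b) := fun b =>
    Algebra.pushoutDesc_right S _ _ _ b
  -- the map to `κ(q)`
  let φq := Ideal.ResidueField.mapₐ p q (Algebra.ofId R S) Ideal.LiesOver.over
  let ψ := Ideal.ResidueField.mapₐ p₁ p (Algebra.ofId R₁ R) rfl
  letI : Algebra k q.ResidueField := (φq.toRingHom.comp ψ.toRingHom).toAlgebra
  have hkq : ∀ a : R₁, algebraMap k q.ResidueField (algebraMap R₁ k a) = algebraMap R₁ q.ResidueField a := fun a => by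
    show φq (ψ (algebraMap R₁ k a)) = _
    rw [ψ.commutes, IsScalarTower.algebraMap_apply R₁ R p.ResidueField, φq.commutes,
      ← IsScalarTower.algebraMap_apply]
  let gF : Fib →ₐ[R₁] q.ResidueField := Algebra.TensorProduct.lift ((φq.restrictScalars R₁).comp ψ)
    (IsScalarTower.toAlgHom R₁ S₁ q.ResidueField) fun _ _ => Commute.all _ _
  have hkF : ∀ c : k, gF (algebraMap k Fib c) = algebraMap k q.ResidueField c := fun c => by
    show gF (c ⊗ₜ[R₁] (1 : S₁)) = _
    rw [Algebra.TensorProduct.lift_tmul, map_one, mul_one]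
    rfl
  have hgFS : ∀ b : S₁, gF (Impurity.incl p₁ b) = algebraMap S₁ q.ResidueField b := fun b => by
    show gF ((1 : k) ⊗ₜ[R₁] b) = _
    rw [Algebra.TensorProduct.lift_tmul, map_one, one_mul]
    rfl
  have hgF : RingHom.ker gF.toRingHom = Q := by
    rw [← WeakAss.map_comap_incl p₁ (RingHom.ker gF.toRingHom)]
    refine congrArg (Ideal.map _) (Ideal.ext fun b => ?_)
    rw [Ideal.mem_comap, RingHom.mem_ker]
    show gF (Impurity.incl p₁ b) = 0 ↔ _
    rw [hgFS, IsScalarTower.algebraMap_apply S₁ S q.ResidueField, Ideal.algebraMap_residueField_eq_zero]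
    rfl
  let gL : L →+* q.ResidueField := Ideal.ResidueField.lift Q gF.toRingHom hgF.ge fun a ha =>
    isUnit_iff_ne_zero.2 fun h => ha (hgF ▸ RingHom.mem_ker.2 h)
  have hgL : ∀ a : Fib, gL (algebraMap Fib L a) = gF a := fun a => Ideal.ResidueField.lift_algebraMap _ _ _ _ a
  let η : E →ₐ[k] q.ResidueField := Algebra.TensorProduct.lift
    ({ toRingHom := gC,
       commutes' := fun c => by
        have : gC.comp (algebraMap k C) = algebraMap k q.ResidueField := Ideal.ResidueField.ringHom_ext <|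
          RingHom.ext fun a => by
            show gC (algebraMap k C (algebraMap R₁ k a)) = algebraMap k q.ResidueField (algebraMap R₁ k a)
            rw [← IsScalarTower.algebraMap_apply, IsScalarTower.algebraMap_apply R₁ R C, hgC, hkq,
              ← IsScalarTower.algebraMap_apply]
        exact RingHom.congr_fun this c } : C →ₐ[k] q.ResidueField)
    ({ toRingHom := gL,
       commutes' := fun c => by
        show gL (algebraMap k L c) = _
        rw [hkFL, hgL, hkF] } : L →ₐ[k] q.ResidueField)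
    fun _ _ => Commute.all _ _
  have hη : ∀ a : S, η (π a) = algebraMap S q.ResidueField a := fun a => by
    induction a using hpo.out.inductionOn with
    | zero => simp
    | add x y hx hy => rw [map_add, map_add, map_add, hx, hy]
    | tmul b =>
      show η (π (algebraMap S₁ S b)) = _
      rw [hπS]
      show η ((1 : C) ⊗ₜ[k] algebraMap S₁ L b) = _
      rw [Algebra.TensorProduct.lift_tmul, map_one, one_mul]
      show gL (algebraMap S₁ L b) = _
      rw [IsScalarTower.algebraMap_apply S₁ Fib L, hgL]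
      refine (hgFS b).trans ?_
      rw [IsScalarTower.algebraMap_apply S₁ S q.ResidueField]
      rfl
    | smul r x hx =>
      rw [Algebra.smul_def, map_mul, map_mul, map_mul, hx, hπR]
      congr 1
      show η (algebraMap R C r ⊗ₜ[k] (1 : L)) = _
      rw [Algebra.TensorProduct.lift_tmul, map_one, mul_one, ← IsScalarTower.algebraMap_apply R S q.ResidueField]
      exact hgC r
  let mE : Ideal E := (IsLocalRing.maximalIdeal C).map (algebraMap C E)
  have hmE : ∀ e ∈ mE, η e = 0 := fun e he => by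
    refine RingHom.mem_ker.1 (Ideal.map_le_iff_le_comap.2 (fun c hc => ?_) he : e ∈ RingHom.ker η.toRingHom)
    show η (c ⊗ₜ[k] (1 : L)) = 0
    rw [Algebra.TensorProduct.lift_tmul, map_one, mul_one]
    exact hgCm c hc
  -- `q` lands in the maximal ideal
  have hqm : ∀ b ∈ q, π b ∈ mE := by
    let μ : p.ResidueField →+* E ⧸ mE := Ideal.ResidueField.lift p ((Ideal.Quotient.mk mE).comp fR)
      (fun a ha => Ideal.Quotient.eq_zero_iff_mem.2 (Ideal.mem_map_of_mem _ (hCmax a ha)))
      fun a ha => by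
        obtain ⟨u, hu, a', hua, -⟩ : ∃ u ∉ p, ∃ a' : R, IsUnit (algebraMap R C u) ∧ True := by
          obtain ⟨u, hu, a', h1, -⟩ := hCfrac 1
          exact ⟨u, hu, a', h1, trivial⟩
        show IsUnit (Ideal.Quotient.mk mE (algebraMap C E (algebraMap R C a)))
        refine ((?_ : IsUnit (algebraMap R C a)).map (algebraMap C E)).map (Ideal.Quotient.mk mE)
        by_contra hnu
        have : gC (algebraMap R C a) = 0 := hgCm _ ((IsLocalRing.mem_maximalIdeal _).2 hnu)
        rw [hgC, IsScalarTower.algebraMap_apply R S q.ResidueField, Ideal.algebraMap_residueField_eq_zero] at this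
        exact ha ((Ideal.LiesOver.over (p := p) (P := q)).ge this)
    let χ : p.Fiber S →ₐ[R] E ⧸ mE := Algebra.TensorProduct.lift
      ({ toRingHom := μ, commutes' := fun a => Ideal.ResidueField.lift_algebraMap _ _ _ _ a } : p.ResidueField →ₐ[R] E ⧸ mE)
      ({ toRingHom := (Ideal.Quotient.mk mE).comp π,
         commutes' := fun a => congrArg (Ideal.Quotient.mk mE) (hπR a) } : S →ₐ[R] E ⧸ mE)
      fun _ _ => Commute.all _ _
    have hχ : ∀ b : S, χ (Impurity.incl p b) = Ideal.Quotient.mk mE (π b) := fun b => by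
      show χ ((1 : p.ResidueField) ⊗ₜ[R] b) = _
      rw [Algebra.TensorProduct.lift_tmul, map_one, one_mul]
      rfl
    intro b hb
    rw [← Ideal.Quotient.eq_zero_iff_mem, ← hχ]
    have hle : (Ideal.span (G : Set S₁)).map ((Impurity.incl p).comp (algebraMap S₁ S)) ≤ RingHom.ker χ.toRingHom := by
      rw [Ideal.map_span, Ideal.span_le]
      rintro _ ⟨g, hg, rfl⟩
      show χ (Impurity.incl p (algebraMap S₁ S g)) = 0
      have hgq : Impurity.incl p (algebraMap S₁ S g) ∈ _root_.FlatCA.fiberIdeal p q :=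
        hG ▸ Ideal.mem_map_of_mem ((Impurity.incl p).comp (algebraMap S₁ S)) (Ideal.subset_span hg)
      have hgq' : algebraMap S₁ S g ∈ q := (WeakAss.fiberIdeal_prime p q).2.le hgq
      rw [hχ, hπS]
      have : algebraMap S₁ L g = 0 := by
        rw [IsScalarTower.algebraMap_apply S₁ Fib L, Ideal.algebraMap_residueField_eq_zero]
        exact Ideal.mem_map_of_mem _ hgq'
      rw [this, map_zero, map_zero]
    exact RingHom.mem_ker.1 (hle (hG ▸ Ideal.mem_map_of_mem _ hb))
  have hfrac : ∀ e : E, ∃ d : S, IsUnit (π d) ∧ ∃ b : S, π d * e = π b := fun e => by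
    induction e using TensorProduct.induction_on with
    | zero => exact ⟨1, by rw [map_one]; exact isUnit_one, 0, by rw [mul_zero, map_zero]⟩
    | tmul c l =>
      obtain ⟨u, hu, a, hu', hua⟩ := hCfrac c
      obtain ⟨x, y, hy, rfl⟩ := IsFractionRing.div_surjective (A := Fib ⧸ Q) l
      obtain ⟨x, rfl⟩ := Ideal.Quotient.mk_surjective x
      obtain ⟨y, rfl⟩ := Ideal.Quotient.mk_surjective y
      have hy' : y ∉ Q := fun h => nonZeroDivisors.ne_zero hy (Ideal.Quotient.eq_zero_iff_mem.2 h)
      obtain ⟨s, hs, x', hx'⟩ := WeakAss.exists_smul_eq_incl p₁ x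
      obtain ⟨t, ht, y', hy''⟩ := WeakAss.exists_smul_eq_incl p₁ y
      have hyq : y' ∉ q₁ := fun h => hy' ((Ideal.unit_mul_mem_iff_mem _ (WeakAss.isUnit_algebraMap_fiber p₁ ht)).1
        (hy'' ▸ Ideal.mem_map_of_mem _ h))
      refine ⟨algebraMap R S u * algebraMap S₁ S (algebraMap R₁ S₁ s * y'), ?_,
        algebraMap R S a * algebraMap S₁ S (algebraMap R₁ S₁ t * x'), ?_⟩
      · rw [map_mul, hπR, hπS]
        refine (hu'.map (algebraMap C E)).mul ((isUnit_iff_ne_zero.2 fun h0 => ?_).map jL)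
        rw [IsScalarTower.algebraMap_apply S₁ Fib L, Ideal.algebraMap_residueField_eq_zero] at h0
        have h1 : algebraMap R₁ S₁ s * y' ∈ q₁ := hQc.le h0
        rcases Ideal.IsPrime.mem_or_mem inferInstance h1 with h2 | h2
        · exact hs ((Ideal.LiesOver.over (p := p₁) (P := q₁)).ge h2)
        · exact hyq h2
      · have hinc : ∀ r : R₁, Impurity.incl p₁ (algebraMap R₁ S₁ r) = algebraMap R₁ Fib r :=
          (Algebra.TensorProduct.includeRight (R := R₁) (A := p₁.ResidueField) (B := S₁)).commutes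
        have hx2 : algebraMap S₁ L (algebraMap R₁ S₁ t * x') = algebraMap Fib L (algebraMap R₁ Fib t * (algebraMap R₁ Fib s * x)) := by
          rw [hx', IsScalarTower.algebraMap_apply S₁ Fib L, ← hinc, ← map_mul (Impurity.incl p₁)]
          rfl
        have hy2 : algebraMap S₁ L (algebraMap R₁ S₁ s * y') = algebraMap Fib L (algebraMap R₁ Fib s * (algebraMap R₁ Fib t * y)) := by
          rw [hy'', IsScalarTower.algebraMap_apply S₁ Fib L, ← hinc, ← map_mul (Impurity.incl p₁)]
          rfl
        rw [map_mul π, map_mul π, hπR, hπR, hπS, hπS, hx2, hy2]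
        show (algebraMap R C u ⊗ₜ[k] (1 : L)) * ((1 : C) ⊗ₜ[k] _) * (c ⊗ₜ[k] _) = (algebraMap R C a ⊗ₜ[k] (1 : L)) * ((1 : C) ⊗ₜ[k] _)
        erw [Algebra.TensorProduct.tmul_mul_tmul, Algebra.TensorProduct.tmul_mul_tmul, Algebra.TensorProduct.tmul_mul_tmul]
        simp only [mul_one, one_mul, hua]
        congr 1
        rw [← Ideal.Quotient.algebraMap_eq, ← IsScalarTower.algebraMap_apply, ← IsScalarTower.algebraMap_apply,
          ← mul_left_comm, map_mul, map_mul, map_mul, map_mul, mul_assoc]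
        have hy0 : algebraMap Fib L y ≠ 0 := fun h => hy' (Ideal.algebraMap_residueField_eq_zero.1 h)
        rw [mul_assoc (algebraMap Fib L (algebraMap R₁ Fib s)), mul_div_cancel₀ _ hy0]
    | add x y hx hy =>
      obtain ⟨d, hd, b, hb⟩ := hx
      obtain ⟨d', hd', b', hb'⟩ := hy
      refine ⟨d * d', by rw [map_mul]; exact hd.mul hd', d' * b + d * b', ?_⟩
      rw [map_mul, map_add, map_mul, map_mul, ← hb, ← hb']
      ring
  have hsmulE : ∀ e : E, e ∈ IsLocalRing.maximalIdeal C • (⊤ : Submodule C E) ↔ e ∈ mE := fun e => by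
    rw [Ideal.smul_top_eq_map]
    rfl
  have hinjS : ∀ w ∉ q, ∀ y : E ⊗[C] W, π w • y = 0 → y = 0 := fun w hw y hy => by
    refine eq_zero_of_smul_eq_zero (π w) (fun e he => ?_) y hy
    rw [hsmulE] at he ⊢
    obtain ⟨d, hd, b, hb⟩ := hfrac e
    rw [← Ideal.unit_mul_mem_iff_mem _ hd, hb]
    refine hqm b ((Ideal.IsPrime.mem_or_mem inferInstance ?_).resolve_left hw)
    rw [← Ideal.algebraMap_residueField_eq_zero, ← hη, map_mul, ← hb, mul_left_comm]
    exact hmE _ (Ideal.mul_mem_left _ _ he)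
  -- coordinates
  let T := NzdLimit.transfer hpo F hF W
  let y₁ := T.symm z
  have hy₁ : T y₁ = z := T.apply_symm_apply z
  let bW := Module.Basis.ofVectorSpace k W
  let ι := Module.Basis.ofVectorSpaceIndex k W
  let Φ : N₁ ⊗[R₁] W ≃ₗ[S₁] (ι →₀ N₁ ⊗[R₁] k) :=
    (TensorProduct.AlgebraTensorModule.congr (LinearEquiv.refl S₁ N₁) (bW.repr.restrictScalars R₁)).trans
      (TensorProduct.finsuppRight R₁ S₁ N₁ k ι)
  let μ : ι → (N₁ ⊗[R₁] k →ₗ[S₁] N₁ ⊗[R₁] W) := fun i =>
    TensorProduct.AlgebraTensorModule.map (LinearMap.id : N₁ →ₗ[S₁] N₁)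
      ((LinearMap.toSpanSingleton k W (bW i)).restrictScalars R₁)
  have hμ : ∀ (i : ι) (x : N₁ ⊗[R₁] k), Φ (μ i x) = Finsupp.single i x := fun i x => by
    induction x using TensorProduct.induction_on with
    | zero => simp
    | add x y hx hy => rw [map_add, map_add, hx, hy, Finsupp.single_add]
    | tmul n c =>
      show TensorProduct.finsuppRight R₁ S₁ N₁ k ι (n ⊗ₜ[R₁] bW.repr (c • bW i)) = _
      rw [map_smul, bW.repr_self, Finsupp.smul_single, smul_eq_mul, mul_one]
      refine Finsupp.ext fun j => ?_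
      rw [TensorProduct.finsuppRight_apply_tmul_apply, Finsupp.single_apply, Finsupp.single_apply]
      split_ifs <;> simp
  let v := Φ y₁
  have hsum : y₁ = ∑ i ∈ v.support, μ i (v i) := by
    apply Φ.injective
    rw [map_sum]
    simp only [hμ]
    exact v.sum_single.symm
  -- fibre
  let e₁ := FiberMod.fiberModEquiv p₁ S₁ N₁
  have hvQ : ∀ i, ∀ c ∈ Q, c • e₁.symm (v i) = 0 := by
    intro i c hc
    have hb : ∀ b ∈ q₁, b • v i = 0 := by
      intro b hb
      -- pass to the fibre over `p`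
      let ψl : k →ₗ[R₁] p.ResidueField := ψ.toLinearMap
      letI : Algebra k p.ResidueField := ψ.toRingHom.toAlgebra
      haveI : IsScalarTower R₁ k p.ResidueField := IsScalarTower.of_algebraMap_eq fun a => (ψ.commutes a).symm
      obtain ⟨r, hr⟩ := LinearMap.exists_leftInverse_of_injective (Algebra.linearMap k p.ResidueField)
        (LinearMap.ker_eq_bot.2 ψ.toRingHom.injective)
      let up : N₁ ⊗[R₁] k →ₗ[S₁] N₁ ⊗[R₁] p.ResidueField :=
        TensorProduct.AlgebraTensorModule.map (LinearMap.id : N₁ →ₗ[S₁] N₁) ψl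
      let dn : N₁ ⊗[R₁] p.ResidueField →ₗ[S₁] N₁ ⊗[R₁] k :=
        TensorProduct.AlgebraTensorModule.map (LinearMap.id : N₁ →ₗ[S₁] N₁) (r.restrictScalars R₁)
      have hdn : ∀ x, dn (up x) = x := fun x => by
        induction x using TensorProduct.induction_on with
        | zero => simp
        | add x y hx hy => rw [map_add, map_add, hx, hy]
        | tmul n c =>
          show n ⊗ₜ[R₁] r (algebraMap k p.ResidueField c) = _
          rw [show r (algebraMap k p.ResidueField c) = c from LinearMap.congr_fun hr c]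
      suffices h0 : b • up (v i) = 0 by
        rw [← hdn (b • v i), map_smul up, h0, map_zero]
      have hgv : ∀ g ∈ G, g • v i = 0 := fun g hg => by
        have h1 : g • y₁ = 0 := T.injective (by rw [NzdLimit.transfer_smul, hy₁, hzG g hg, map_zero])
        show g • Φ y₁ i = 0
        rw [← Finsupp.smul_apply, ← map_smul, h1, map_zero, Finsupp.zero_apply]
      let T' := NzdLimit.transfer hpo F hF p.ResidueField
      apply T'.injective
      rw [map_zero, NzdLimit.transfer_smul]
      let d := FiberMod.fiberModEquiv p S N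
      apply d.symm.injective
      rw [map_zero, map_smul, ← Impurity.incl_smul]
      have hin : Impurity.incl p (algebraMap S₁ S b) ∈ (Ideal.span (G : Set S₁)).map ((Impurity.incl p).comp (algebraMap S₁ S)) := by
        rw [hG]
        exact Ideal.mem_map_of_mem _ hb
      rw [Ideal.map_span] at hin
      refine Submodule.span_induction (p := fun c _ => c • d.symm (T' (up (v i))) = 0) ?_ (zero_smul _ _)
        (fun x y _ _ hx hy => by rw [add_smul, hx, hy, add_zero])
        (fun c x _ hx => by rw [smul_eq_mul, mul_smul, hx, smul_zero]) hin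
      rintro _ ⟨g, hg, rfl⟩
      show Impurity.incl p (algebraMap S₁ S g) • _ = 0
      rw [Impurity.incl_smul, ← map_smul, ← NzdLimit.transfer_smul, ← map_smul up, hgv g hg, map_zero, map_zero, map_zero]
    induction hc using Submodule.span_induction with
    | mem x hx =>
      obtain ⟨b, hb', rfl⟩ := hx
      show Impurity.incl p₁ b • _ = 0
      rw [Impurity.incl_smul, ← map_smul, hb b hb', map_zero]
    | zero => exact zero_smul _ _
    | add x y _ _ hx hy => rw [add_smul, hx, hy, add_zero]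
    | smul r x _ hx => rw [smul_eq_mul, mul_smul, hx, smul_zero]
  obtain ⟨i₀, hi₀, hi₀'⟩ : ∃ i ∈ v.support, ∀ b ∉ q₁, b • v i ≠ 0 := by
    by_contra hcon
    push Not at hcon
    choose b hb hb0 using hcon
    refine hz (algebraMap S₁ S (∏ i ∈ v.support.attach, b i.1 i.2)) (fun h => ?_) ?_
    · obtain ⟨i, -, hi⟩ := (inferInstance : q₁.IsPrime).prod_mem_iff.1 (show ∏ i ∈ v.support.attach, b i.1 i.2 ∈ q₁ from h)
      exact hb _ _ hi
    · rw [← hy₁, ← NzdLimit.transfer_smul, hsum, Finset.smul_sum, Finset.sum_eq_zero, map_zero]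
      intro i hi
      obtain ⟨c, hc⟩ := Finset.dvd_prod_of_mem (fun i : v.support => b i.1 i.2) (Finset.mem_attach v.support ⟨i, hi⟩)
      rw [hc, mul_comm, mul_smul, ← map_smul (μ i), hb0 i hi, map_zero, smul_zero]
  -- the semilinear functional
  let X : Submodule Fib (_root_.FlatCA.fiberMod p₁ S₁ N₁) := Submodule.torsionBySet Fib _ (Q : Set Fib)
  have hvX : ∀ i, e₁.symm (v i) ∈ X := fun i => (Submodule.mem_torsionBySet_iff _ _).2 fun c => hvQ i c.1 c.2
  obtain ⟨ℓ, hℓ⟩ := exists_functional Q (X := X) (fun c hc x => Subtype.ext ((Submodule.mem_torsionBySet_iff _ _).1 x.2 ⟨c, hc⟩))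
    ⟨_, hvX i₀⟩ (fun a ha h => by
      obtain ⟨u, hu, b, hb⟩ := WeakAss.exists_smul_eq_incl p₁ a
      refine hi₀' b (fun hbq => ha ((Ideal.unit_mul_mem_iff_mem _ (WeakAss.isUnit_algebraMap_fiber p₁ hu)).1
        (hb ▸ Ideal.mem_map_of_mem _ hbq))) (e₁.symm.injective ?_)
      rw [map_smul, map_zero, ← Impurity.incl_smul, ← hb, mul_smul, show a • e₁.symm (v i₀) = 0 from congrArg Subtype.val h,
        smul_zero])
  letI : Module k (_root_.FlatCA.fiberMod p₁ S₁ N₁) := Module.compHom _ (algebraMap k Fib)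
  haveI : IsScalarTower k Fib (_root_.FlatCA.fiberMod p₁ S₁ N₁) := IsScalarTower.of_algebraMap_smul fun _ _ => rfl
  let ℓk : (X.restrictScalars k) →ₗ[k] L :=
    { toFun := fun x => ℓ ⟨x.1, x.2⟩
      map_add' := fun x y => ℓ.map_add ⟨x.1, x.2⟩ ⟨y.1, y.2⟩
      map_smul' := fun c x => by
        rw [RingHom.id_apply, Algebra.smul_def, hkFL, ← smul_eq_mul, algebraMap_smul, ← map_smul]
        rfl }
  obtain ⟨θ, hθ⟩ := LinearMap.exists_extend ℓk
  have hθX : ∀ x (hx : x ∈ X), θ x = ℓ ⟨x, hx⟩ := fun x hx => LinearMap.congr_fun hθ ⟨x, hx⟩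
  have hθsemi : ∀ (b : S₁) (x : _root_.FlatCA.fiberMod p₁ S₁ N₁), x ∈ X → θ (b • x) = algebraMap S₁ L b * θ x := fun b x hx => by
    have hb' : b • x = Impurity.incl p₁ b • x := (Impurity.incl_smul (p := p₁) b x).symm
    rw [hb', hθX _ (X.smul_mem _ hx), hθX x hx, show (⟨Impurity.incl p₁ b • x, X.smul_mem _ hx⟩ : X) = Impurity.incl p₁ b • ⟨x, hx⟩ from rfl,
      map_smul, Algebra.smul_def]
    rfl
  have htf : ∀ (n : N₁) (c : k), e₁.symm (n ⊗ₜ[R₁] c) = c • e₁.symm (n ⊗ₜ[R₁] 1) := fun n c => by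
    have h1 : e₁.symm (n ⊗ₜ[R₁] (1 : k)) = ((1 : k) ⊗ₜ[R₁] (1 : S₁) : Fib) ⊗ₜ[S₁] n := by
      rw [LinearEquiv.symm_apply_eq, FiberMod.fiberModEquiv_tmul, one_smul]
    rw [h1, LinearEquiv.symm_apply_eq]
    show _ = e₁ (((c ⊗ₜ[R₁] (1 : S₁) : Fib) * ((1 : k) ⊗ₜ[R₁] (1 : S₁))) ⊗ₜ[S₁] n)
    rw [Algebra.TensorProduct.tmul_mul_tmul, mul_one, one_mul, FiberMod.fiberModEquiv_tmul, one_smul]
  letI : Module R₁ (_root_.FlatCA.fiberMod p₁ S₁ N₁) := Module.compHom _ (algebraMap R₁ k)
  let tl : N₁ → L := fun n => θ (e₁.symm (n ⊗ₜ[R₁] 1))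
  have htl : ∀ (r : R₁) n, tl (r • n) = algebraMap R₁ k r • tl n := fun r n => by
    show θ _ = _
    rw [TensorProduct.smul_tmul, Algebra.smul_def, mul_one, htf, map_smul]
  let Θ : N₁ ⊗[R₁] W →+ E ⊗[C] W := TensorProduct.liftAddHom
    { toFun := fun n =>
        { toFun := fun x => ((1 : C) ⊗ₜ[k] tl n : E) ⊗ₜ[C] x
          map_zero' := TensorProduct.tmul_zero _ _
          map_add' := fun x y => TensorProduct.tmul_add _ _ _ }
      map_zero' := AddMonoidHom.ext fun x => by
        show ((1 : C) ⊗ₜ[k] tl 0 : E) ⊗ₜ[C] x = 0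
        rw [show tl 0 = 0 by simp [tl], TensorProduct.tmul_zero, TensorProduct.zero_tmul]
      map_add' := fun n m => AddMonoidHom.ext fun x => by
        show ((1 : C) ⊗ₜ[k] tl (n + m) : E) ⊗ₜ[C] x = _
        rw [show tl (n + m) = tl n + tl m by simp [tl, TensorProduct.add_tmul], TensorProduct.tmul_add, TensorProduct.add_tmul]
        rfl }
    fun r n x => by
      show ((1 : C) ⊗ₜ[k] tl (r • n) : E) ⊗ₜ[C] x = ((1 : C) ⊗ₜ[k] tl n : E) ⊗ₜ[C] (r • x)
      rw [htl, ← TensorProduct.smul_tmul, Algebra.smul_def, mul_one,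
        show (algebraMap k C (algebraMap R₁ k r)) ⊗ₜ[k] tl n = (algebraMap R₁ C r) • ((1 : C) ⊗ₜ[k] tl n : E) by
          rw [TensorProduct.smul_tmul', smul_eq_mul, mul_one, ← IsScalarTower.algebraMap_apply],
        TensorProduct.smul_tmul, hR₁C]
  have hΘμ : ∀ (i : ι) (x : N₁ ⊗[R₁] k), Θ (μ i x) = ((1 : C) ⊗ₜ[k] θ (e₁.symm x) : E) ⊗ₜ[C] bW i := fun i x => by
    induction x using TensorProduct.induction_on with
    | zero => simp
    | add x y hx hy => simp only [map_add, hx, hy, TensorProduct.tmul_add, TensorProduct.add_tmul]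
    | tmul n c =>
      show ((1 : C) ⊗ₜ[k] tl n : E) ⊗ₜ[C] (c • bW i) = _
      rw [← algebraMap_smul C c (bW i), ← TensorProduct.smul_tmul, htf, map_smul, TensorProduct.smul_tmul', smul_eq_mul, mul_one,
        Algebra.algebraMap_eq_smul_one, TensorProduct.smul_tmul]
  have hR : ∀ (r : R) (Z : N ⊗[R] W), Θ (T.symm (r • Z)) = fR r • Θ (T.symm Z) := fun r Z => by
    obtain ⟨m, rfl⟩ := T.surjective Z
    rw [T.symm_apply_apply]
    induction m using TensorProduct.induction_on with
    | zero => simp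
    | add x y hx hy => simp only [map_add, smul_add, hx, hy]
    | tmul n x =>
      rw [NzdLimit.transfer_tmul, ← TensorProduct.tmul_smul, ← NzdLimit.transfer_tmul hpo F hF, T.symm_apply_apply]
      show ((1 : C) ⊗ₜ[k] tl n : E) ⊗ₜ[C] (r • x) = algebraMap C E (algebraMap R C r) • (((1 : C) ⊗ₜ[k] tl n : E) ⊗ₜ[C] x)
      rw [algebraMap_smul, ← TensorProduct.tmul_smul, algebraMap_smul]
  have hS : ∀ a : S, Θ (T.symm (a • z)) = π a • Θ y₁ := fun a => by
    induction a using hpo.out.inductionOn with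
    | zero => simp
    | add x y hx hy => rw [add_smul, map_add, map_add, map_add, hx, hy, add_smul]
    | tmul b =>
      show Θ (T.symm (algebraMap S₁ S b • z)) = π (algebraMap S₁ S b) • Θ y₁
      rw [← hy₁, ← NzdLimit.transfer_smul, T.symm_apply_apply, hπS, hsum, Finset.smul_sum, map_sum, map_sum, Finset.smul_sum]
      refine Finset.sum_congr rfl fun i _ => ?_
      rw [← map_smul (μ i), hΘμ, hΘμ, map_smul e₁.symm, hθsemi b _ (hvX i), TensorProduct.smul_tmul', smul_eq_mul]
      congr 1
      show _ = ((1 : C) ⊗ₜ[k] algebraMap S₁ L b) * ((1 : C) ⊗ₜ[k] θ (e₁.symm (v i)))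
      rw [Algebra.TensorProduct.tmul_mul_tmul, mul_one]
    | smul r x hx => rw [smul_assoc, hR, hx, Algebra.smul_def r x, map_mul, hπR, mul_smul]
  obtain ⟨φ, hφ⟩ := Module.Projective.exists_dual_ne_zero k hℓ
  let φC : E →ₗ[C] C := (TensorProduct.AlgebraTensorModule.rid k C C).toLinearMap.comp
    (TensorProduct.AlgebraTensorModule.map (LinearMap.id : C →ₗ[C] C) φ)
  let Ψ : E ⊗[C] W →ₗ[C] W := (TensorProduct.lid C W).toLinearMap.comp (φC.rTensor W)
  have hΨ : ∀ i, Ψ (Θ (μ i (v i))) = φ (θ (e₁.symm (v i))) • bW i := fun i => by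
    rw [hΘμ]
    show φC ((1 : C) ⊗ₜ[k] θ (e₁.symm (v i))) • bW i = _
    show (φ (θ (e₁.symm (v i))) • (1 : C)) • bW i = _
    rw [← Algebra.algebraMap_eq_smul_one, algebraMap_smul]
  refine ⟨Ψ (Θ y₁), fun h0 => ?_, fun a ha => ?_⟩
  · rw [hsum, map_sum, map_sum] at h0
    simp only [hΨ] at h0
    have h1 := DFunLike.congr_fun (congrArg bW.repr h0) i₀
    rw [map_sum, map_zero, Finsupp.zero_apply, Finsupp.finsetSum_apply, Finset.sum_eq_single_of_mem i₀ hi₀
      (fun j _ hj => by rw [map_smul, bW.repr_self, Finsupp.smul_apply, Finsupp.single_eq_of_ne hj.symm, smul_zero])] at h1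
    rw [map_smul, bW.repr_self, Finsupp.smul_apply, Finsupp.single_eq_same, smul_eq_mul, mul_one, hθX _ (hvX i₀)] at h1
    exact hφ h1
  · obtain ⟨n, w, hw, hwz⟩ := hnil a ha
    refine ⟨n, ?_⟩
    have h1 : π w • (π (algebraMap R S a ^ n) • Θ y₁) = 0 := by
      rw [smul_smul, ← map_mul, ← hS, hwz, map_zero, map_zero]
    have h2 := hinjS w hw _ h1
    rw [← map_pow, hπR] at h2
    change algebraMap C E (algebraMap R C (a ^ n)) • Θ y₁ = 0 at h2
    rw [algebraMap_smul] at h2
    rw [← algebraMap_smul C (a ^ n) (Ψ (Θ y₁)), ← map_smul, h2, map_zero]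

end Core

section Main

variable {R S N : Type u} [CommRing R] [CommRing S] [Algebra R S] [Algebra.FinitePresentation R S]
  [AddCommGroup N] [Module S N] [Module R N] [IsScalarTower R S N] [Module.FinitePresentation S N] [Module.Flat R N]

/-- The ideal of a point of a fibre is generated by finitely many elements of the algebra. -/
theorem exists_gens (p : Ideal R) [p.IsPrime] (q : Ideal S) :
    ∃ t : Finset S, (t : Set S) ⊆ q ∧ (Ideal.span (t : Set S)).map (Impurity.incl p) = _root_.FlatCA.fiberIdeal p q := by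
  classical
  haveI : IsNoetherianRing (p.Fiber S) := Algebra.FiniteType.isNoetherianRing p.ResidueField _
  obtain ⟨s, hs, hspan⟩ := (Submodule.fg_span_iff_fg_span_finset_subset (Impurity.incl p '' (q : Set S))).1
    (show (Submodule.span (p.Fiber S) (Impurity.incl p '' (q : Set S))).FG from IsNoetherian.noetherian _)
  obtain ⟨t, ht, rfl⟩ := Finset.subset_set_image_iff.1 hs
  refine ⟨t, ht, (Ideal.map_span _ _).trans ?_⟩
  rw [Finset.coe_image] at hspan
  exact hspan.symm

set_option backward.isDefEq.respectTransparency false in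
/-- A weakly associated prime of `N ⊗ M` lies over a weakly associated prime of `M`. -/
theorem mem_weakAss_of_minimal (M : Type u) [AddCommGroup M] [Module R M] (p : Ideal R) [p.IsPrime] (q : Ideal S)
    [q.IsPrime] [q.LiesOver p] (z : N ⊗[R] M) (hq : q ∈ (Submodule.span S {z}).annihilator.minimalPrimes) :
    p ∈ _root_.FlatCA.weakAss R M := by
  classical
  obtain ⟨hz, hnil⟩ := nil_of_minimal q z hq
  obtain ⟨t, htq, ht⟩ := exists_gens (S := S) p q
  obtain ⟨R₁, _, S₁, _, _, _, _, _, _, _, _, _, N₁, _, _, _, _, _, _, _, _, F, hpo, hF, htS⟩ :=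
    DescendElements.exists_model (R := R) (S := S) (N := N) t
  obtain ⟨G, hG⟩ : ∃ G : Finset S₁, G.image (algebraMap S₁ S) = t := by
    choose g hg using htS
    refine ⟨t.attach.image fun x => g x.2, Finset.ext fun a => ?_⟩
    simp only [Finset.mem_image, Finset.mem_attach, true_and, Subtype.exists]
    exact ⟨fun ⟨_, ⟨b, hb, hb'⟩, ha⟩ => ha ▸ hb' ▸ (hg hb).symm ▸ hb, fun ha => ⟨_, ⟨a, ha, rfl⟩, hg ha⟩⟩
  obtain ⟨A, hA⟩ := (IsNoetherian.noetherian (p.comap (algebraMap R₁ R)) : (p.comap (algebraMap R₁ R)).FG)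
  let A' := A.image (algebraMap R₁ R)
  let W₀ : Submodule R M :=
    { carrier := {m | ∀ a ∈ A', a • m = 0}
      zero_mem' := fun a _ => smul_zero a
      add_mem' := fun {x y} hx hy a ha => by rw [smul_add, hx a ha, hy a ha, add_zero]
      smul_mem' := fun c x hx a ha => by rw [smul_comm, hx a ha, smul_zero] }
  let Fs : Finset S := A'.image (algebraMap R S) ∪ t
  have hFs : (Fs : Set S) ⊆ q := by
    intro c hc
    rcases Finset.mem_union.1 hc with hc | hc
    · obtain ⟨a, ha, rfl⟩ := Finset.mem_image.1 hc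
      obtain ⟨a, ha', rfl⟩ := Finset.mem_image.1 ha
      exact (Ideal.LiesOver.over (p := p) (P := q)).le (show algebraMap R₁ R a ∈ p from
        hA.le (Ideal.subset_span ha'))
    · exact htq hc
  obtain ⟨b, hb, hbz⟩ := exists_killed q Fs hFs z hz fun c hc => hnil c (hFs hc)
  obtain ⟨y, hy⟩ := mem_range_of_killed A' W₀ (fun _ => Iff.rfl) (b • z) fun a ha => by
    rw [← algebraMap_smul S a (b • z)]
    exact hb _ (Finset.mem_union_left _ (Finset.mem_image_of_mem _ ha))
  have hinj : Function.Injective (W₀.subtype.lTensor N) :=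
    Module.Flat.lTensor_preserves_injective_linearMap _ W₀.injective_subtype
  have hsm : ∀ (c : S) (x : N ⊗[R] W₀), W₀.subtype.lTensor N (c • x) = c • W₀.subtype.lTensor N x := fun c x =>
    map_smul (TensorProduct.AlgebraTensorModule.map (LinearMap.id : N →ₗ[S] N) W₀.subtype) c x
  let Rp := Localization.AtPrime p
  let W := LocalizedModule p.primeCompl W₀
  let l : W₀ →ₗ[R] W := LocalizedModule.mkLinearMap p.primeCompl W₀
  let L : N ⊗[R] W₀ →ₗ[S] N ⊗[R] W := TensorProduct.AlgebraTensorModule.map (LinearMap.id : N →ₗ[S] N) l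
  have hLker : ∀ x, L x = 0 → ∃ u ∉ p, u • x = 0 := fun x hx => by
    haveI := IsLocalizedModule.rTensor p.primeCompl (R := R) (A := R) (N := N) l
    have key : ∀ w : N ⊗[R] W₀, TensorProduct.AlgebraTensorModule.rTensor R N l (TensorProduct.comm R N W₀ w) =
        TensorProduct.comm R N W (L w) := fun w => by
      induction w using TensorProduct.induction_on with
      | zero => simp
      | add a b ha hb => simp only [map_add, ha, hb]
      | tmul a b => rfl
    have h0 : TensorProduct.AlgebraTensorModule.rTensor R N l (TensorProduct.comm R N W₀ x) = 0 := by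
      rw [key, hx, map_zero]
    obtain ⟨⟨u, hu⟩, hux⟩ := (IsLocalizedModule.eq_zero_iff p.primeCompl _).1 h0
    exact ⟨u, hu, (TensorProduct.comm R N W₀).injective (by rw [map_smul, map_zero]; exact hux)⟩
  let I : Ideal Rp := (p.comap (algebraMap R₁ R)).map (algebraMap R₁ Rp)
  have hI : I ≤ IsLocalRing.maximalIdeal Rp := Ideal.map_le_iff_le_comap.2 fun a ha => by
    rw [Ideal.mem_comap, IsScalarTower.algebraMap_apply R₁ R Rp]
    exact (IsLocalization.AtPrime.to_map_mem_maximal_iff Rp p _).2 ha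
  haveI : Nontrivial (Rp ⧸ I) := Ideal.Quotient.nontrivial_iff.2 fun h =>
    (IsLocalRing.maximalIdeal.isMaximal Rp).ne_top (top_le_iff.1 (h ▸ hI))
  haveI : IsLocalRing (Rp ⧸ I) := IsLocalRing.of_surjective' (Ideal.Quotient.mk I) Ideal.Quotient.mk_surjective
  have hW1 : ∀ a ∈ p.comap (algebraMap R₁ R), ∀ w : W, algebraMap R₁ R a • w = 0 := by
    intro a ha w
    obtain ⟨⟨m, s⟩, rfl⟩ := IsLocalizedModule.mk'_surjective p.primeCompl l w
    have hm : algebraMap R₁ R a • m = 0 := by
      refine Subtype.ext ?_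
      show algebraMap R₁ R a • (m : M) = 0
      rw [← hA] at ha
      induction ha using Submodule.span_induction with
      | mem c hc => exact m.2 _ (Finset.mem_image_of_mem _ hc)
      | zero => rw [map_zero, zero_smul]
      | add c d _ _ hc hd => rw [map_add, add_smul, hc, hd, add_zero]
      | smul c d _ hd => rw [smul_eq_mul, map_mul, mul_smul, hd, smul_zero]
    show algebraMap R₁ R a • IsLocalizedModule.mk' l m s = 0
    rw [← IsLocalizedModule.mk'_smul, hm, IsLocalizedModule.mk'_zero]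
  have hWI : Module.IsTorsionBySet Rp W (I : Set Rp) := by
    rintro x ⟨c, hc⟩
    show c • x = 0
    induction hc using Submodule.span_induction with
    | mem c hc =>
      obtain ⟨a, ha, rfl⟩ := hc
      rw [IsScalarTower.algebraMap_apply R₁ R Rp, algebraMap_smul]
      exact hW1 a ha x
    | zero => exact zero_smul _ _
    | add a b _ _ ha hb => rw [add_smul, ha, hb, add_zero]
    | smul r a _ ha => rw [smul_eq_mul, mul_smul, ha, smul_zero]
  letI : Module (Rp ⧸ I) W := hWI.module
  haveI : IsScalarTower R (Rp ⧸ I) W := ⟨fun a c x => by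
    obtain ⟨c, rfl⟩ := Ideal.Quotient.mk_surjective c
    exact ((hWI.mk_smul (a • c) x).trans (smul_assoc a c x)).trans (congrArg (a • ·) (hWI.mk_smul c x).symm)⟩
  let ι₀ : (p.comap (algebraMap R₁ R)).ResidueField →+* Rp ⧸ I := Ideal.ResidueField.lift _ (algebraMap R₁ (Rp ⧸ I))
    (fun a ha => by
      rw [RingHom.mem_ker, IsScalarTower.algebraMap_apply R₁ Rp (Rp ⧸ I), Ideal.Quotient.algebraMap_eq,
        Ideal.Quotient.eq_zero_iff_mem]
      exact Ideal.mem_map_of_mem _ ha)
    fun a ha => by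
      show IsUnit (algebraMap R₁ (Rp ⧸ I) a)
      rw [IsScalarTower.algebraMap_eq R₁ R (Rp ⧸ I), IsScalarTower.algebraMap_eq R Rp (Rp ⧸ I)]
      exact (IsLocalization.map_units Rp (⟨algebraMap R₁ R a, ha⟩ : p.primeCompl)).map (algebraMap Rp (Rp ⧸ I))
  letI : Algebra (p.comap (algebraMap R₁ R)).ResidueField (Rp ⧸ I) := ι₀.toAlgebra
  haveI : IsScalarTower R₁ (p.comap (algebraMap R₁ R)).ResidueField (Rp ⧸ I) := IsScalarTower.of_algebraMap_eq fun a =>
    (Ideal.ResidueField.lift_algebraMap _ _ _ _ a).symm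
  let φq := Ideal.ResidueField.mapₐ p q (Algebra.ofId R S) Ideal.LiesOver.over
  let gC : Rp ⧸ I →+* q.ResidueField := Ideal.Quotient.lift I (φq.toRingHom.comp (algebraMap Rp p.ResidueField)) fun c hc => by
    show φq (algebraMap Rp p.ResidueField c) = 0
    rw [show algebraMap Rp p.ResidueField c = 0 from (IsLocalRing.residue_eq_zero_iff c).2 (hI hc), map_zero]
  have hmax : (IsLocalRing.maximalIdeal (Rp ⧸ I)).comap (Ideal.Quotient.mk I) = IsLocalRing.maximalIdeal Rp :=
    IsLocalRing.eq_maximalIdeal (Ideal.comap_isMaximal_of_surjective _ Ideal.Quotient.mk_surjective)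
  obtain ⟨x, hx0, hx⟩ := exists_nil_of_killed (W := W) hpo F hF p q G
    (by rw [← Ideal.map_map, Ideal.map_span (algebraMap S₁ S), ← Finset.coe_image, hG, ht])
    (C := Rp ⧸ I)
    (fun a ha => by
      rw [IsScalarTower.algebraMap_apply R Rp (Rp ⧸ I), Ideal.Quotient.algebraMap_eq, ← Ideal.mem_comap, hmax]
      exact (IsLocalization.AtPrime.to_map_mem_maximal_iff Rp p a).2 ha)
    (fun c => by
      obtain ⟨c, rfl⟩ := Ideal.Quotient.mk_surjective c
      obtain ⟨⟨a, u⟩, hu⟩ := IsLocalization.surj p.primeCompl c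
      refine ⟨u, u.2, a, ?_, ?_⟩
      · rw [IsScalarTower.algebraMap_apply R Rp (Rp ⧸ I)]
        exact (IsLocalization.map_units Rp u).map _
      · rw [IsScalarTower.algebraMap_apply R Rp (Rp ⧸ I), IsScalarTower.algebraMap_apply R Rp (Rp ⧸ I), ← hu,
          Ideal.Quotient.algebraMap_eq, map_mul, mul_comm])
    gC (fun a => by
      show φq (algebraMap Rp p.ResidueField (algebraMap R Rp a)) = _
      rw [← IsScalarTower.algebraMap_apply, φq.commutes])
    (fun c hc => by
      obtain ⟨c, rfl⟩ := Ideal.Quotient.mk_surjective c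
      show φq (algebraMap Rp p.ResidueField c) = 0
      rw [show algebraMap Rp p.ResidueField c = 0 from (IsLocalRing.residue_eq_zero_iff c).2 (hmax ▸ hc), map_zero])
    (L y)
    (fun g hg => by
      rw [← map_smul, show algebraMap S₁ S g • y = 0 from hinj (by
        rw [hsm, hy, hb _ (Finset.mem_union_right _ (hG ▸ Finset.mem_image_of_mem _ hg)), map_zero]), map_zero])
    (fun w hw h => by
      rw [← map_smul] at h
      obtain ⟨u, hu, hux⟩ := hLker _ h
      rw [← algebraMap_smul S u (w • y), smul_smul] at hux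
      refine hbz (algebraMap R S u * w) (fun h' => ?_) (by rw [← hy, ← hsm, hux, map_zero])
      rcases Ideal.IsPrime.mem_or_mem inferInstance h' with h' | h'
      · exact hu ((Ideal.LiesOver.over (p := p) (P := q)).ge h')
      · exact hw h')
    (fun a ha => by
      obtain ⟨n, w, hw, hwz⟩ := hnil _ ((Ideal.LiesOver.over (p := p) (P := q)).le ha)
      refine ⟨n, w, hw, ?_⟩
      rw [← map_smul, show (w * algebraMap R S a ^ n) • y = 0 from hinj (by
        rw [hsm, hy, smul_comm, hwz, smul_zero, map_zero]), map_zero])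
  obtain ⟨⟨m, s⟩, rfl⟩ := IsLocalizedModule.mk'_surjective p.primeCompl l x
  change IsLocalizedModule.mk' l m s ≠ 0 at hx0
  refine ⟨(m : M), ⟨⟨inferInstance, fun r hr => ?_⟩, fun P hP hPp r hr => ?_⟩⟩
  · by_contra hrp
    rw [Submodule.mem_annihilator_span_singleton] at hr
    exact hx0 ((IsLocalizedModule.mk'_eq_zero' l s).2 ⟨⟨r, hrp⟩, Subtype.ext hr⟩)
  · obtain ⟨n, hn⟩ := hx r hr
    change r ^ n • IsLocalizedModule.mk' l m s = 0 at hn
    rw [← IsLocalizedModule.mk'_smul, IsLocalizedModule.mk'_eq_zero'] at hn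
    obtain ⟨⟨u, hu⟩, hun⟩ := hn
    have hmem : u * r ^ n ∈ P := hP.2 ((Submodule.mem_annihilator_span_singleton _ _).2 (by
      have := congrArg Subtype.val hun
      rw [mul_smul]
      exact this))
    rcases hP.1.mem_or_mem hmem with h | h
    · exact absurd (hPp h) hu
    · exact hP.1.mem_of_pow_mem n h

/-- An associated point of the fibre over a weakly associated prime of `M` is weakly associated to `N ⊗ M`. -/
theorem exists_minimal_of_mem_fibre (M : Type u) [AddCommGroup M] [Module R M] (p : Ideal R) [p.IsPrime] (q : Ideal S)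
    [q.IsPrime] [q.LiesOver p] (m : M) (hm : p ∈ (Submodule.span R {m}).annihilator.minimalPrimes)
    (hass : _root_.FlatCA.fiberIdeal p q ∈ associatedPrimes (p.Fiber S) (_root_.FlatCA.fiberMod p S N)) :
    ∃ z : N ⊗[R] M, q ∈ (Submodule.span S {z}).annihilator.minimalPrimes := by
  classical
  obtain ⟨hm₀, hmnil⟩ := nil_of_minimal p m hm
  obtain ⟨-, x, hx⟩ := (FibreAss.assoc_iff N p q).1 hass
  let e := FiberMod.fiberModEquiv p S N
  obtain ⟨s, hs, n, hn⟩ : ∃ s ∉ p, ∃ n : N, s • e x = n ⊗ₜ[R] (1 : p.ResidueField) := by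
    clear hx
    generalize e x = z
    induction z using TensorProduct.induction_on with
    | zero => exact ⟨1, p.primeCompl.one_mem, 0, by simp⟩
    | tmul n k =>
      obtain ⟨a, d, hd, rfl⟩ := IsFractionRing.div_surjective (A := R ⧸ p) k
      obtain ⟨a, rfl⟩ := Ideal.Quotient.mk_surjective a
      obtain ⟨d, rfl⟩ := Ideal.Quotient.mk_surjective d
      have hd' : d ∉ p := fun h => nonZeroDivisors.ne_zero hd (Ideal.Quotient.eq_zero_iff_mem.2 h)
      refine ⟨d, hd', a • n, ?_⟩
      rw [← TensorProduct.tmul_smul, TensorProduct.smul_tmul]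
      congr 1
      rw [Algebra.smul_def, Algebra.smul_def, mul_one, ← Ideal.Quotient.algebraMap_eq,
        ← IsScalarTower.algebraMap_apply, ← IsScalarTower.algebraMap_apply,
        mul_div_assoc', mul_div_cancel_left₀ _ fun h => hd' (Ideal.algebraMap_residueField_eq_zero.1 h)]
    | add x y hx hy =>
      obtain ⟨s, hs, n, hn⟩ := hx
      obtain ⟨t, ht, n', hn'⟩ := hy
      refine ⟨s * t, p.primeCompl.mul_mem hs ht, t • n + s • n', ?_⟩
      rw [smul_add, TensorProduct.add_tmul, ← TensorProduct.smul_tmul', ← TensorProduct.smul_tmul', mul_smul, mul_smul,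
        smul_comm s t x, hn, hn']
  have hq : ∀ b : S, b ∈ q ↔ ∃ k : ℕ, b ^ k • x = 0 := fun b => by
    rw [hx]
    refine exists_congr fun k => ?_
    rw [Submodule.mem_colon_singleton, Submodule.mem_bot]
  have hsx : ∀ b : S, b • x = 0 ↔ (b • n) ⊗ₜ[R] (1 : p.ResidueField) = 0 := fun b => by
    rw [← TensorProduct.smul_tmul', ← hn, ← e.map_eq_zero_iff, map_smul, smul_comm]
    refine ⟨fun h => by rw [h, smul_zero], fun h => ?_⟩
    have hu : IsUnit (algebraMap R p.ResidueField s) :=
      isUnit_iff_ne_zero.2 fun h => hs (Ideal.algebraMap_residueField_eq_zero.1 h)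
    let d := LinearEquiv.lTensor N ((LinearEquiv.smulOfUnit hu.unit (R := p.ResidueField) (M := p.ResidueField)).restrictScalars R)
    have hd : ∀ z : N ⊗[R] p.ResidueField, d z = s • z := fun z => by
      induction z using TensorProduct.induction_on with
      | zero => simp
      | add a b ha hb => rw [map_add, ha, hb, smul_add]
      | tmul a b => rw [← TensorProduct.tmul_smul, Algebra.smul_def]; rfl
    exact d.injective (by rw [hd, h, map_zero])
  let ι : (R ⧸ p) →ₗ[R] p.ResidueField := (IsScalarTower.toAlgHom R (R ⧸ p) p.ResidueField).toLinearMap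
  have hι : Function.Injective ι := Ideal.injective_algebraMap_quotient_residueField p
  have hι' := Module.Flat.lTensor_preserves_injective_linearMap (M := N) ι hι
  obtain ⟨t, htq, ht⟩ := exists_gens (S := S) p q
  -- finitely many coefficients
  have hcoef : ∀ g ∈ t, ∃ (k : ℕ) (A : Finset R), (A : Set R) ⊆ p ∧ (g ^ k) • n ∈ Ideal.span (A : Set R) • (⊤ : Submodule R N) := by
    intro g hg
    obtain ⟨k, hk⟩ := (hq g).1 (htq hg)
    have h1 : ((g ^ k) • n) ⊗ₜ[R] (1 : p.ResidueField) = ι.lTensor N (((g ^ k) • n) ⊗ₜ[R] (1 : R ⧸ p)) := by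
      rw [LinearMap.lTensor_tmul]
      congr 1
      exact (map_one (algebraMap (R ⧸ p) p.ResidueField)).symm
    have h2 := (hsx _).1 hk
    rw [h1, map_eq_zero_iff _ hι', ← (TensorProduct.tensorQuotEquivQuotSMul N p).map_eq_zero_iff,
      show (1 : R ⧸ p) = Ideal.Quotient.mk p 1 from rfl, TensorProduct.tensorQuotEquivQuotSMul_tmul_mk,
      one_smul, Submodule.Quotient.mk_eq_zero] at h2
    refine ⟨k, ?_⟩
    refine Submodule.smul_induction_on h2 (fun a ha y _ => ⟨{a}, by simpa using ha,
      Submodule.smul_mem_smul (Ideal.subset_span (Finset.mem_coe.2 (Finset.mem_singleton_self a))) trivial⟩) ?_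
    rintro u v ⟨A, hA, hu⟩ ⟨B, hB, hv⟩
    refine ⟨A ∪ B, by rw [Finset.coe_union]; exact Set.union_subset hA hB, add_mem ?_ ?_⟩
    · exact Submodule.smul_mono (Ideal.span_mono (by simp)) le_rfl hu
    · exact Submodule.smul_mono (Ideal.span_mono (by simp)) le_rfl hv
  choose k A hA hk using hcoef
  let A₀ := t.attach.biUnion fun g => A g.1 g.2
  have hA₀ : (A₀ : Set R) ⊆ p := fun a ha => by
    obtain ⟨g, -, hg⟩ := Finset.mem_biUnion.1 ha
    exact hA _ _ hg
  obtain ⟨b, hb, hbm⟩ := exists_killed p A₀ hA₀ m hm₀ fun a ha => hmnil a (hA₀ ha)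
  let m' := b • m
  let z := n ⊗ₜ[R] m'
  refine ⟨z, ⟨inferInstance, fun c hc => ?_⟩, fun P hP hPq => ?_⟩
  · rw [Submodule.mem_annihilator_span_singleton] at hc
    let I : Ideal R := LinearMap.ker (LinearMap.toSpanSingleton R M m')
    let f : (R ⧸ I) →ₗ[R] M := Submodule.liftQ I (LinearMap.toSpanSingleton R M m') le_rfl
    have hf : Function.Injective f := LinearMap.ker_eq_bot.1 (Submodule.ker_liftQ_eq_bot _ _ _ le_rfl)
    have hIp : I ≤ p := fun a ha => by
      by_contra hap
      exact hbm a hap ha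
    have h1 : (c • n) ⊗ₜ[R] (Submodule.Quotient.mk 1 : R ⧸ I) = 0 := by
      apply Module.Flat.lTensor_preserves_injective_linearMap (M := N) f hf
      rw [map_zero, LinearMap.lTensor_tmul, show f (Submodule.Quotient.mk 1) = m' from one_smul R m', ← TensorProduct.smul_tmul']
      exact hc
    refine (hq c).2 ⟨1, ?_⟩
    rw [pow_one, hsx]
    have h2 := congrArg ((ι.comp (Submodule.factor hIp)).lTensor N) h1
    rw [map_zero, LinearMap.lTensor_tmul] at h2
    rw [← h2]
    congr 1
    exact (map_one (algebraMap (R ⧸ p) p.ResidueField)).symm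
  · haveI := hP.1
    have hPp : P.comap (algebraMap R S) = p := by
      refine le_antisymm ((Ideal.comap_mono hPq).trans (Ideal.LiesOver.over (p := p) (P := q)).ge) fun a ha => ?_
      obtain ⟨j, w, hw, hwm⟩ := hmnil a ha
      have hmem : algebraMap R S (w * a ^ j) ∈ P := hP.2 ((Submodule.mem_annihilator_span_singleton _ _).2 (by
        rw [algebraMap_smul, ← TensorProduct.tmul_smul, show (w * a ^ j) • m' = 0 by rw [smul_comm, hwm, smul_zero],
          TensorProduct.tmul_zero]))
      rw [map_mul, map_pow] at hmem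
      rcases hP.1.mem_or_mem hmem with h | h
      · exact absurd ((Ideal.LiesOver.over (p := p) (P := q)).ge (hPq h)) hw
      · exact hP.1.mem_of_pow_mem j h
    haveI : P.LiesOver p := ⟨hPp.symm⟩
    have htP : ∀ g ∈ t, g ∈ P := fun g hg => by
      refine hP.1.mem_of_pow_mem (k g hg) (hP.2 ((Submodule.mem_annihilator_span_singleton _ _).2 ?_))
      show g ^ k g hg • (n ⊗ₜ[R] m') = 0
      rw [TensorProduct.smul_tmul']
      refine Submodule.smul_induction_on (hk g hg) (fun a ha y _ => ?_) fun u v hu hv => by rw [TensorProduct.add_tmul, hu, hv, add_zero]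
      rw [TensorProduct.smul_tmul]
      have : a • m' = 0 := by
        induction ha using Submodule.span_induction with
        | mem c hc => exact hb c (Finset.mem_biUnion.2 ⟨⟨g, hg⟩, Finset.mem_attach _ _, hc⟩)
        | zero => exact zero_smul _ _
        | add c d _ _ hc hd => rw [add_smul, hc, hd, add_zero]
        | smul c d _ hd => rw [smul_eq_mul, mul_smul, hd, smul_zero]
      rw [this, TensorProduct.tmul_zero]
    intro c hc
    rw [← (WeakAss.fiberIdeal_prime p P).2, Ideal.mem_comap]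
    exact (ht ▸ Ideal.map_mono (Ideal.span_le.2 htP) : _root_.FlatCA.fiberIdeal p q ≤ _) (Ideal.mem_map_of_mem _ hc)

end Main


end Groth.Agent.Lib.FlatCA.WeakAssBC
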