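import Groth.Agent.S1265
import Groth.Agent.Lib.LocalFlat.Criterion
import Mathlib.RingTheory.Flat.Localization
import Mathlib.RingTheory.Flat.Tensor
import Mathlib.RingTheory.Localization.BaseChange
import Mathlib.RingTheory.LocalProperties.Exactness
import Mathlib.RingTheory.AdicCompletion.Basic

/-!
# The flattening ideal over a complete Noetherian local ring
-/

universe u

open TensorProduct IsLocalRing

namespace Groth.Agent.Lib.FlatCA.CompleteFlatten

variable {R S M : Type u} [CommRing R] [CommRing S] [Algebra R S]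
  [AddCommGroup M] [Module S M] [Module R M] [IsScalarTower R S M]

/-- Flatness of a base change, tested on ideals of the new ring. -/
theorem flat_baseChange_iff (A' M : Type u) [CommRing A'] [Algebra R A'] [AddCommGroup M] [Module R M] :
    Module.Flat A' (A' ⊗[R] M) ↔
      ∀ I : Ideal A', Function.Injective ((I.subtype.restrictScalars R).lTensor M) := by
  rw [Module.Flat.iff_rTensor_injective']
  refine forall_congr' fun I => ?_
  have h : ∀ z, (I.subtype.restrictScalars R).rTensor M
      (AlgebraTensorModule.cancelBaseChange R A' A' I M z) =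
      AlgebraTensorModule.cancelBaseChange R A' A' A' M (I.subtype.rTensor (A' ⊗[R] M) z) := by
    intro z
    induction z using TensorProduct.induction_on with
    | zero => simp
    | add a b ha hb => simp only [map_add, ha, hb]
    | tmul x w =>
      induction w using TensorProduct.induction_on with
      | zero => simp
      | add a b ha hb => simp only [TensorProduct.tmul_add, map_add, ha, hb]
      | tmul s m => simp
  rw [LinearMap.lTensor_inj_iff_rTensor_inj,
    ← EquivLike.injective_comp (AlgebraTensorModule.cancelBaseChange R A' A' I M),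
    ← EquivLike.comp_injective _ (AlgebraTensorModule.cancelBaseChange R A' A' A' M)]
  exact iff_of_eq (congrArg Function.Injective (funext fun z => (h z).symm))

section Local

variable [IsLocalRing R]

/-- Injectivity of `M ⊗ φ` for `φ` killed by a power of the maximal ideal is local over it. -/
theorem injective_iff_atPrimes {P Q : Type u} [AddCommGroup P] [Module R P] [AddCommGroup Q]
    [Module R Q] (φ : P →ₗ[R] Q) {n : ℕ} (hP : ∀ a ∈ maximalIdeal R ^ n, ∀ x : P, a • x = 0) :
    Function.Injective (φ.lTensor M) ↔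
      ∀ (q : Ideal S) [q.IsPrime], q.comap (algebraMap R S) = maximalIdeal R →
        Function.Injective (φ.lTensor (LocalizedModule q.primeCompl M)) := by
  refine ⟨fun h q _ hq => ?_, fun h => ?_⟩
  · have := IsLocalizedModule.map_injective q.primeCompl
      (AlgebraTensorModule.rTensor R P (LocalizedModule.mkLinearMap q.primeCompl M))
      (AlgebraTensorModule.rTensor R Q (LocalizedModule.mkLinearMap q.primeCompl M))
      (AlgebraTensorModule.lTensor S M φ) h
    rwa [IsLocalizedModule.map_lTensor] at this
  · refine injective_of_isLocalized_maximal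
      (fun q _ => LocalizedModule q.primeCompl M ⊗[R] P)
      (fun q _ => AlgebraTensorModule.rTensor R P (LocalizedModule.mkLinearMap q.primeCompl M))
      (fun q _ => LocalizedModule q.primeCompl M ⊗[R] Q)
      (fun q _ => AlgebraTensorModule.rTensor R Q (LocalizedModule.mkLinearMap q.primeCompl M))
      (AlgebraTensorModule.lTensor S M φ) fun q hq => ?_
    rw [IsLocalizedModule.map_lTensor]
    by_cases hqm : q.comap (algebraMap R S) = maximalIdeal R
    · exact h q hqm
    obtain ⟨a, ha, haq⟩ : ∃ a ∈ maximalIdeal R, algebraMap R S a ∉ q := by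
      by_contra hc
      push Not at hc
      exact hqm (le_antisymm (IsLocalRing.le_maximalIdeal (Ideal.IsPrime.comap _).ne_top) hc)
    have hs : algebraMap R S (a ^ n) ∈ q.primeCompl := fun hc => by
      rw [map_pow] at hc
      exact haq (Ideal.IsPrime.mem_of_pow_mem inferInstance n hc)
    have hzero : ∀ z : LocalizedModule q.primeCompl M ⊗[R] P, algebraMap R S (a ^ n) • z = 0 := by
      intro z
      rw [algebraMap_smul]
      induction z using TensorProduct.induction_on with
      | zero => simp
      | add x y hx hy => rw [smul_add, hx, hy, add_zero]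
      | tmul x p => rw [← TensorProduct.tmul_smul, hP _ (Ideal.pow_mem_pow ha n) p, TensorProduct.tmul_zero]
    intro z z' _
    exact ((Module.End.isUnit_iff _).1 (IsLocalizedModule.map_units
      (AlgebraTensorModule.rTensor R P (LocalizedModule.mkLinearMap q.primeCompl M)) ⟨_, hs⟩)).1
      ((hzero z).trans (hzero z').symm)

variable (S M) in
/-- Over a ring killed by a power of the maximal ideal, flatness is local over the closed point. -/
theorem flat_iff_atPrimes (A' : Type u) [CommRing A'] [Algebra R A'] {n : ℕ}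
    (hA : (maximalIdeal R ^ n).map (algebraMap R A') = ⊥) :
    Module.Flat A' (A' ⊗[R] M) ↔
      ∀ (q : Ideal S) [q.IsPrime], q.comap (algebraMap R S) = maximalIdeal R →
        Module.Flat A' (A' ⊗[R] LocalizedModule q.primeCompl M) := by
  have hP : ∀ I : Ideal A', ∀ a ∈ maximalIdeal R ^ n, ∀ x : I, a • x = 0 := fun I a ha x => by
    refine Subtype.ext ?_
    show a • (x : A') = 0
    rw [Algebra.smul_def, (Ideal.map_eq_bot_iff_le_ker _).1 hA ha, zero_mul]
  constructor
  · intro h q _ hq
    rw [flat_baseChange_iff] at h ⊢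
    exact fun I => (injective_iff_atPrimes (S := S) _ (hP I)).1 (h I) q hq
  · intro h
    rw [flat_baseChange_iff]
    exact fun I => (injective_iff_atPrimes (S := S) _ (hP I)).2 fun q _ hq =>
      (flat_baseChange_iff A' _).1 (h q hq) I

end Local

/-- A base change of a flat base change is flat. -/
theorem flat_of_tower (A A' N : Type u) [CommRing A] [Algebra R A] [CommRing A'] [Algebra R A']
    [Algebra A A'] [IsScalarTower R A A'] [AddCommGroup N] [Module R N] [Module.Flat A (A ⊗[R] N)] :
    Module.Flat A' (A' ⊗[R] N) :=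
  Module.Flat.of_linearEquiv (AlgebraTensorModule.cancelBaseChange R A A' A' N).symm

variable (M) in
/-- The flattening ideal modulo a power of the maximal ideal. -/
theorem exists_artinian [IsLocalRing R] [IsNoetherianRing R] (n : ℕ) :
    ∃ J : Ideal R, maximalIdeal R ^ n ≤ J ∧
      ∀ (A' : Type u) [CommRing A'] [Algebra R A'], (maximalIdeal R ^ n).map (algebraMap R A') = ⊥ →
        (Module.Flat A' (A' ⊗[R] M) ↔ J.map (algebraMap R A') = ⊥) := by
  let A := R ⧸ maximalIdeal R ^ n
  have : IsArtinianRing A := by
    refine (isArtinianRing_iff_isNoetherianRing_krullDimLE_zero).2 ⟨inferInstance, ?_⟩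
    refine Ring.krullDimLE_zero_iff.mpr fun p hp => ?_
    have hle : maximalIdeal R ≤ p.comap (Ideal.Quotient.mk _) := fun x hx => by
      refine Ideal.IsPrime.mem_of_pow_mem (I := p.comap _) inferInstance n ?_
      rw [Ideal.mem_comap, Ideal.Quotient.eq_zero_iff_mem.2 (Ideal.pow_mem_pow hx n)]
      exact zero_mem _
    have hmax : (p.comap (Ideal.Quotient.mk (maximalIdeal R ^ n))).IsMaximal := by
      rw [← le_antisymm hle (IsLocalRing.le_maximalIdeal (Ideal.IsPrime.comap _).ne_top)]
      infer_instance
    rcases Ideal.map_eq_top_or_isMaximal_of_surjective (Ideal.Quotient.mk (maximalIdeal R ^ n)) Ideal.Quotient.mk_surjective hmax with h | h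
    · rw [Ideal.map_comap_of_surjective _ Ideal.Quotient.mk_surjective] at h
      exact (hp.ne_top h).elim
    · rwa [Ideal.map_comap_of_surjective _ Ideal.Quotient.mk_surjective] at h
  obtain ⟨I, hI⟩ := Groth.Agent.S1265.result (A := A) (B := A) (A ⊗[R] M)
  refine ⟨I.comap (Ideal.Quotient.mk (maximalIdeal R ^ n)), fun x hx => ?_, fun A' _ _ hA' => ?_⟩
  · rw [Ideal.mem_comap, Ideal.Quotient.eq_zero_iff_mem.2 hx]
    exact zero_mem _
  letI : Algebra A A' := (Ideal.Quotient.lift _ (algebraMap R A')
    fun a ha => (Ideal.map_eq_bot_iff_le_ker _).1 hA' ha).toAlgebra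
  haveI : IsScalarTower R A A' := IsScalarTower.of_algebraMap_eq fun a => rfl
  haveI : Algebra.IsPushout A A A' A' :=
    Algebra.IsPushout.symm (h := ⟨IsBaseChange.linearMap A A'⟩)
  have key := hI A' A' (A' ⊗[A] (A ⊗[R] M)) (TensorProduct.mk A A' (A ⊗[R] M) 1)
    (TensorProduct.isBaseChange A (A ⊗[R] M) A')
  have hmap : (I.comap (Ideal.Quotient.mk (maximalIdeal R ^ n))).map (algebraMap R A') = I.map (algebraMap A A') := by
    rw [show algebraMap R A' = (algebraMap A A').comp (Ideal.Quotient.mk (maximalIdeal R ^ n)) from rfl, ← Ideal.map_map,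
      Ideal.map_comap_of_surjective _ Ideal.Quotient.mk_surjective]
  rw [hmap, ← key]
  exact ⟨fun h => Module.Flat.of_linearEquiv (AlgebraTensorModule.cancelBaseChange R A A' A' M),
    fun h => Module.Flat.of_linearEquiv (AlgebraTensorModule.cancelBaseChange R A A' A' M).symm⟩

variable [IsLocalRing R]

variable (S M) in
/-- `M` is flat over `R ⧸ J` at the primes over the closed point. -/
def IsFlattening (J : Ideal R) : Prop :=
  ∀ (q : Ideal S) [q.IsPrime], q.comap (algebraMap R S) = maximalIdeal R →
    Module.Flat (R ⧸ J) ((R ⧸ J) ⊗[R] LocalizedModule q.primeCompl M)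

variable (S) in
/-- A ring killing both `J` and a power of the maximal ideal sees a flat base change. -/
theorem flat_of_isFlattening {J : Ideal R} (hJ : IsFlattening S M J) (A' : Type u) [CommRing A']
    [Algebra R A'] (hJA : J.map (algebraMap R A') = ⊥) {n : ℕ}
    (hA : (maximalIdeal R ^ n).map (algebraMap R A') = ⊥) :
    Module.Flat A' (A' ⊗[R] M) := by
  letI : Algebra (R ⧸ J) A' := (Ideal.Quotient.lift _ (algebraMap R A')
    fun a ha => (Ideal.map_eq_bot_iff_le_ker _).1 hJA ha).toAlgebra
  haveI : IsScalarTower R (R ⧸ J) A' := IsScalarTower.of_algebraMap_eq fun _ => rfl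
  refine (flat_iff_atPrimes S M A' hA).2 fun q _ hq => ?_
  haveI := hJ q hq
  exact flat_of_tower (R ⧸ J) A' _

variable (R S M) in
/-- Over a complete Noetherian local ring there is a least flattening ideal; it also decides flatness
over rings killed by a power of the maximal ideal. -/
theorem exists_flattening [IsNoetherianRing R] [IsAdicComplete (maximalIdeal R) R] [IsNoetherianRing S]
    [Module.Finite S M] :
    ∃ I : Ideal R, I ≤ maximalIdeal R ∧ IsFlattening S M I ∧ (∀ J, IsFlattening S M J → I ≤ J) ∧
      ∀ (n : ℕ) (A' : Type u) [CommRing A'] [Algebra R A'],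
        (maximalIdeal R ^ n).map (algebraMap R A') = ⊥ →
        (Module.Flat A' (A' ⊗[R] M) ↔ I.map (algebraMap R A') = ⊥) := by
  choose J hle hJ using exists_artinian (R := R) M
  have hq : ∀ (K : Ideal R), K.map (algebraMap R (R ⧸ K)) = ⊥ := fun K => by
    rw [Ideal.Quotient.algebraMap_eq, Ideal.map_quotient_self]
  have hq' : ∀ {K K' : Ideal R}, K' ≤ K → K'.map (algebraMap R (R ⧸ K)) = ⊥ := fun h =>
    le_bot_iff.1 ((Ideal.map_mono h).trans (hq _).le)
  have hq'' : ∀ {K K' : Ideal R}, K'.map (algebraMap R (R ⧸ K)) = ⊥ → K' ≤ K := fun {K K'} h x hx => by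
    rw [← Ideal.Quotient.eq_zero_iff_mem]
    exact (Ideal.map_eq_bot_iff_le_ker _).1 h hx
  have hanti : ∀ n, J (n + 1) ≤ J n := fun n =>
    hq'' ((hJ (n + 1) _ (hq' ((Ideal.pow_le_pow_right (Nat.le_succ n)).trans (hle n)))).1
      ((hJ n _ (hq' (hle n))).2 (hq _)))
  have hup : ∀ n, J n ≤ J (n + 1) ⊔ maximalIdeal R ^ n := fun n =>
    hq'' ((hJ n _ (hq' le_sup_right)).1
      (by
        letI : Algebra (R ⧸ J (n + 1)) (R ⧸ (J (n + 1) ⊔ maximalIdeal R ^ n)) :=
          (Ideal.Quotient.factor (le_sup_left : J (n + 1) ≤ J (n + 1) ⊔ maximalIdeal R ^ n)).toAlgebra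
        haveI : IsScalarTower R (R ⧸ J (n + 1)) (R ⧸ (J (n + 1) ⊔ maximalIdeal R ^ n)) :=
          IsScalarTower.of_algebraMap_eq fun _ => rfl
        haveI := (hJ (n + 1) _ (hq' (hle (n + 1)))).2 (hq (J (n + 1)))
        exact flat_of_tower (R ⧸ J (n + 1)) _ M))
  have hsum : ∀ n, J n = (⨅ k, J k) ⊔ maximalIdeal R ^ n := fun n => by
    refine le_antisymm (fun x hx => ?_) (sup_le (iInf_le _ _) (hle n))
    have step : ∀ k (y : J (n + k)), ∃ z : J (n + (k + 1)), (y : R) - z ∈ maximalIdeal R ^ (n + k) :=
      fun k y => by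
        obtain ⟨z, hz, w, hw, hzw⟩ := Submodule.mem_sup.1 (hup (n + k) y.2)
        exact ⟨⟨z, hz⟩, by rw [show (y : R) - z = w by rw [← hzw]; abel]; exact hw⟩
    choose g hg using step
    let y : ∀ k, J (n + k) := fun k => Nat.rec (motive := fun k => J (n + k)) ⟨x, hx⟩ g k
    have hy : ∀ k l, k ≤ l → (y k : R) - y l ∈ maximalIdeal R ^ (n + k) := fun k l hkl => by
      induction l, hkl using Nat.le_induction with
      | base => simp
      | succ l hkl ih =>
        rw [show (y k : R) - y (l + 1) = ((y k : R) - y l) + ((y l : R) - y (l + 1)) by abel]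
        exact add_mem ih (Ideal.pow_le_pow_right (by omega) (hg l (y l)))
    obtain ⟨L, hL⟩ := IsPrecomplete.prec (I := maximalIdeal R) (M := R) inferInstance
      (f := fun k => (y k : R)) fun {a b} hab => by
        rw [smul_eq_mul, Ideal.mul_top, SModEq.sub_mem]
        exact Ideal.pow_le_pow_right (by omega) (hy a b hab)
    have hL' : ∀ k, (y k : R) - L ∈ maximalIdeal R ^ k := fun k => by
      have := hL k
      rwa [smul_eq_mul, Ideal.mul_top, SModEq.sub_mem] at this
    refine Submodule.mem_sup.2 ⟨L, Submodule.mem_iInf _ |>.2 fun k => ?_, x - L, ?_, add_sub_cancel _ _⟩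
    · rw [show L = (y k : R) - ((y k : R) - L) by abel]
      exact sub_mem (antitone_nat_of_succ_le hanti (Nat.le_add_left k n) (y k).2) (hle k (hL' k))
    · rw [show x - L = ((y 0 : R) - y n) + ((y n : R) - L) by
        change x - L = (x - y n) + ((y n : R) - L)
        abel]
      exact add_mem (hy 0 n (Nat.zero_le _)) (hL' n)
  have h4 : ∀ (n : ℕ) (A' : Type u) [CommRing A'] [Algebra R A'],
      (maximalIdeal R ^ n).map (algebraMap R A') = ⊥ →
      (Module.Flat A' (A' ⊗[R] M) ↔ (⨅ k, J k).map (algebraMap R A') = ⊥) := fun n A' _ _ h => by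
    rw [hJ n A' h, hsum n, Ideal.map_sup, h, sup_bot_eq]
  have hm : (⨅ k, J k) ≤ maximalIdeal R := by
    refine (iInf_le _ 1).trans (hq'' ((hJ 1 _ (hq' (pow_one _).le)).1 ?_))
    letI := Ideal.Quotient.field (maximalIdeal R)
    infer_instance
  refine ⟨⨅ k, J k, hm, fun q _ hqm => ?_, fun K hK x hx => ?_, h4⟩
  · let A := R ⧸ (⨅ k, J k)
    let Sq := Localization q.primeCompl
    let L := LocalizedModule q.primeCompl M
    let B := A ⊗[R] Sq
    letI : Algebra Sq B := Algebra.TensorProduct.rightAlgebra
    have hsurj : Function.Surjective (algebraMap Sq B) :=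
      TensorProduct.mk_surjective R Sq A Ideal.Quotient.mk_surjective
    haveI : IsNoetherianRing B := isNoetherianRing_of_surjective Sq B _ hsurj
    haveI : Module.Finite Sq L := Module.Finite.of_isLocalizedModule q.primeCompl
      (LocalizedModule.mkLinearMap q.primeCompl M)
    let e : B ⊗[Sq] L ≃ₗ[A] A ⊗[R] L := Algebra.IsPushout.cancelBaseChange R A Sq B L
    suffices Module.Flat A (B ⊗[Sq] L) from Module.Flat.of_linearEquiv e.symm
    haveI : Module.Finite B (B ⊗[Sq] L) := Module.Finite.base_change Sq B L
    refine LocalFlat.Criterion.flat_of_flat_quotient_pow (R := A) (M := B ⊗[Sq] L) B ((maximalIdeal R).map (algebraMap R A)) ?_ fun n => ?_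
    · haveI : IsLocalRing Sq := IsLocalization.AtPrime.isLocalRing Sq q
      rw [Ideal.map_map, Ideal.map_le_iff_le_comap]
      intro a ha
      rw [Ideal.mem_comap, Ideal.mem_jacobson_bot]
      intro b
      obtain ⟨b, rfl⟩ := hsurj b
      rw [show ((algebraMap A B).comp (algebraMap R A)) a = algebraMap Sq B (algebraMap R Sq a) by
        rw [RingHom.comp_apply, ← IsScalarTower.algebraMap_apply, ← IsScalarTower.algebraMap_apply]]
      rw [← map_mul, ← map_one (algebraMap Sq B), ← map_add]
      refine IsUnit.map _ ?_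
      have ha' : algebraMap R Sq a ∈ maximalIdeal Sq := by
        rw [IsScalarTower.algebraMap_apply R S Sq, IsLocalization.AtPrime.to_map_mem_maximal_iff Sq q]
        exact (hqm ▸ ha : a ∈ q.comap (algebraMap R S))
      by_contra hu
      have h1 : algebraMap R Sq a * b + 1 ∈ maximalIdeal Sq := hu
      exact (maximalIdeal Sq).ne_top_iff_one.1 (Ideal.IsPrime.ne_top')
        ((Ideal.add_mem_iff_right _ (Ideal.mul_mem_right b _ ha')).1 h1)
    · let A' := A ⧸ (maximalIdeal R).map (algebraMap R A) ^ n
      have hA' : (maximalIdeal R ^ n).map (algebraMap R A') = ⊥ := by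
        rw [IsScalarTower.algebraMap_eq R A A', ← Ideal.map_map, Ideal.map_pow,
          Ideal.Quotient.algebraMap_eq ((maximalIdeal R).map (algebraMap R A) ^ n), Ideal.map_quotient_self]
      have hI' : (⨅ k, J k).map (algebraMap R A') = ⊥ := by
        rw [IsScalarTower.algebraMap_eq R A A', ← Ideal.map_map, hq, Ideal.map_bot]
      haveI := (flat_iff_atPrimes S M A' hA').1 ((h4 n A' hA').2 hI') q hqm
      exact Module.Flat.of_linearEquiv ((AlgebraTensorModule.congr (LinearEquiv.refl A' A') e).trans
        (AlgebraTensorModule.cancelBaseChange R A A' A' L))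
  · rw [← Ideal.Quotient.eq_zero_iff_mem]
    refine LocalFlat.Criterion.iInf_pow_smul_eq_bot_of_le_jacobson (S := R) (N := R ⧸ K)
      (IsLocalRing.maximalIdeal_le_jacobson _) fun n => ?_
    have : x ∈ K ⊔ maximalIdeal R ^ n :=
      hq'' ((h4 n _ (hq' le_sup_right)).1 (flat_of_isFlattening S hK _ (hq' le_sup_left) (hq' le_sup_right))) hx
    obtain ⟨a, ha, b, hb, rfl⟩ := Submodule.mem_sup.1 this
    rw [map_add, Ideal.Quotient.eq_zero_iff_mem.2 ha, zero_add,
      show Ideal.Quotient.mk K b = b • (1 : R ⧸ K) by rw [Algebra.smul_def, mul_one]; rfl]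
    exact Submodule.smul_mem_smul hb trivial

end Groth.Agent.Lib.FlatCA.CompleteFlatten
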