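import Groth.Agent.Lib.FlatCA.WeakAss
import Groth.Agent.H19.FlatLocus.Main
import Groth.Agent.Lib.Flat55.Presented

/-!
# Finitely presented models of essentially finitely presented local algebras
-/

noncomputable section

universe u

open TensorProduct

namespace Groth.Agent.Lib.FlatCA.LocalModel

theorem exists_descend {S₀ S N : Type u} [CommRing S₀] [CommRing S] [Algebra S₀ S] (M : Submonoid S₀)
    [IsLocalization M S] [AddCommGroup N] [Module S N] [Module S₀ N] [IsScalarTower S₀ S N]
    [Module.FinitePresentation S N] :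
    ∃ (N₀ : Type u) (_ : AddCommGroup N₀) (_ : Module S₀ N₀) (_ : Module.FinitePresentation S₀ N₀)
      (l : N₀ →ₗ[S₀] N), IsBaseChange S l := by
  classical
  obtain ⟨m, K, e, hK⟩ := Module.FinitePresentation.exists_fin S N
  obtain ⟨k, v, hv⟩ := Submodule.fg_iff_exists_fin_generating_family.1 hK
  obtain ⟨d, hd⟩ := IsLocalization.exist_integer_multiples_of_finite M (fun ji : Fin k × Fin m => v ji.1 ji.2)
  choose v₀ hv₀ using hd
  let g : Fin k → Fin m → S₀ := fun j i => v₀ (j, i)
  let g' : Fin k → Fin m → S := fun j i => algebraMap S₀ S (g j i)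
  have hspan : Submodule.span S (Set.range g') = K := by
    rw [← hv]
    have hu : IsUnit (algebraMap S₀ S (d : S₀)) := IsLocalization.map_units S d
    have hg' : ∀ j, g' j = algebraMap S₀ S (d : S₀) • v j := fun j => funext fun i => by
      show algebraMap S₀ S (v₀ (j, i)) = algebraMap S₀ S (d : S₀) * v j i
      rw [hv₀, Algebra.smul_def]
    refine le_antisymm (Submodule.span_le.2 ?_) (Submodule.span_le.2 ?_)
    · rintro _ ⟨j, rfl⟩
      rw [hg']
      exact Submodule.smul_mem _ _ (Submodule.subset_span ⟨j, rfl⟩)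
    · rintro _ ⟨j, rfl⟩
      rw [show v j = (hu.unit⁻¹ : Sˣ).1 • g' j by rw [hg', smul_smul, IsUnit.val_inv_mul, one_smul]]
      exact Submodule.smul_mem _ _ (Submodule.subset_span ⟨j, rfl⟩)
  let e' : ((Fin m → S) ⧸ Submodule.span S (Set.range g')) ≃ₗ[S] N :=
    (Submodule.quotEquivOfEq _ _ hspan).trans e.symm
  refine ⟨_, inferInstance, inferInstance,
    Module.finitePresentation_of_surjective (Submodule.mkQ (Submodule.span S₀ (Set.range g)))
      (Submodule.mkQ_surjective _) (by rw [Submodule.ker_mkQ]; exact Submodule.fg_span (Set.finite_range _)),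
    (e'.toLinearMap.restrictScalars S₀).comp (Flat55.Presented.quotMap g g' fun _ _ => rfl),
    (Flat55.Presented.isBaseChange_quotMap g g' fun _ _ => rfl).comp (IsBaseChange.ofEquiv e')⟩

theorem exists_local_model {R S N : Type u} [CommRing R] [CommRing S] [Algebra R S] [IsLocalRing S]
    (hS : _root_.FlatCA.EssFinitePresentation R S) [AddCommGroup N] [Module S N] [Module R N]
    [IsScalarTower R S N] [Module.FinitePresentation S N] [Module.Flat R N] :
    ∃ (T : Type u) (_ : CommRing T) (_ : Algebra R T) (_ : Algebra T S) (_ : IsScalarTower R T S)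
      (_ : Algebra.FinitePresentation R T) (M : Submonoid T) (_ : IsLocalization M S)
      (_ : Module T N) (_ : IsScalarTower T S N)
      (N₁ : Type u) (_ : AddCommGroup N₁) (_ : Module T N₁) (_ : Module R N₁) (_ : IsScalarTower R T N₁)
      (_ : Module.FinitePresentation T N₁) (_ : Module.Flat R N₁) (l : N₁ →ₗ[T] N),
      IsLocalizedModule M l := by
  obtain ⟨S₀, _, _, _, _, M, hfp, hM⟩ := hS
  haveI := hfp
  haveI := hM
  letI : Module S₀ N := Module.compHom N (algebraMap S₀ S)
  haveI : IsScalarTower S₀ S N := IsScalarTower.of_algebraMap_smul fun _ _ => rfl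
  haveI : IsScalarTower R S₀ N := IsScalarTower.of_algebraMap_smul fun r x => by
    show algebraMap S₀ S (algebraMap R S₀ r) • x = r • x
    rw [← IsScalarTower.algebraMap_apply, algebraMap_smul]
  obtain ⟨N₀, _, _, _, l₀, hl₀⟩ := exists_descend (S := S) (N := N) M
  letI : Module R N₀ := Module.compHom N₀ (algebraMap R S₀)
  haveI : IsScalarTower R S₀ N₀ := IsScalarTower.of_algebraMap_smul fun _ _ => rfl
  let q := (IsLocalRing.maximalIdeal S).comap (algebraMap S₀ S)
  haveI hq : IsLocalization q.primeCompl S := IsLocalization.of_le M q.primeCompl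
    (fun x hx h => h (IsLocalization.map_units S (⟨x, hx⟩ : M)))
    fun r hr => by
      by_contra h
      exact hr h
  haveI : IsLocalizedModule q.primeCompl l₀ := (isLocalizedModule_iff_isBaseChange q.primeCompl S l₀).2 hl₀
  have hflat : Module.Flat R (LocalizedModule q.primeCompl N₀) :=
    Module.Flat.of_linearEquiv ((IsLocalizedModule.iso q.primeCompl l₀).restrictScalars R)
  obtain ⟨_, ⟨h, rfl⟩, hhq, hsub⟩ := PrimeSpectrum.isTopologicalBasis_basic_opens.isOpen_iff.1
    (H19.FlatLocus.isOpen_flat_of_finitePresentation (R := R) (S := S₀) (M := N₀)) ⟨q, inferInstance⟩ hflat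
  let T := Localization.Away h
  let N₁ := LocalizedModule (Submonoid.powers h) N₀
  let l₁ := LocalizedModule.mkLinearMap (Submonoid.powers h) N₀
  have hu : ∀ y : Submonoid.powers h, IsUnit (algebraMap S₀ S y) := fun y => by
    obtain ⟨n, hn⟩ := y.2
    rw [show (y : S₀) = h ^ n from hn.symm, map_pow]
    exact ((not_not.1 fun hc => hhq hc) : IsUnit (algebraMap S₀ S h)).pow n
  letI : Algebra T S := (IsLocalization.lift hu).toAlgebra
  haveI : IsScalarTower S₀ T S := IsScalarTower.of_algebraMap_eq fun x => (IsLocalization.lift_eq hu x).symm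
  haveI : IsScalarTower R T S := IsScalarTower.of_algebraMap_eq fun r => by
    rw [IsScalarTower.algebraMap_apply R S₀ T, ← IsScalarTower.algebraMap_apply S₀ T S,
      ← IsScalarTower.algebraMap_apply R S₀ S]
  letI : Module T N := Module.compHom N (algebraMap T S)
  haveI : IsScalarTower T S N := IsScalarTower.of_algebraMap_smul fun _ _ => rfl
  haveI : IsScalarTower S₀ T N := IsScalarTower.of_algebraMap_smul fun a x => by
    show algebraMap T S (algebraMap S₀ T a) • x = a • x
    rw [← IsScalarTower.algebraMap_apply, algebraMap_smul]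
  haveI : Algebra.FinitePresentation S₀ T := IsLocalization.Away.finitePresentation h
  haveI : Algebra.FinitePresentation R T := Algebra.FinitePresentation.trans R S₀ T
  have hpow : Submonoid.powers h ≤ q.primeCompl := by
    rw [Submonoid.powers_le]
    exact hhq
  let M₁ : Submonoid T := q.primeCompl.map (algebraMap S₀ T)
  haveI : IsLocalization M₁ S :=
    IsLocalization.isLocalization_of_submonoid_le T S (Submonoid.powers h) q.primeCompl hpow
  haveI : Module.FinitePresentation T N₁ :=
    inferInstanceAs (Module.FinitePresentation (Localization (Submonoid.powers h)) (LocalizedModule (Submonoid.powers h) N₀))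
  haveI : IsScalarTower R T N₁ := IsScalarTower.of_algebraMap_smul fun r x => by
    rw [IsScalarTower.algebraMap_apply R S₀ T, algebraMap_smul, algebraMap_smul]
  haveI : Module.Flat R N₁ := by
    refine (H19.FlatLocus.flat_iff_killed (Submonoid.powers h) l₁).2 fun J y hy => ?_
    by_contra hcon
    push Not at hcon
    let Ann : Ideal S₀ := LinearMap.ker (LinearMap.toSpanSingleton S₀ _ y)
    obtain ⟨P, hP, hle, hd⟩ := Ideal.exists_le_prime_disjoint Ann (Submonoid.powers h) (by
      rw [Set.disjoint_left]
      intro c hc hc'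
      exact hcon c hc' hc)
    have hPh : h ∉ P := fun hc => Set.disjoint_left.1 hd hc (Submonoid.mem_powers h)
    haveI : Module.Flat R (LocalizedModule P.primeCompl N₀) :=
      hsub (show (⟨P, hP⟩ : PrimeSpectrum S₀) ∈ _ from hPh)
    obtain ⟨w, hw, hwz⟩ := (H19.FlatLocus.flat_iff_killed P.primeCompl
      (LocalizedModule.mkLinearMap P.primeCompl N₀)).1 inferInstance J y hy
    exact hw (hle hwz)
  have hu' : ∀ x : Submonoid.powers h, IsUnit (algebraMap S₀ (Module.End S₀ N) x) :=
    fun x => IsLocalizedModule.map_units l₀ (⟨x, hpow x.2⟩ : q.primeCompl)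
  let l : N₁ →ₗ[T] N := LinearMap.extendScalarsOfIsLocalization (Submonoid.powers h) T
    (IsLocalizedModule.lift (Submonoid.powers h) l₁ l₀ hu')
  have hl : IsBaseChange S l := IsBaseChange.of_comp
    ((isLocalizedModule_iff_isBaseChange (Submonoid.powers h) T l₁).1 inferInstance)
    (show IsBaseChange S ((l : N₁ →ₗ[S₀] N) ∘ₗ l₁) from by
      rw [show (l : N₁ →ₗ[S₀] N) ∘ₗ l₁ = l₀ from IsLocalizedModule.lift_comp _ _ _ hu']
      exact hl₀)
  exact ⟨T, inferInstance, inferInstance, inferInstance, inferInstance, inferInstance, M₁, inferInstance,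
    inferInstance, inferInstance, N₁, inferInstance, inferInstance, inferInstance, inferInstance, inferInstance,
    inferInstance, l, (isLocalizedModule_iff_isBaseChange M₁ S l).2 hl⟩

end Groth.Agent.Lib.FlatCA.LocalModel
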