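import Groth.Agent.Lib.FlatCA.CompleteFlattenBC
import Mathlib.RingTheory.Flat.Localization
import Mathlib.RingTheory.Flat.FaithfullyFlat.Basic

/-!
# Flatness at a prime through a flat extension of the algebra
-/

universe u

open TensorProduct

namespace Groth.Agent.Lib.FlatCA.LocalDescent

variable {R B C : Type u} [CommRing R] [CommRing B] [CommRing C] [Algebra R B] [Algebra B C]
  {M N : Type u} [AddCommGroup M] [Module B M] [Module R M] [IsScalarTower R B M]
  [AddCommGroup N] [Module C N] [Module B N] [IsScalarTower B C N] [Module R N]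
  [Algebra R C] [IsScalarTower R C N] [IsScalarTower R B C]

/-- If `C_Q` is flat over `B`, flatness over `R` at `Q` of `C ⊗ M` is flatness of `M` at `Q ∩ B`. -/
theorem flatAt_iff (g : M →ₗ[B] N) (hg : IsBaseChange C g) (Q : Ideal C) [Q.IsPrime]
    [Module.Flat B (Localization.AtPrime Q)] :
    Module.Flat R (LocalizedModule Q.primeCompl N) ↔
      Module.Flat R (LocalizedModule (Q.comap (algebraMap B C)).primeCompl M) := by
  let CQ := Localization.AtPrime Q
  haveI : IsScalarTower R B N := IsScalarTower.of_algebraMap_smul fun r x => by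
    rw [← algebraMap_smul C (algebraMap R B r), ← IsScalarTower.algebraMap_apply, algebraMap_smul]
  haveI : IsScalarTower R B (LocalizedModule Q.primeCompl N) := IsScalarTower.of_algebraMap_smul fun r x => by
    rw [← algebraMap_smul C (algebraMap R B r), ← IsScalarTower.algebraMap_apply, algebraMap_smul]
  let l : M →ₗ[B] LocalizedModule Q.primeCompl N :=
    ((LocalizedModule.mkLinearMap Q.primeCompl N).restrictScalars B).comp g
  have hl : IsBaseChange CQ l := IsBaseChange.comp hg
    ((isLocalizedModule_iff_isBaseChange Q.primeCompl CQ _).1 inferInstance)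
  -- the comparison `C_Q ⊗ (M ⊗ J) → N_Q ⊗ J`
  let E : ∀ (J : Ideal R), CQ ⊗[B] (M ⊗[R] J) →+ LocalizedModule Q.primeCompl N ⊗[R] J := fun J =>
    ((hl.equiv.toLinearMap.restrictScalars R).rTensor J).toAddMonoidHom.comp
      (AlgebraTensorModule.assoc R B B CQ M J).symm.toAddEquiv.toAddMonoidHom
  let E' : CQ ⊗[B] (M ⊗[R] R) →+ LocalizedModule Q.primeCompl N ⊗[R] R :=
    ((hl.equiv.toLinearMap.restrictScalars R).rTensor R).toAddMonoidHom.comp
      (AlgebraTensorModule.assoc R B B CQ M R).symm.toAddEquiv.toAddMonoidHom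
  have hE : ∀ J, Function.Bijective (E J) := fun J =>
    (LinearEquiv.rTensor J (hl.equiv.restrictScalars R)).bijective.comp
      (AlgebraTensorModule.assoc R B B CQ M J).symm.bijective
  have hE' : Function.Bijective E' :=
    (LinearEquiv.rTensor R (hl.equiv.restrictScalars R)).bijective.comp
      (AlgebraTensorModule.assoc R B B CQ M R).symm.bijective
  have hsq : ∀ (J : Ideal R) z, J.subtype.lTensor (LocalizedModule Q.primeCompl N) (E J z) =
      E' ((AlgebraTensorModule.lTensor B M J.subtype).lTensor CQ z) := by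
    intro J z
    induction z using TensorProduct.induction_on with
    | zero => simp
    | add a b ha hb => simp only [map_add, ha, hb]
    | tmul c w =>
      induction w using TensorProduct.induction_on with
      | zero => simp
      | add a b ha hb => simp only [TensorProduct.tmul_add, map_add, ha, hb]
      | tmul x j => simp [E, E']
  have key : Module.Flat R (LocalizedModule Q.primeCompl N) ↔
      ∀ J : Ideal R, Function.Injective ((AlgebraTensorModule.lTensor B M J.subtype).lTensor CQ) := by
    rw [Module.Flat.iff_lTensor_injective']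
    refine forall_congr' fun J => ?_
    rw [← Function.Injective.of_comp_iff' _ (hE J), ← hE'.1.of_comp_iff ((AlgebraTensorModule.lTensor B M J.subtype).lTensor CQ)]
    exact iff_of_eq (congrArg Function.Injective (funext fun z => hsq J z))
  rw [key, H19.FlatLocus.flat_iff_killed (Q.comap (algebraMap B C)).primeCompl
    (LocalizedModule.mkLinearMap (Q.comap (algebraMap B C)).primeCompl M)]
  constructor
  · intro h J y hy
    by_contra hc
    push Not at hc
    let t := LinearMap.toSpanSingleton B (M ⊗[R] J) y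
    let 𝔞 : Ideal B := LinearMap.ker t
    have hle : 𝔞.map (algebraMap B CQ) ≤ IsLocalRing.maximalIdeal CQ := by
      rw [Ideal.map_le_iff_le_comap]
      intro s hs
      rw [Ideal.mem_comap, IsScalarTower.algebraMap_apply B C CQ,
        IsLocalization.AtPrime.to_map_mem_maximal_iff CQ Q]
      by_contra hsQ
      exact hc s hsQ hs
    have hinj : Function.Injective ((𝔞.liftQ t le_rfl).lTensor CQ) :=
      Module.Flat.lTensor_preserves_injective_linearMap _
        (LinearMap.ker_eq_bot.1 (Submodule.ker_liftQ_eq_bot _ _ _ le_rfl))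
    have h0 : (1 : CQ) ⊗ₜ[B] y = 0 := h J (by
      rw [map_zero, LinearMap.lTensor_tmul]
      rw [show AlgebraTensorModule.lTensor B M J.subtype y = J.subtype.lTensor M y from rfl, hy,
        TensorProduct.tmul_zero])
    have h1 : (1 : CQ) ⊗ₜ[B] (Submodule.Quotient.mk (1 : B) : B ⧸ 𝔞) = 0 := hinj (by
      rw [map_zero, LinearMap.lTensor_tmul]
      rw [show (𝔞.liftQ t le_rfl) (Submodule.Quotient.mk (1 : B)) = y from one_smul B y]
      exact h0)
    have h2 := congrArg (TensorProduct.tensorQuotEquivQuotSMul CQ 𝔞) h1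
    simp only [map_zero] at h2
    rw [show (Submodule.Quotient.mk (1 : B) : B ⧸ 𝔞) = Ideal.Quotient.mk 𝔞 1 from rfl,
      TensorProduct.tensorQuotEquivQuotSMul_tmul_mk, one_smul, Submodule.Quotient.mk_eq_zero,
      Ideal.smul_top_eq_map] at h2
    exact (IsLocalRing.maximalIdeal CQ).ne_top_iff_one.1 (Ideal.IsPrime.ne_top') (hle h2)
  · intro h J
    rw [injective_iff_map_eq_zero]
    intro z hz
    obtain ⟨w, rfl⟩ := (Module.Flat.lTensor_exact CQ (LinearMap.exact_subtype_ker_map
      (AlgebraTensorModule.lTensor B M J.subtype)) z).1 hz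
    clear hz
    induction w using TensorProduct.induction_on with
    | zero => simp
    | add a b ha hb => rw [map_add, ha, hb, add_zero]
    | tmul c k =>
      obtain ⟨s, hs, hsk⟩ := h J k.1 k.2
      have hu : IsUnit (algebraMap B CQ s) := by
        rw [IsScalarTower.algebraMap_apply B C CQ]
        exact IsLocalization.map_units CQ (⟨algebraMap B C s, hs⟩ : Q.primeCompl)
      obtain ⟨v, hv⟩ := hu.exists_left_inv
      rw [LinearMap.lTensor_tmul, show c = s • (v * c) by rw [Algebra.smul_def, ← mul_assoc, mul_comm _ v, hv, one_mul],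
        TensorProduct.smul_tmul, Submodule.subtype_apply, hsk, TensorProduct.tmul_zero]

section Prime

variable {A A₁ A₂ T : Type u} [CommRing A] [CommRing A₁] [CommRing A₂] [CommRing T] [Algebra A A₁]
  [Algebra A A₂] [Algebra A₁ T] [Algebra A₂ T] [Algebra A T] [IsScalarTower A A₁ T] [IsScalarTower A A₂ T]

/-- Primes over compatible primes of a pushout. -/
theorem exists_prime_pushout (hpo : Algebra.IsPushout A A₁ A₂ T) (q₁ : Ideal A₁) [q₁.IsPrime]
    (q₂ : Ideal A₂) [q₂.IsPrime] (h : q₁.comap (algebraMap A A₁) = q₂.comap (algebraMap A A₂)) :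
    ∃ (Q : Ideal T) (_ : Q.IsPrime), Q.comap (algebraMap A₁ T) = q₁ ∧ Q.comap (algebraMap A₂ T) = q₂ := by
  haveI := hpo
  let p := q₁.comap (algebraMap A A₁)
  haveI : q₁.LiesOver p := ⟨rfl⟩
  haveI : q₂.LiesOver p := ⟨h⟩
  let κ := p.ResidueField
  letI : Algebra κ q₁.ResidueField := (Ideal.ResidueField.mapₐ p q₁ (Algebra.ofId A A₁) rfl).toRingHom.toAlgebra
  letI : Algebra κ q₂.ResidueField := (Ideal.ResidueField.mapₐ p q₂ (Algebra.ofId A A₂) h).toRingHom.toAlgebra
  haveI : IsScalarTower A κ q₁.ResidueField := IsScalarTower.of_algebraMap_eq fun a =>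
    ((Ideal.ResidueField.mapₐ p q₁ (Algebra.ofId A A₁) rfl).commutes a).symm
  haveI : IsScalarTower A κ q₂.ResidueField := IsScalarTower.of_algebraMap_eq fun a =>
    ((Ideal.ResidueField.mapₐ p q₂ (Algebra.ofId A A₂) h).commutes a).symm
  obtain ⟨m, hm⟩ := Ideal.exists_maximal (q₁.ResidueField ⊗[κ] q₂.ResidueField)
  let F := (q₁.ResidueField ⊗[κ] q₂.ResidueField) ⧸ m
  let i₁ : q₁.ResidueField →+* F := (Ideal.Quotient.mk m).comp Algebra.TensorProduct.includeLeftRingHom
  let i₂ : q₂.ResidueField →+* F := (Ideal.Quotient.mk m).comp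
    (Algebra.TensorProduct.includeRight (R := κ) (A := q₁.ResidueField) (B := q₂.ResidueField)).toRingHom
  letI : Algebra A F := (i₁.comp (algebraMap A q₁.ResidueField)).toAlgebra
  let f₁ : A₁ →ₐ[A] F :=
    { i₁.comp (algebraMap A₁ q₁.ResidueField) with
      commutes' := fun a => congrArg i₁ (IsScalarTower.algebraMap_apply A A₁ q₁.ResidueField a).symm }
  let f₂ : A₂ →ₐ[A] F :=
    { i₂.comp (algebraMap A₂ q₂.ResidueField) with
      commutes' := fun a => by
        show i₂ (algebraMap A₂ q₂.ResidueField (algebraMap A A₂ a)) = i₁ (algebraMap A q₁.ResidueField a)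
        rw [← IsScalarTower.algebraMap_apply, IsScalarTower.algebraMap_apply A κ q₂.ResidueField,
          IsScalarTower.algebraMap_apply A κ q₁.ResidueField]
        simp only [i₁, i₂, RingHom.comp_apply]
        congr 1
        exact (RingHom.congr_fun (Algebra.TensorProduct.includeLeftRingHom_comp_algebraMap
          (R := κ) (A := q₁.ResidueField) (B := q₂.ResidueField)) _).symm }
  haveI : Nontrivial F := Ideal.Quotient.nontrivial_iff.2 hm.ne_top
  haveI : IsDomain F := Ideal.Quotient.isDomain m
  let Φ := Algebra.pushoutDesc (R := A) (S := A₁) (R' := A₂) T f₁ f₂ fun _ _ => mul_comm _ _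
  refine ⟨RingHom.ker Φ.toRingHom, RingHom.ker_isPrime _, ?_, ?_⟩
  · ext x
    simp only [Ideal.mem_comap, RingHom.mem_ker, AlgHom.toRingHom_eq_coe, RingHom.coe_coe]
    rw [show Φ (algebraMap A₁ T x) = i₁ (algebraMap A₁ q₁.ResidueField x) from Algebra.pushoutDesc_left T f₁ f₂ _ x,
      map_eq_zero_iff i₁ i₁.injective, Ideal.algebraMap_residueField_eq_zero]
  · ext x
    simp only [Ideal.mem_comap, RingHom.mem_ker, AlgHom.toRingHom_eq_coe, RingHom.coe_coe]
    rw [show Φ (algebraMap A₂ T x) = i₂ (algebraMap A₂ q₂.ResidueField x) from Algebra.pushoutDesc_right T f₁ f₂ _ x,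
      map_eq_zero_iff i₂ i₂.injective, Ideal.algebraMap_residueField_eq_zero]

end Prime

end Groth.Agent.Lib.FlatCA.LocalDescent
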