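import Groth.Agent.Lib.FlatCA.WeakAss
import Mathlib.RingTheory.Etale.QuasiFinite
import Mathlib.RingTheory.Spectrum.Prime.Chevalley

/-!
# Quasi-finite algebras in which points lift to specializations are finite
-/

noncomputable section

universe u

open TensorProduct

namespace Groth.Agent.Lib.FlatCA.FiniteCriterion

variable {A C : Type u} [CommRing A] [CommRing C] [Algebra A C]

/-- Over every étale neighbourhood of `p`, points over generizations specialize to points over the
marked point. -/
def Lifts (A C : Type u) [CommRing A] [CommRing C] [Algebra A C] (p : Ideal A) [p.IsPrime] : Prop :=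
  ∀ (A' : Type u) [CommRing A'] [Algebra A A'] (t : Ideal A') [t.IsPrime],
    _root_.FlatCA.IsEtaleNhd A A' p t → ∀ (P : Ideal (A' ⊗[A] C)), P.IsPrime →
      P.comap (algebraMap A' (A' ⊗[A] C)) ≤ t →
      ∃ P' : Ideal (A' ⊗[A] C), P'.IsPrime ∧ P ≤ P' ∧ P'.comap (algebraMap A' (A' ⊗[A] C)) = t

theorem isEtaleNhd_refl (p : Ideal A) [p.IsPrime] : _root_.FlatCA.IsEtaleNhd A A p p := by
  refine ⟨inferInstance, ⟨rfl⟩, ?_⟩
  rw! [Algebra.ofId_self, Ideal.ResidueField.mapₐ_id]
  exact Function.bijective_id

theorem isEtaleNhd_comp {A' A'' : Type u} [CommRing A'] [CommRing A''] [Algebra A A'] [Algebra A' A'']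
    [Algebra A A''] [IsScalarTower A A' A''] (p : Ideal A) [p.IsPrime] (t : Ideal A') [t.IsPrime]
    (t'' : Ideal A'') [t''.IsPrime] (h₁ : _root_.FlatCA.IsEtaleNhd A A' p t)
    (h₂ : _root_.FlatCA.IsEtaleNhd A' A'' t t'') : _root_.FlatCA.IsEtaleNhd A A'' p t'' := by
  obtain ⟨he₁, hl₁, hb₁⟩ := h₁
  obtain ⟨he₂, hl₂, hb₂⟩ := h₂
  haveI : t''.LiesOver p := .trans _ t _
  refine ⟨Algebra.Etale.comp A A' A'', inferInstance, ?_⟩
  convert hb₂.comp hb₁
  rw [← @AlgHom.coe_restrictScalars' A A', ← AlgHom.coe_comp]; congr 1; ext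

theorem isEtaleNhd_away (p : Ideal A) [p.IsPrime] {s : A} (hs : s ∉ p) :
    ∃ (_ : (p.map (algebraMap A (Localization.Away s))).IsPrime),
      _root_.FlatCA.IsEtaleNhd A (Localization.Away s) p (p.map (algebraMap A (Localization.Away s))) := by
  have hd : Disjoint (Submonoid.powers s : Set A) ↑p := by
    rwa [Ideal.disjoint_powers_iff_notMem_of_isPrime]
  haveI hp := IsLocalization.isPrime_of_isPrime_disjoint (.powers s) (Localization.Away s) _ ‹p.IsPrime› hd
  haveI := IsLocalization.liesOver_map_of_isPrime_disjoint (.powers s) (Localization.Away s) hd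
  exact ⟨hp, Algebra.Etale.of_isLocalizationAway s, inferInstance,
    (RingHom.surjectiveOnStalks_of_isLocalization (.powers s) _).residueFieldMap_bijective _ _ _⟩

/-- An algebra with an idempotent whose two factors are finite is finite. -/
theorem finite_tensor_of_idempotent (A'' : Type u) [CommRing A''] [Algebra A A''] (e : C)
    (he : IsIdempotentElem e) [Module.Finite A (Localization.Away e)]
    [Module.Finite A'' (A'' ⊗[A] (C ⧸ Ideal.span {e}))] : Module.Finite A'' (A'' ⊗[A] C) := by
  let f : C →ₗ[A] Localization.Away e × (C ⧸ Ideal.span {e}) :=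
    (IsScalarTower.toAlgHom A C (Localization.Away e)).toLinearMap.prod
      (Ideal.Quotient.mkₐ A (Ideal.span {e})).toLinearMap
  have hf : ∀ x, f x = (algebraMap C (Localization.Away e) x, Ideal.Quotient.mk _ x) := fun x => rfl
  have hbij : Function.Bijective f := by
    constructor
    · rw [← LinearMap.ker_eq_bot, LinearMap.ker_eq_bot']
      intro x hx
      rw [hf, Prod.mk_eq_zero, IsLocalization.map_eq_zero_iff (Submonoid.powers e),
        Ideal.Quotient.eq_zero_iff_mem, Ideal.mem_span_singleton'] at hx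
      obtain ⟨⟨⟨_, n, rfl⟩, hn⟩, y, rfl⟩ := hx
      replace hn : e ^ n * (y * e) = 0 := hn
      cases n with
      | zero => rwa [pow_zero, one_mul] at hn
      | succ n => rwa [he.pow_succ_eq, mul_left_comm, he.eq] at hn
    · rintro ⟨a, b⟩
      obtain ⟨z, rfl⟩ := IsLocalization.Away.algebraMap_surjective_of_isIdempotentElem e he
        (S := Localization.Away e) a
      obtain ⟨w, rfl⟩ := Ideal.Quotient.mk_surjective b
      refine ⟨e * z + (1 - e) * w, ?_⟩
      have h1 : algebraMap C (Localization.Away e) e = 1 :=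
        (IsIdempotentElem.iff_eq_one_of_isUnit (IsLocalization.Away.algebraMap_isUnit e)).1 (he.map _)
      rw [hf, Prod.mk.injEq]
      constructor
      · rw [map_add, map_mul, map_mul, map_sub, map_one, h1]; ring
      · rw [Ideal.Quotient.eq, Ideal.mem_span_singleton']
        exact ⟨z - w, by ring⟩
  let g := LinearEquiv.ofBijective f hbij
  exact Module.Finite.equiv
    ((TensorProduct.prodRight A A'' A'' _ _).symm.trans (g.symm.baseChange A A''))

/-- A quasi-finite algebra with the lifting property becomes finite on an étale neighbourhood. -/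
theorem exists_nhd_finite (n : ℕ) : ∀ (A C : Type u) [CommRing A] [CommRing C] [Algebra A C]
    [Algebra.FiniteType A C] [Algebra.QuasiFinite A C] (p : Ideal A) [p.IsPrime],
    (p.primesOver C).ncard = n → Lifts A C p →
    ∃ (A' : Type u) (_ : CommRing A') (_ : Algebra A A') (t : Ideal A') (_ : t.IsPrime),
      _root_.FlatCA.IsEtaleNhd A A' p t ∧ Module.Finite A' (A' ⊗[A] C) := by
  induction n using Nat.strong_induction_on with
  | h n IH =>
  intro A C _ _ _ _ _ p _ h hlift
  have hfin : (p.primesOver C).Finite := Algebra.QuasiFinite.iff_finite_primesOver.1 ‹_› p ‹_›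
  cases n with
  | zero =>
    have hempty := (Set.ncard_eq_zero hfin).mp h
    obtain ⟨s, hs, hs0⟩ : ∃ s ∉ p, algebraMap A C s = 0 := by
      by_contra hcon
      push Not at hcon
      obtain ⟨Q, hQ, -, hd⟩ := Ideal.exists_le_prime_disjoint (⊥ : Ideal C)
        (Algebra.algebraMapSubmonoid C p.primeCompl) (by
          rw [Set.disjoint_left]
          rintro x hx ⟨s, hs, rfl⟩
          exact hcon s hs hx)
      let ι : C →+* A ⊗[A] C := (Algebra.TensorProduct.includeRight (R := A) (A := A) (B := C)).toRingHom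
      let κ : A ⊗[A] C →+* C := (Algebra.TensorProduct.lid A C).toRingHom
      have hκ : ∀ a : A, κ (algebraMap A (A ⊗[A] C) a) = algebraMap A C a :=
        fun a => (Algebra.TensorProduct.lid A C).commutes a
      obtain ⟨P', hP', -, hcomap⟩ := hlift A p (isEtaleNhd_refl p) (Q.comap κ) (Ideal.IsPrime.comap _)
        (fun a ha => by
          by_contra hap
          rw [Ideal.mem_comap, Ideal.mem_comap, hκ] at ha
          exact Set.disjoint_left.1 hd ha ⟨a, hap, rfl⟩)
      have hmem : P'.comap ι ∈ p.primesOver C := by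
        refine ⟨Ideal.IsPrime.comap _, ⟨?_⟩⟩
        refine hcomap.symm.trans (Ideal.ext fun a => ?_)
        show algebraMap A (A ⊗[A] C) a ∈ P' ↔ ι (algebraMap A C a) ∈ P'
        rw [show ι (algebraMap A C a) = algebraMap A (A ⊗[A] C) a from
          (Algebra.TensorProduct.includeRight (R := A) (A := A) (B := C)).commutes a]
      rw [hempty] at hmem
      exact hmem
    obtain ⟨hp, hn⟩ := isEtaleNhd_away p hs
    refine ⟨Localization.Away s, inferInstance, inferInstance, _, hp, hn, ?_⟩
    haveI : Subsingleton (Localization.Away s ⊗[A] C) := subsingleton_of_zero_eq_one <| by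
      obtain ⟨u, hu⟩ := (IsLocalization.Away.algebraMap_isUnit (S := Localization.Away s) s).exists_left_inv
      rw [Algebra.TensorProduct.one_def, ← hu, mul_comm, ← Algebra.smul_def, TensorProduct.smul_tmul,
        Algebra.smul_def, hs0, zero_mul, TensorProduct.tmul_zero]
    infer_instance
  | succ n =>
    obtain ⟨q, hq, hq'⟩ := Set.nonempty_of_ncard_ne_zero (h.trans_ne (Nat.succ_ne_zero n))
    obtain ⟨R', _, _, _, P, _, _, e, he, P', _, _, -, heP', hpP, _, -⟩ :=
      Algebra.exists_etale_isIdempotentElem_forall_liesOver_eq p q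
    let C₂ := (R' ⊗[A] C) ⧸ Ideal.span {e}
    have hlt : (P.primesOver C₂).ncard < n + 1 := by
      let F := Ideal.fiberIsoOfBijectiveResidueField hpP (S := C)
      refine (Ideal.ncard_primesOver_quotient_singleton_lt_of_notMem _ _
        P' heP' (F.finite_iff.mpr hfin)).trans_le ?_
      rw [← h, ← Nat.card_coe_set_eq, ← Nat.card_coe_set_eq, Nat.card_congr F.toEquiv]
    haveI : Algebra.FiniteType R' C₂ :=
      .of_surjective (Ideal.Quotient.mkₐ R' (Ideal.span {e})) Ideal.Quotient.mk_surjective
    haveI : Algebra.QuasiFinite R' C₂ :=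
      .of_surjective_algHom (Ideal.Quotient.mkₐ R' (Ideal.span {e})) Ideal.Quotient.mk_surjective
    have hn₁ : _root_.FlatCA.IsEtaleNhd A R' p P := ⟨inferInstance, inferInstance, hpP⟩
    have hlift₂ : Lifts R' C₂ P := by
      intro R'' _ _ Q _ hn₂ P₂ hP₂ hle
      letI : Algebra A R'' := .compHom _ (algebraMap A R')
      haveI : IsScalarTower A R' R'' := .of_algebraMap_eq' rfl
      let ψ : R'' ⊗[A] C →ₐ[R''] R'' ⊗[R'] C₂ :=
        (Algebra.TensorProduct.map (AlgHom.id R'' R'') (Ideal.Quotient.mkₐ R' (Ideal.span {e}))).comp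
          (Algebra.TensorProduct.cancelBaseChange A R' R'' R'' C).symm.toAlgHom
      have hψ : Function.Surjective ψ :=
        (show Function.Surjective ((Ideal.Quotient.mkₐ R' (Ideal.span {e})).toLinearMap.lTensor R'') from
          LinearMap.lTensor_surjective R'' Ideal.Quotient.mk_surjective).comp
          (Algebra.TensorProduct.cancelBaseChange A R' R'' R'' C).symm.surjective
      obtain ⟨P₃, hP₃, hle₃, hP₃c⟩ := hlift R'' Q (isEtaleNhd_comp p P Q hn₁ hn₂) (P₂.comap ψ)
        (Ideal.IsPrime.comap _) (fun a ha => hle (by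
          rw [Ideal.mem_comap, Ideal.mem_comap, AlgHom.commutes] at ha
          exact ha))
      have hker : RingHom.ker ψ.toRingHom ≤ P₃ := le_trans (Ideal.comap_mono bot_le) hle₃
      refine ⟨P₃.map ψ.toRingHom, Ideal.map_isPrime_of_surjective hψ hker, ?_, ?_⟩
      · rw [← Ideal.map_comap_of_surjective ψ.toRingHom hψ P₂]
        exact Ideal.map_mono hle₃
      · rw [← hP₃c]
        ext a
        rw [Ideal.mem_comap, Ideal.mem_comap, ← AlgHom.commutes ψ a]
        refine ⟨fun ha => ?_, fun ha => Ideal.mem_map_of_mem _ ha⟩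
        obtain ⟨x, hx, hxa⟩ := (Ideal.mem_map_iff_of_surjective ψ.toRingHom hψ).1 ha
        have : algebraMap R'' (R'' ⊗[A] C) a - x ∈ RingHom.ker ψ.toRingHom := by
          rw [RingHom.mem_ker, map_sub, hxa]
          exact sub_self _
        simpa using add_mem (hker this) hx
    obtain ⟨R'', _, _, Q, _, hn₂, hfin₂⟩ := IH _ hlt R' C₂ P rfl hlift₂
    letI : Algebra A R'' := .compHom _ (algebraMap A R')
    haveI : IsScalarTower A R' R'' := .of_algebraMap_eq' rfl
    refine ⟨R'', inferInstance, inferInstance, Q, inferInstance, isEtaleNhd_comp p P Q hn₁ hn₂, ?_⟩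
    haveI := finite_tensor_of_idempotent (A := R') (C := R' ⊗[A] C) R'' e he
    exact Module.Finite.equiv (Algebra.TensorProduct.cancelBaseChange A R' R'' R'' C).toLinearEquiv

/-- A quasi-finite algebra with the lifting property at every prime is finite. -/
theorem finite_of_lifts [Algebra.FiniteType A C] [Algebra.QuasiFinite A C]
    (hlift : ∀ (p : Ideal A) [p.IsPrime], Lifts A C p) : Module.Finite A C := by
  classical
  choose A' i₁ i₂ t ht hn hfin using fun x : PrimeSpectrum A =>
    exists_nhd_finite _ A C x.asIdeal rfl (hlift x.asIdeal)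
  have hopen : ∀ x, IsOpen (Set.range (PrimeSpectrum.comap (algebraMap A (A' x)))) := fun x => by
    haveI := (hn x).1
    exact (PrimeSpectrum.isOpenMap_comap_of_hasGoingDown_of_finitePresentation).isOpen_range
  obtain ⟨s, hs⟩ := isCompact_univ.elim_finite_subcover _ hopen fun x _ => Set.mem_iUnion.2
    ⟨x, ⟨⟨t x, ht x⟩, PrimeSpectrum.ext (hn x).2.choose.over.symm⟩⟩
  have hex : ∀ (x : PrimeSpectrum A) (z : A' x ⊗[A] C), ∃ M : Submodule A C, M.FG ∧
      z ∈ LinearMap.range (M.subtype.lTensor (A' x)) := fun x z => by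
    induction z using TensorProduct.induction_on with
    | zero => exact ⟨⊥, Submodule.fg_bot, zero_mem _⟩
    | tmul a c =>
      exact ⟨Submodule.span A {c}, Submodule.fg_span_singleton c, a ⊗ₜ ⟨c, Submodule.mem_span_singleton_self c⟩,
        LinearMap.lTensor_tmul _ _ _ _⟩
    | add a b ha hb =>
      obtain ⟨M₁, hM₁, a', rfl⟩ := ha
      obtain ⟨M₂, hM₂, b', rfl⟩ := hb
      refine ⟨M₁ ⊔ M₂, hM₁.sup hM₂, (Submodule.inclusion le_sup_left).lTensor _ a' +
        (Submodule.inclusion le_sup_right).lTensor _ b', ?_⟩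
      rw [map_add, ← LinearMap.lTensor_comp_apply, ← LinearMap.lTensor_comp_apply]
      rfl
  choose M hM hzM using hex
  choose g hg using fun x => (hfin x).fg_top
  let M₀ : Submodule A C := s.sup fun x => (g x).sup (M x)
  have hM₀ : M₀.FG := Submodule.fg_finset_sup _ _ fun x _ => Submodule.fg_finset_sup _ _ fun z _ => hM x z
  refine ⟨?_⟩
  convert hM₀
  refine (eq_top_iff.2 fun c _ => ?_).symm
  rw [← Submodule.Quotient.mk_eq_zero]
  let z : C ⧸ M₀ := Submodule.Quotient.mk c
  show z = 0
  have hz : (LinearMap.toSpanSingleton A _ z).ker = ⊤ := by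
    by_contra hne
    obtain ⟨m, hm, hle⟩ := Ideal.exists_le_maximal _ hne

    obtain ⟨i, hi, T, hT⟩ : ∃ x ∈ s, ∃ T : PrimeSpectrum (A' x), T.comap (algebraMap A (A' x)) = ⟨m, hm.isPrime⟩ := by
      simpa only [Set.mem_iUnion, exists_prop, Set.mem_range] using hs (Set.mem_univ (⟨m, hm.isPrime⟩ : PrimeSpectrum A))
    haveI := (hn i).1
    have h0 : (1 : A' i) ⊗ₜ[A] z = 0 := by
      have hall : ∀ y : A' i ⊗[A] C, M₀.mkQ.lTensor (A' i) y = 0 := by
        intro y
        have hy : y ∈ Submodule.span (A' i) (g i : Set (A' i ⊗[A] C)) := hg i ▸ Submodule.mem_top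
        induction hy using Submodule.span_induction with
        | mem y hy =>
          obtain ⟨y', hy'⟩ := hzM i y
          rw [← hy', ← LinearMap.lTensor_comp_apply, show M₀.mkQ ∘ₗ (M i _).subtype = 0 from LinearMap.ext fun c =>
            (Submodule.Quotient.mk_eq_zero _).2
              (Finset.le_sup (f := fun x => (g x).sup (M x)) hi (Finset.le_sup (f := M i) hy c.2)),
            LinearMap.lTensor_zero, LinearMap.zero_apply]
        | zero => exact map_zero _
        | add a b _ _ ha hb => rw [map_add, ha, hb, add_zero]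
        | smul a y _ hy =>
          show M₀.mkQ.baseChange (A' i) (a • y) = 0
          rw [map_smul]
          exact (congrArg (a • ·) hy).trans (smul_zero a)
      simpa using hall ((1 : A' i) ⊗ₜ c)
    obtain ⟨w, hw, hwz⟩ := WeakAss.exists_kill_of_flat z h0 m T.asIdeal (congrArg PrimeSpectrum.asIdeal hT)
    exact hw (hle (by simpa using hwz))
  have := hz.ge (Submodule.mem_top (x := (1 : A)))
  simpa using this

end Groth.Agent.Lib.FlatCA.FiniteCriterion
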