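import Groth.Agent.Lib.FlatCA.FiberMod
import Mathlib.RingTheory.Localization.BaseChange

/-!
# Impurities
-/

universe u

open TensorProduct

attribute [local instance] Algebra.TensorProduct.rightAlgebra

namespace Groth.Agent.Lib.FlatCA.Impurity

section Over

variable {A B : Type u} [CommRing A] [CommRing B] [Algebra A B]

/-- A prime over `t` containing `P` exists unless `P` meets `(A ∖ t) + t B`. -/
theorem exists_prime_over (t : Ideal A) [t.IsPrime] (P : Ideal B)
    (h : ∀ s ∉ t, ∀ τ ∈ t.map (algebraMap A B), algebraMap A B s + τ ∉ P) :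
    ∃ P' : Ideal B, ∃ _ : P'.IsPrime, P ≤ P' ∧ P'.LiesOver t := by
  obtain ⟨P', hP', hle, hd⟩ := Ideal.exists_le_prime_disjoint (P ⊔ t.map (algebraMap A B))
    (Algebra.algebraMapSubmonoid B t.primeCompl) (by
      rw [Set.disjoint_left]
      rintro _ hx ⟨s, hs, rfl⟩
      obtain ⟨a, ha, b, hb, e⟩ := Submodule.mem_sup.1 hx
      refine h s hs (-b) (Ideal.neg_mem_iff _ |>.2 hb) ?_
      rwa [← e, add_neg_cancel_right])
  refine ⟨P', hP', le_sup_left.trans hle, ⟨le_antisymm (fun a ha => ?_) fun a ha => ?_⟩⟩
  · exact hle (Submodule.mem_sup_right (Ideal.mem_map_of_mem _ ha))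
  · by_contra hn
    exact Set.disjoint_left.1 hd ha ⟨a, hn, rfl⟩

end Over

section Fibre

variable {A B : Type u} [CommRing A] [CommRing B] [Algebra A B] (p : Ideal A) [p.IsPrime]
  {N : Type u} [AddCommGroup N] [Module B N] [Module A N] [IsScalarTower A B N] {P : Ideal B}

/-- The map from `B` to the fibre ring. -/
noncomputable abbrev incl : B →+* p.Fiber B :=
  (Algebra.TensorProduct.includeRight (R := A) (A := p.ResidueField) (B := B)).toRingHom

theorem incl_smul (b : B) (x : FlatCA.fiberMod p B N) : incl p b • x = b • x := by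
  unfold FlatCA.fiberMod at *
  exact algebraMap_smul (p.Fiber B) b x

theorem exists_pow_smul_eq_zero
    (h : _root_.FlatCA.fiberIdeal p P ∈ associatedPrimes (p.Fiber B) (_root_.FlatCA.fiberMod p B N))
    {g : B} (hg : g ∈ P) : ∃ x : _root_.FlatCA.fiberMod p B N, x ≠ 0 ∧ ∃ n : ℕ, g ^ n • x = 0 := by
  obtain ⟨hp, x, hx⟩ := h
  have hx0 : x ≠ 0 := by
    rintro rfl
    refine hp.ne_top (hx.trans ?_)
    rw [Ideal.radical_eq_top, Ideal.eq_top_iff_one, Submodule.mem_colon_singleton, smul_zero]
    exact zero_mem _
  refine ⟨x, hx0, ?_⟩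
  have hmem : incl p g ∈ (Submodule.colon (⊥ : Submodule (p.Fiber B) (_root_.FlatCA.fiberMod p B N)) {x}).radical :=
    hx ▸ Ideal.mem_map_of_mem (incl p) hg
  obtain ⟨n, hn⟩ := hmem
  refine ⟨n, ?_⟩
  rw [← map_pow, Submodule.mem_colon_singleton, Submodule.mem_bot] at hn
  rwa [incl_smul] at hn

/-- Elements of an associated point do not act injectively on the fibre module. -/
theorem not_injective
    (h : _root_.FlatCA.fiberIdeal p P ∈ associatedPrimes (p.Fiber B) (_root_.FlatCA.fiberMod p B N))
    {g : B} (hg : g ∈ P)
    (hinj : Function.Injective (((LinearMap.lsmul B N g).restrictScalars A).rTensor p.ResidueField)) :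
    False := by
  obtain ⟨x, hx, n, hn⟩ := exists_pow_smul_eq_zero p h hg
  have h1 : Function.Injective fun z : N ⊗[A] p.ResidueField => g • z := fun a b hab =>
    hinj (by rw [← FiberMod.smul_eq_rTensor, ← FiberMod.smul_eq_rTensor]; exact hab)
  induction n with
  | zero => exact hx (by rwa [pow_zero, one_smul] at hn)
  | succ n ih =>
    rw [pow_succ', mul_smul] at hn
    apply ih
    apply (FiberMod.fiberModEquiv p B N).injective
    apply h1
    show g • _ = g • _
    simp only [← map_smul, hn, smul_zero]

/-- An associated point of the fibre gives a prime over `p` containing the annihilator. -/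
theorem exists_assoc_point
    (h : _root_.FlatCA.fiberIdeal p P ∈ associatedPrimes (p.Fiber B) (_root_.FlatCA.fiberMod p B N)) :
    ∃ Q : Ideal B, ∃ _ : Q.IsPrime, P ≤ Q ∧ Q.LiesOver p ∧ Module.annihilator B N ≤ Q := by
  obtain ⟨hp, x, hx⟩ := h
  haveI := hp
  refine ⟨(_root_.FlatCA.fiberIdeal p P).comap (incl p), Ideal.IsPrime.comap _, Ideal.le_comap_map,
    ⟨le_antisymm (fun a ha => ?_) fun a ha => ?_⟩, fun g hg => ?_⟩
  · show incl p (algebraMap A B a) ∈ _root_.FlatCA.fiberIdeal p P
    rw [show incl p (algebraMap A B a) = algebraMap A (p.Fiber B) a from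
      (Algebra.TensorProduct.includeRight (R := A) (A := p.ResidueField) (B := B)).commutes a,
      Algebra.TensorProduct.algebraMap_apply, Ideal.algebraMap_residueField_eq_zero.2 ha, TensorProduct.zero_tmul]
    exact zero_mem _
  · by_contra hn
    have hu : IsUnit (algebraMap A (p.Fiber B) a) := by
      rw [Algebra.TensorProduct.algebraMap_apply]
      exact (isUnit_iff_ne_zero.2 fun h0 => hn (Ideal.algebraMap_residueField_eq_zero.1 h0)).map
        (Algebra.TensorProduct.includeLeftRingHom (R := A) (A := p.ResidueField) (B := B))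
    refine hp.ne_top (Ideal.eq_top_of_isUnit_mem _ ?_ hu)
    rw [← (Algebra.TensorProduct.includeRight (R := A) (A := p.ResidueField) (B := B)).commutes a]
    exact ha
  · rw [Ideal.mem_comap, hx]
    refine Ideal.le_radical ?_
    rw [Submodule.mem_colon_singleton, Submodule.mem_bot, incl_smul]
    apply (FiberMod.fiberModEquiv p B N).injective
    rw [map_smul, map_zero, FiberMod.smul_eq_rTensor,
      show (LinearMap.lsmul B N g).restrictScalars A = 0 from
        LinearMap.ext fun m => Module.mem_annihilator.1 hg m, LinearMap.rTensor_zero, LinearMap.zero_apply]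

end Fibre

section Projective

variable {A : Type u} [CommRing A] {N : Type u} [AddCommGroup N] [Module A N]

theorem cancel_lTensor (S : Type u) [CommRing S] [Algebra A S] (Q : Type u) [AddCommGroup Q] [Module A Q]
    [Module S Q] [IsScalarTower A S Q] (φ : N →ₗ[A] N) (z : Q ⊗[S] (S ⊗[A] N)) :
    AlgebraTensorModule.cancelBaseChange A S S Q N ((φ.baseChange S).lTensor Q z) =
      φ.lTensor Q (AlgebraTensorModule.cancelBaseChange A S S Q N z) := by
  induction z using TensorProduct.induction_on with
  | zero => simp
  | add a b ha hb => simp only [map_add, ha, hb]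
  | tmul q w =>
    induction w using TensorProduct.induction_on with
    | zero => simp
    | add a b ha hb => simp only [TensorProduct.tmul_add, map_add, ha, hb]
    | tmul s n => simp

open IsLocalRing in
/-- An endomorphism of a projective module injective at `t` is injective on everything local at `t`. -/
theorem rTensor_injective_of_projective [Module.Projective A N] (t : Ideal A) [t.IsPrime] (φ : N →ₗ[A] N)
    (h : Function.Injective (φ.rTensor t.ResidueField)) (Q : Type u) [AddCommGroup Q] [Module A Q]
    [Module (Localization.AtPrime t) Q] [IsScalarTower A (Localization.AtPrime t) Q] :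
    Function.Injective (φ.rTensor Q) := by
  let L := Localization.AtPrime t
  have h1 : Function.Injective ((φ.baseChange L).lTensor (ResidueField L)) := fun a b hab => by
    apply (AlgebraTensorModule.cancelBaseChange A L L (ResidueField L) N).injective
    refine (LinearMap.lTensor_inj_iff_rTensor_inj _ _).2 h ?_
    rw [← cancel_lTensor, ← cancel_lTensor, hab]
  have h2 := (LinearMap.lTensor_inj_iff_rTensor_inj (M := Q) _).2
    (Groth.Agent.Lib.LocalFlat.UnivInjective.rTensor_injective_of_projective _ h1 Q)
  refine (LinearMap.lTensor_inj_iff_rTensor_inj _ _).1 fun a b hab => ?_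
  apply (AlgebraTensorModule.cancelBaseChange A L L Q N).symm.injective
  apply h2
  apply (AlgebraTensorModule.cancelBaseChange A L L Q N).injective
  rw [cancel_lTensor, cancel_lTensor, LinearEquiv.apply_symm_apply, LinearEquiv.apply_symm_apply, hab]

variable {B : Type u} [CommRing B] [Algebra A B] [Module B N] [IsScalarTower A B N]

/-- No associated point of a projective module escapes a specialization of the base point. -/
theorem exists_prime_over_of_projective [Module.Projective A N] {t' t : Ideal A} [t'.IsPrime] [t.IsPrime]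
    (hle : t' ≤ t) {P : Ideal B}
    (hass : _root_.FlatCA.fiberIdeal t' P ∈ associatedPrimes (t'.Fiber B) (_root_.FlatCA.fiberMod t' B N)) :
    ∃ P' : Ideal B, ∃ _ : P'.IsPrime, P ≤ P' ∧ P'.LiesOver t := by
  refine exists_prime_over t P fun s hs τ hτ hmem => not_injective t' hass hmem ?_
  let l : Localization.AtPrime t →ₐ[A] t'.ResidueField :=
    IsLocalization.liftAlgHom (M := t.primeCompl) (f := Algebra.ofId A t'.ResidueField) fun x =>
      isUnit_iff_ne_zero.2 fun h0 => x.2 (hle (Ideal.algebraMap_residueField_eq_zero.1 h0))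
  letI := l.toRingHom.toAlgebra
  haveI : IsScalarTower A (Localization.AtPrime t) t'.ResidueField :=
    IsScalarTower.of_algebraMap_eq fun a => (l.commutes a).symm
  refine rTensor_injective_of_projective t _ ?_ _
  intro x y hxy
  rw [← FiberMod.smul_eq_rTensor, ← FiberMod.smul_eq_rTensor] at hxy
  have h0 : ∀ (σ : B), σ ∈ t.map (algebraMap A B) → ∀ z : N ⊗[A] t.ResidueField, σ • z = 0 := by
    intro σ hσ
    refine Submodule.span_induction ?_ (fun z => zero_smul _ z)
      (fun a b _ _ ha hb z => by rw [add_smul, ha, hb, add_zero])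
      (fun c a _ ha z => by rw [smul_eq_mul, mul_smul, ha, smul_zero]) hσ
    rintro _ ⟨r, hr, rfl⟩ z
    rw [algebraMap_smul]
    induction z using TensorProduct.induction_on with
    | zero => simp
    | add a b ha hb => rw [smul_add, ha, hb, add_zero]
    | tmul a b =>
      rw [← TensorProduct.tmul_smul, Algebra.smul_def, Ideal.algebraMap_residueField_eq_zero.2 hr, zero_mul,
        TensorProduct.tmul_zero]
  simp only [add_smul, h0 τ hτ, add_zero, algebraMap_smul] at hxy
  have hu : IsUnit (algebraMap A t.ResidueField s) :=
    isUnit_iff_ne_zero.2 fun h => hs (Ideal.algebraMap_residueField_eq_zero.1 h)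
  let e := LinearEquiv.lTensor N (LinearEquiv.smulOfUnit hu.unit (R := t.ResidueField) (M := t.ResidueField) |>.restrictScalars A)
  have he : ∀ z : N ⊗[A] t.ResidueField, e z = s • z := fun z => by
    induction z using TensorProduct.induction_on with
    | zero => simp
    | add a b ha hb => rw [map_add, ha, hb, smul_add]
    | tmul a b =>
      rw [← TensorProduct.tmul_smul, Algebra.smul_def]
      rfl
  exact e.injective (by rw [he, he]; exact hxy)

end Projective

section BaseChange

variable {A B A' B' : Type u} [CommRing A] [CommRing B] [CommRing A'] [CommRing B'] [Algebra A B]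
  [Algebra A A'] [Algebra B B'] [Algebra A' B'] [Algebra A B'] [IsScalarTower A B B'] [IsScalarTower A A' B']
  {N N' : Type u} [AddCommGroup N] [Module B N] [Module A N] [IsScalarTower A B N]
  [AddCommGroup N'] [Module B' N'] [Module B N'] [IsScalarTower B B' N'] [Module A' N'] [IsScalarTower A' B' N']

/-- The base changed module is the base change along `A → A'`. -/
noncomputable def baseChangeEquiv (hpo : Algebra.IsPushout A B A' B') (f : N →ₗ[B] N') (hf : IsBaseChange B' f) :
    N' ≃ₗ[A'] A' ⊗[A] N :=
  haveI : Algebra.IsPushout A A' B B' := hpo.symm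
  (hf.equiv.symm.restrictScalars A').trans (Algebra.IsPushout.cancelBaseChange A A' B B' N)

theorem projective_of_isBaseChange (hpo : Algebra.IsPushout A B A' B') [Module.Projective A N] (f : N →ₗ[B] N')
    (hf : IsBaseChange B' f) : Module.Projective A' N' :=
  Module.Projective.of_equiv (baseChangeEquiv (A' := A') hpo f hf).symm

end BaseChange

end Groth.Agent.Lib.FlatCA.Impurity
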