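import Groth.Agent.Lib.FlatCA.CompleteFlatten
import Groth.Agent.Lib.FlatCA.Impurity
import Groth.Agent.H19.FlatLocus.Model

/-!
# The flattening ideal under change of rings
-/

universe u

open TensorProduct IsLocalRing

namespace Groth.Agent.Lib.FlatCA.CompleteFlatten

variable {R S R' S' : Type u} [CommRing R] [CommRing S] [CommRing R'] [CommRing S']
  [Algebra R S] [Algebra R R'] [Algebra S S'] [Algebra R' S'] [Algebra R S']
  [IsScalarTower R S S'] [IsScalarTower R R' S']
  {M M' : Type u} [AddCommGroup M] [Module S M] [Module R M] [IsScalarTower R S M]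
  [AddCommGroup M'] [Module S' M'] [Module R' M'] [IsScalarTower R' S' M']
  [Module S M'] [IsScalarTower S S' M']

theorem baseChangeEquiv_symm_one_tmul (hpo : Algebra.IsPushout R S R' S') (f : M →ₗ[S] M')
    (hf : IsBaseChange S' f) (x : M) :
    (Impurity.baseChangeEquiv (A' := R') (B' := S') hpo f hf).symm (1 ⊗ₜ[R] x) = f x := by
  simp [Impurity.baseChangeEquiv, IsBaseChange.equiv_tmul]

/-- The comparison `M ⊗[R] N → M' ⊗[R'] N` for an `R'`-module `N`. -/
theorem exists_compare (hpo : Algebra.IsPushout R S R' S') (f : M →ₗ[S] M') (hf : IsBaseChange S' f)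
    (N : Type u) [AddCommGroup N] [Module R' N] [Module R N] [IsScalarTower R R' N] :
    ∃ g : M ⊗[R] N ≃+ M' ⊗[R'] N, (∀ x n, g (x ⊗ₜ n) = f x ⊗ₜ n) ∧
      ∀ (s : S) y, g (s • y) = algebraMap S S' s • g y := by
  let e := Impurity.baseChangeEquiv (A' := R') (B' := S') hpo f hf
  let g : M ⊗[R] N ≃+ M' ⊗[R'] N :=
    (((TensorProduct.comm R M N).toAddEquiv.trans
      (AlgebraTensorModule.cancelBaseChange R R' R' N M).symm.toAddEquiv).trans
      (LinearEquiv.lTensor N e.symm).toAddEquiv).trans (TensorProduct.comm R' N M').toAddEquiv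
  have hg : ∀ x n, g (x ⊗ₜ n) = f x ⊗ₜ n := fun x n => by
    simp [g, e, baseChangeEquiv_symm_one_tmul hpo f hf]
  refine ⟨g, hg, fun s y => ?_⟩
  induction y using TensorProduct.induction_on with
  | zero => simp
  | add a b ha hb => rw [smul_add, map_add, map_add, smul_add, ha, hb]
  | tmul x n => rw [TensorProduct.smul_tmul', hg, hg, map_smul, TensorProduct.smul_tmul', algebraMap_smul]

/-- Flatness at a prime upstairs from flatness of the base change of the localisation downstairs. -/
theorem flat_localized_of_baseChange (hpo : Algebra.IsPushout R S R' S') (f : M →ₗ[S] M')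
    (hf : IsBaseChange S' f) (q' : Ideal S') [q'.IsPrime]
    (h : Module.Flat R' (R' ⊗[R] LocalizedModule (q'.comap (algebraMap S S')).primeCompl M)) :
    Module.Flat R' (LocalizedModule q'.primeCompl M') := by
  rw [H19.FlatLocus.flat_iff_killed q'.primeCompl (LocalizedModule.mkLinearMap q'.primeCompl M')]
  intro J y hy
  obtain ⟨g, hg, hgs⟩ := exists_compare hpo f hf J
  obtain ⟨g', hg', -⟩ := exists_compare hpo f hf R'
  obtain ⟨w, rfl⟩ := g.surjective y
  have hnat : ∀ w, g' ((J.subtype.restrictScalars R).lTensor M w) = J.subtype.lTensor M' (g w) := by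
    intro w
    induction w using TensorProduct.induction_on with
    | zero => simp
    | add a b ha hb => simp only [map_add, ha, hb]
    | tmul x j => simp [hg, hg']
  have h0 : (J.subtype.restrictScalars R).lTensor M w = 0 :=
    g'.injective (by rw [hnat, hy, map_zero])
  obtain ⟨s, hs, hsw⟩ := H19.FlatLocus.killed_of_lTensor_injective
    (q'.comap (algebraMap S S')).primeCompl (LocalizedModule.mkLinearMap _ M)
    (J.subtype.restrictScalars R) ((flat_baseChange_iff R' _).1 h J) w h0
  exact ⟨algebraMap S S' s, hs, by rw [← hgs, hsw, map_zero]⟩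

/-- The easy direction of the universal property. -/
theorem flatAt_of_map_eq_bot [IsLocalRing R] [IsLocalRing R'] [IsLocalHom (algebraMap R R')]
    (hpo : Algebra.IsPushout R S R' S') (f : M →ₗ[S] M') (hf : IsBaseChange S' f) {I : Ideal R}
    (hI : IsFlattening S M I) (h0 : I.map (algebraMap R R') = ⊥) (q' : Ideal S') [q'.IsPrime]
    (hq' : q'.comap (algebraMap R' S') = maximalIdeal R') :
    Module.Flat R' (LocalizedModule q'.primeCompl M') := by
  refine flat_localized_of_baseChange hpo f hf q' ?_
  have hq : (q'.comap (algebraMap S S')).comap (algebraMap R S) = maximalIdeal R := by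
    rw [Ideal.comap_comap, ← IsScalarTower.algebraMap_eq, IsScalarTower.algebraMap_eq R R' S',
      ← Ideal.comap_comap, hq', IsLocalRing.maximalIdeal_comap]
  letI : Algebra (R ⧸ I) R' := (Ideal.Quotient.lift _ (algebraMap R R')
    fun a ha => (Ideal.map_eq_bot_iff_le_ker _).1 h0 ha).toAlgebra
  haveI : IsScalarTower R (R ⧸ I) R' := IsScalarTower.of_algebraMap_eq fun _ => rfl
  haveI := hI (q'.comap (algebraMap S S')) hq
  exact flat_of_tower (R ⧸ I) R' _

/-- The hard direction of the universal property, for Noetherian local test rings. -/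
theorem map_eq_bot_of_flatAt [IsLocalRing R] [IsLocalRing R'] [IsNoetherianRing R']
    [IsLocalHom (algebraMap R R')] (hpo : Algebra.IsPushout R S R' S') (f : M →ₗ[S] M')
    (hf : IsBaseChange S' f) {I : Ideal R}
    (h4 : ∀ (n : ℕ) (A' : Type u) [CommRing A'] [Algebra R A'],
      (maximalIdeal R ^ n).map (algebraMap R A') = ⊥ →
      (Module.Flat A' (A' ⊗[R] M) ↔ I.map (algebraMap R A') = ⊥))
    (h : ∀ (q' : Ideal S') [q'.IsPrime], q'.comap (algebraMap R' S') = maximalIdeal R' →
      Module.Flat R' (LocalizedModule q'.primeCompl M')) :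
    I.map (algebraMap R R') = ⊥ := by
  refine le_bot_iff.1 fun x hx => Ideal.mem_bot.2 ?_
  refine LocalFlat.Criterion.iInf_pow_smul_eq_bot_of_le_jacobson (S := R') (N := R')
    (IsLocalRing.maximalIdeal_le_jacobson _) fun n => ?_
  rw [smul_eq_mul, Ideal.mul_top]
  let A' := R' ⧸ maximalIdeal R' ^ n
  have hA : (maximalIdeal R' ^ n).map (algebraMap R' A') = ⊥ := Ideal.map_quotient_self _
  have hA' : (maximalIdeal R ^ n).map (algebraMap R A') = ⊥ := by
    refine le_bot_iff.1 ?_
    rw [IsScalarTower.algebraMap_eq R R' A', ← Ideal.map_map, ← hA, Ideal.map_pow (algebraMap R R')]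
    exact Ideal.map_mono (Ideal.pow_right_mono (IsLocalRing.map_maximalIdeal_le _) n)
  have h1 : Module.Flat A' (A' ⊗[R'] M') := (flat_iff_atPrimes S' M' A' hA).2 fun q _ hq => by
    haveI := h q hq
    infer_instance
  let e := Impurity.baseChangeEquiv (A' := R') (B' := S') hpo f hf
  have h2 : Module.Flat A' (A' ⊗[R] M) := Module.Flat.of_linearEquiv
    ((AlgebraTensorModule.congr (LinearEquiv.refl A' A') e).trans
      (AlgebraTensorModule.cancelBaseChange R R' A' A' M)).symm
  have h3 := (h4 n A' hA').1 h2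
  rw [IsScalarTower.algebraMap_eq R R' A', ← Ideal.map_map, Ideal.map_eq_bot_iff_le_ker,
    Ideal.Quotient.algebraMap_eq, Ideal.mk_ker] at h3
  exact h3 hx

end Groth.Agent.Lib.FlatCA.CompleteFlatten
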