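import Groth.Agent.Lib.FlatCA.CompleteFlattenBC
import Groth.Agent.H19.FlatLocus.Approx
import Groth.Agent.H19.FlatLocus.Main
import Mathlib.RingTheory.TensorProduct.MvPolynomial

/-!
# The flattening ideal and arbitrary local test rings (finite type case)
-/

universe u

open TensorProduct IsLocalRing MvPolynomial
open Groth.Agent.Lib.Flat55.Relations Groth.Agent.H19.FlatLocus

namespace Groth.Agent.Lib.FlatCA.CompleteFlatten

variable {σ : Type} [Finite σ] {m k : ℕ}

/-- The ideal of a polynomial ring is determined after a field extension. -/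
theorem mem_of_map_mem {K L : Type u} [Field K] [Field L] [Algebra K L]
    (J : Ideal (MvPolynomial σ K)) (h : (J.map (MvPolynomial.map (algebraMap K L))) = ⊤) : J = ⊤ := by
  obtain ⟨ψ, hψ⟩ := LinearMap.exists_leftInverse_of_injective (Algebra.linearMap K L)
    (LinearMap.ker_eq_bot.2 (algebraMap K L).injective)
  rw [Ideal.eq_top_iff_one]
  have key : ∀ x ∈ J.map (MvPolynomial.map (algebraMap K L)), ∀ c, coeffMap ψ (c * x) ∈ J := by
    intro x hx
    induction hx using Submodule.span_induction with
    | mem x hx =>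
      obtain ⟨b, hb, rfl⟩ := hx
      intro c
      rw [coeffMap_mul]
      exact J.mul_mem_left _ hb
    | zero => intro c; simp
    | add a b _ _ ha hb => intro c; rw [mul_add, map_add]; exact add_mem (ha c) (hb c)
    | smul r a _ ha => intro c; rw [smul_eq_mul, ← mul_assoc]; exact ha _
  have h1 : coeffMap ψ (1 * 1) ∈ J := key 1 (h ▸ Submodule.mem_top) 1
  convert h1
  classical
  ext d
  rw [one_mul, coeff_coeffMap, MvPolynomial.coeff_one, MvPolynomial.coeff_one]
  split_ifs
  · exact (by simpa using LinearMap.congr_fun hψ (1 : K) : ψ 1 = 1).symm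
  · simp

/-- Flatness of a presented module over a local ring at all points of the closed fibre already holds
over a Noetherian local subquotient. -/
theorem exists_noetherian_stage {R R' : Type u} [CommRing R] [IsNoetherianRing R] [CommRing R']
    [IsLocalRing R'] [Algebra R R'] (g : Fin k → Fin m → MvPolynomial σ R)
    (h : ∀ (Q : Ideal (MvPolynomial σ R')) [Q.IsPrime], Q.comap C = maximalIdeal R' →
      Module.Flat R' (QuotAt (fun v => mapVec (algebraMap R R') (g v)) Q)) :
    ∃ (R₀ : Type u) (_ : CommRing R₀) (_ : IsLocalRing R₀) (_ : IsNoetherianRing R₀) (_ : Algebra R R₀)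
      (θ : R₀ →+* R'), IsLocalHom θ ∧ θ.comp (algebraMap R R₀) = algebraMap R R' ∧
      ∀ (Q : Ideal (MvPolynomial σ R₀)) [Q.IsPrime], Q.comap C = maximalIdeal R₀ →
        Module.Flat R₀ (QuotAt (fun v => mapVec (algebraMap R R₀) (g v)) Q) := by
  classical
  let g' : Fin k → Fin m → MvPolynomial σ R' := fun v => mapVec (algebraMap R R') (g v)
  let T := {Q : PrimeSpectrum (MvPolynomial σ R') // Q.asIdeal.comap C = maximalIdeal R'}
  have hlev : ∀ Q : T, _ := fun Q => haveI := h Q.1.asIdeal Q.2; exists_level g' Q.1.asIdeal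
  choose s g₁ a hg₁ ha hfl using hlev
  let a' : T → MvPolynomial σ R' := fun Q => MvPolynomial.map (Algebra.adjoin ℤ (s Q : Set R')).val.toRingHom (a Q)
  have htop : Ideal.span (Set.range a') ⊔ (maximalIdeal R').map C = ⊤ := by
    by_contra hne
    obtain ⟨Q, hQ, hle⟩ := Ideal.exists_le_maximal _ hne
    have hQc : Q.comap C = maximalIdeal R' :=
      le_antisymm (IsLocalRing.le_maximalIdeal (Ideal.IsPrime.comap _).ne_top)
        (Ideal.map_le_iff_le_comap.1 (le_sup_right.trans hle))
    exact ha ⟨⟨Q, hQ.isPrime⟩, hQc⟩ (le_sup_left.trans hle (Ideal.subset_span (Set.mem_range_self _)))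
  obtain ⟨x, hx, y, hy, hxy⟩ := Submodule.mem_sup.1 ((Ideal.eq_top_iff_one _).1 htop)
  obtain ⟨U, hU, hxU⟩ := Submodule.mem_span_finite_of_mem_span hx
  choose τ hτ using fun u : U => hU u.2
  let W : Finset R' := Finset.univ.biUnion fun u : U => s (τ u)
  let B : Subalgebra R R' := Algebra.adjoin R (W : Set R')
  haveI : Algebra.FiniteType R B := B.fg_iff_finiteType.1 (Subalgebra.fg_adjoin_finset W)
  haveI : IsNoetherianRing B := Algebra.FiniteType.isNoetherianRing R B
  let p : Ideal B := (maximalIdeal R').comap B.val.toRingHom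
  let R₀ := Localization.AtPrime p
  haveI : IsNoetherianRing R₀ := IsLocalization.isNoetherianRing p.primeCompl R₀ inferInstance
  have hunit : ∀ b : p.primeCompl, IsUnit (B.val.toRingHom b) := fun b =>
    IsLocalRing.notMem_maximalIdeal.1 b.2
  let θ : R₀ →+* R' := IsLocalization.lift hunit
  have hθ : θ.comp (algebraMap B R₀) = B.val.toRingHom := IsLocalization.lift_comp hunit
  haveI hloc : IsLocalHom θ := ⟨fun z hz => by
    obtain ⟨b, c, rfl⟩ := IsLocalization.exists_mk'_eq p.primeCompl z
    refine (IsLocalization.AtPrime.isUnit_mk'_iff R₀ p b c).2 fun hb => ?_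
    have h1 : θ (IsLocalization.mk' R₀ b c) * B.val.toRingHom c = B.val.toRingHom b := by
      rw [← RingHom.congr_fun hθ c, ← RingHom.congr_fun hθ b, RingHom.comp_apply, ← map_mul,
        IsLocalization.mk'_spec]
      rfl
    exact (Ideal.mem_comap.1 hb) (h1 ▸ hz.mul (hunit c))⟩
  have hθR : θ.comp (algebraMap R R₀) = algebraMap R R' := by
    rw [IsScalarTower.algebraMap_eq R B R₀, ← RingHom.comp_assoc, hθ]
    rfl
  refine ⟨R₀, inferInstance, inferInstance, inferInstance, inferInstance, θ, hloc, hθR, fun Q _ hQ => ?_⟩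
  obtain ⟨u, hu⟩ : ∃ u : U, ∀ j : Algebra.adjoin ℤ (s (τ u) : Set R') →+* R₀,
      θ.comp j = (Algebra.adjoin ℤ (s (τ u) : Set R')).val.toRingHom → MvPolynomial.map j (a (τ u)) ∉ Q := by
    by_contra hc
    push Not at hc
    choose j hj hjQ using hc
    let π₀ : MvPolynomial σ R₀ →+* MvPolynomial σ (ResidueField R₀) := MvPolynomial.map (residue R₀)
    let J := Q.map π₀
    have hker : RingHom.ker π₀ ≤ Q := by
      rw [MvPolynomial.ker_map, IsLocalRing.ker_residue, Ideal.map_le_iff_le_comap, hQ]
    have hJ : J ≠ ⊤ := fun hJ => (inferInstance : Q.IsPrime).ne_top <| by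
      have := Ideal.comap_map_of_surjective π₀ (MvPolynomial.map_surjective _ residue_surjective) Q
      rw [show Q.map π₀ = ⊤ from hJ, Ideal.comap_top, ← RingHom.ker_eq_comap_bot, sup_eq_left.2 hker] at this
      exact this.symm
    let jres : ResidueField R₀ →+* ResidueField R' := ResidueField.map θ
    letI := jres.toAlgebra
    refine hJ (mem_of_map_mem (L := ResidueField R') J ((Ideal.eq_top_iff_one _).2 ?_))
    let π' : MvPolynomial σ R' →+* MvPolynomial σ (ResidueField R') := MvPolynomial.map (residue R')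
    have hy0 : π' y = 0 := by
      rw [← RingHom.mem_ker, MvPolynomial.ker_map, IsLocalRing.ker_residue]
      exact hy
    have hx' : π' x ∈ J.map (MvPolynomial.map jres) := by
      refine (Ideal.map_le_iff_le_comap.2 (Ideal.span_le.2 ?_)) (Ideal.mem_map_of_mem π' hxU)
      intro z hz
      have hz' : π' z = MvPolynomial.map jres (π₀ (MvPolynomial.map (j ⟨z, hz⟩) (a (τ ⟨z, hz⟩)))) := by
        refine (congrArg π' (show a' (τ ⟨z, hz⟩) = z from hτ ⟨z, hz⟩)).symm.trans ?_
        simp only [π', π₀, a', MvPolynomial.map_map]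
        refine congrArg (fun F => MvPolynomial.map F _) ?_
        rw [← hj ⟨z, hz⟩]
        rfl
      rw [SetLike.mem_coe, Ideal.mem_comap, hz']
      exact Ideal.mem_map_of_mem _ (Ideal.mem_map_of_mem π₀ (hjQ ⟨z, hz⟩))
    rw [← map_one π', ← hxy, map_add, hy0, add_zero]
    exact hx'
  have hsub : ∀ z : Algebra.adjoin ℤ (s (τ u) : Set R'), (z : R') ∈ B := fun z => by
    have hle : Algebra.adjoin ℤ (s (τ u) : Set R') ≤ B.restrictScalars ℤ :=
      Algebra.adjoin_le fun w hw => Algebra.subset_adjoin
        (Finset.mem_biUnion.2 ⟨u, Finset.mem_univ _, hw⟩)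
    exact hle z.2
  let ι : Algebra.adjoin ℤ (s (τ u) : Set R') →+* B :=
    (Algebra.adjoin ℤ (s (τ u) : Set R')).val.toRingHom.codRestrict B hsub
  let j : Algebra.adjoin ℤ (s (τ u) : Set R') →+* R₀ := (algebraMap B R₀).comp ι
  have hj : θ.comp j = (Algebra.adjoin ℤ (s (τ u) : Set R')).val.toRingHom := by
    rw [← RingHom.comp_assoc, hθ]
    rfl
  haveI := hfl (τ u) (Q.comap (MvPolynomial.map j)) (fun hc => hu j hj hc)
  refine flat_of_map j (g₁ (τ u)) _ (fun v => ?_) Q _ rfl
  have h2 : mapVec ι (g₁ (τ u) v) = mapVec (algebraMap R B) (g v) := by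
    funext i
    apply MvPolynomial.map_injective B.val.toRingHom Subtype.val_injective
    have e1 := congrFun (hg₁ (τ u) v) i
    simp only [mapVec_apply, g', MvPolynomial.map_map] at e1 ⊢
    exact e1
  rw [← mapVec_comp, h2, mapVec_comp, ← IsScalarTower.algebraMap_eq]

end Groth.Agent.Lib.FlatCA.CompleteFlatten
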