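import Groth.Agent.Lib.Pure.FlatML
import Groth.Agent.Lib.Pure.ML
import Groth.Agent.Lib.Pure.UI
import Groth.Agent.S6270
import Mathlib.RingTheory.AdicCompletion.Functoriality
import Mathlib.RingTheory.Filtration

/-!
# Completions of free and flat modules
-/

noncomputable section

universe u

open TensorProduct

namespace Groth.Agent.Lib.FlatCA.Completion

section Free

variable {R : Type u} [CommRing R] (I : Ideal R) (α : Type u)

theorem mem_smul_top_iff (J : Ideal R) (v : α →₀ R) :
    v ∈ (J • ⊤ : Submodule R (α →₀ R)) ↔ ∀ a, v a ∈ J := by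
  constructor
  · intro hv a
    refine Submodule.smul_induction_on hv (fun r hr m _ => ?_) fun x y hx hy => ?_
    · rw [Finsupp.smul_apply, smul_eq_mul]
      exact J.mul_mem_right _ hr
    · rw [Finsupp.add_apply]
      exact add_mem hx hy
  · intro h
    rw [← Finsupp.sum_single v]
    refine Submodule.sum_mem _ fun a _ => ?_
    rw [← mul_one (v a), ← smul_eq_mul, ← Finsupp.smul_single]
    exact Submodule.smul_mem_smul (h a) trivial

variable [IsAdicComplete I R]

/-- The coordinates of an element of the completion of a free module. -/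
def coord : AdicCompletion I (α →₀ R) →ₗ[R] (α → R) :=
  LinearMap.pi fun a => (AdicCompletion.ofLinearEquiv I R).symm.toLinearMap ∘ₗ
    (AdicCompletion.map I (Finsupp.lapply a)).restrictScalars R

theorem coord_spec (x : AdicCompletion I (α →₀ R)) (n : ℕ) (v : α →₀ R)
    (hv : AdicCompletion.eval I _ n x = Submodule.Quotient.mk v) (a : α) :
    coord I α x a - v a ∈ I ^ n := by
  have h := congrArg (fun z => AdicCompletion.eval I R n z)
    (AdicCompletion.of_ofLinearEquiv_symm I (AdicCompletion.map I (Finsupp.lapply a) x))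
  simp only [AdicCompletion.eval_of, AdicCompletion.eval_apply, AdicCompletion.map_val_apply] at h
  rw [AdicCompletion.eval_apply] at hv
  rw [hv] at h
  have h' : coord I α x a - v a ∈ (I ^ n • ⊤ : Submodule R R) := (Submodule.Quotient.eq _).1 h
  simpa [smul_eq_mul, Ideal.mul_top] using h'

theorem coord_finite (x : AdicCompletion I (α →₀ R)) (n : ℕ) :
    {a | coord I α x a ∉ I ^ n}.Finite := by
  obtain ⟨v, hv⟩ := Submodule.Quotient.mk_surjective _ (AdicCompletion.eval I _ n x)
  refine v.support.finite_toSet.subset fun a ha => Finset.mem_coe.2 (Finsupp.mem_support_iff.2 fun h0 => ha ?_)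
  have := coord_spec I α x n v hv.symm a
  rwa [h0, sub_zero] at this

theorem coord_injective : Function.Injective (coord I α) := by
  rw [injective_iff_map_eq_zero]
  intro x hx
  refine AdicCompletion.ext fun n => ?_
  obtain ⟨v, hv⟩ := Submodule.Quotient.mk_surjective _ (AdicCompletion.eval I _ n x)
  rw [AdicCompletion.val_zero_apply, ← AdicCompletion.eval_apply, ← hv, Submodule.Quotient.mk_eq_zero,
    mem_smul_top_iff]
  intro a
  have := coord_spec I α x n v hv.symm a
  rw [hx, Pi.zero_apply, zero_sub] at this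
  exact neg_mem_iff.1 this

theorem exists_coord_eq (f : α → R) (hf : ∀ n, {a | f a ∉ I ^ n}.Finite) :
    ∃ x : AdicCompletion I (α →₀ R), coord I α x = f := by
  classical
  let v : ℕ → (α →₀ R) := fun n => Finsupp.onFinset (hf n).toFinset (fun a => if f a ∈ I ^ n then 0 else f a)
    fun a ha => by
      by_contra h
      rw [Set.Finite.mem_toFinset, Set.mem_setOf_eq, not_not] at h
      exact ha (if_pos h)
  have hv : ∀ n a, f a - v n a ∈ I ^ n := fun n a => by
    show f a - (if f a ∈ I ^ n then 0 else f a) ∈ I ^ n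
    split
    · rwa [sub_zero]
    · rw [sub_self]; exact zero_mem _
  have hc : AdicCompletion.IsAdicCauchy I (α →₀ R) v := fun {m n} hmn => by
    rw [SModEq.sub_mem, mem_smul_top_iff]
    intro a
    rw [Finsupp.sub_apply, show v m a - v n a = (f a - v n a) - (f a - v m a) by ring]
    exact sub_mem (Ideal.pow_le_pow_right hmn (hv n a)) (hv m a)
  refine ⟨AdicCompletion.mk I _ ⟨v, hc⟩, funext fun a => ?_⟩
  refine (IsHausdorff.eq_iff_smodEq (I := I)).2 fun n => ?_
  rw [SModEq.sub_mem, smul_eq_mul, Ideal.mul_top]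
  have := coord_spec I α (AdicCompletion.mk I _ ⟨v, hc⟩) n (v n) rfl a
  rw [show coord I α (AdicCompletion.mk I _ ⟨v, hc⟩) a - f a =
    (coord I α (AdicCompletion.mk I _ ⟨v, hc⟩) a - v n a) - (f a - v n a) by ring]
  exact sub_mem this (hv n a)

/-- The completion of a free module is universally injective in the product. -/
theorem coord_ui [IsNoetherianRing R] : CAlgX.UniversallyInjective R (coord I α) := by
  classical
  refine (Pure.UI.iff_equational _).2 ⟨coord_injective I α, fun n m x y c hxy => ?_⟩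
  let A : (Fin m → R) →ₗ[R] (Fin n → R) := LinearMap.pi fun i => ∑ j, c i j • LinearMap.proj j
  have hA : ∀ z i, A z i = ∑ j, c i j * z j := fun z i => by
    simp [A, Finset.sum_apply]
  let V : Submodule R (Fin n → R) := LinearMap.range A
  obtain ⟨k, hk⟩ := I.exists_pow_inf_eq_pow_smul V
  let u : α → Fin n → R := fun a i => coord I α (x i) a
  have hu : ∀ a, u a ∈ V := fun a => ⟨fun j => y j a, funext fun i => by
    rw [hA]
    show _ = coord I α (x i) a
    rw [hxy i, Finset.sum_apply]
    rfl⟩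
  -- a preimage as small as the coordinates allow
  have hpre : ∀ a, ∃ z : Fin m → R, A z = u a ∧
      ∀ N, (∀ i, u a i ∈ I ^ (N + k)) → ∀ j, z j ∈ I ^ N := by
    intro a
    have key : ∀ N, (∀ i, u a i ∈ I ^ (N + k)) → ∃ z : Fin m → R, A z = u a ∧ ∀ j, z j ∈ I ^ N := by
      intro N hN
      have h1 : u a ∈ (I ^ (N + k) • ⊤ : Submodule R (Fin n → R)) ⊓ V := by
        refine ⟨?_, hu a⟩
        rw [pi_eq_sum_univ (u a)]
        exact Submodule.sum_mem _ fun i _ => Submodule.smul_mem_smul (hN i) trivial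
      rw [hk (N + k) (by omega), Nat.add_sub_cancel] at h1
      have h2 : u a ∈ I ^ N • V := (smul_mono_right (I ^ N) inf_le_right : _ ≤ I ^ N • V) h1
      rw [show V = Submodule.map A ⊤ from (Submodule.map_top A).symm, ← Submodule.map_smul''] at h2
      obtain ⟨z, hz, hzA⟩ := h2
      refine ⟨z, hzA, fun j => ?_⟩
      refine Submodule.smul_induction_on hz (fun r hr w _ => ?_) fun z₁ z₂ h₁ h₂ => ?_
      · exact Ideal.mul_mem_right _ _ hr
      · exact add_mem h₁ h₂
    by_cases hall : ∀ N, ∀ i, u a i ∈ I ^ N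
    · refine ⟨0, ?_, fun N _ j => zero_mem _⟩
      rw [map_zero]
      funext i
      refine ((IsHausdorff.eq_iff_smodEq (I := I)).2 fun N => ?_).symm
      rw [SModEq.sub_mem, Pi.zero_apply, sub_zero, smul_eq_mul, Ideal.mul_top]
      exact hall N i
    · push_neg at hall
      let P : ℕ → Prop := fun N => ∃ i, u a i ∉ I ^ N
      have hP : ∃ N, P N := hall
      let N₀ := Nat.find hP
      obtain ⟨i₀, hi₀⟩ := Nat.find_spec hP
      have hN₀ : N₀ ≠ 0 := fun h => hi₀ (by
        rw [show Nat.find hP = 0 from h, pow_zero, Ideal.one_eq_top]; trivial)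
      by_cases hsmall : N₀ - 1 < k
      · obtain ⟨z, hz⟩ := hu a
        refine ⟨z, hz, fun N hN j => ?_⟩
        have : N₀ ≤ k := by omega
        exact absurd (Ideal.pow_le_pow_right (this.trans (Nat.le_add_left k N)) (hN i₀)) hi₀
      · obtain ⟨z, hz, hz'⟩ := key (N₀ - 1 - k) fun i => by
          rw [Nat.sub_add_cancel (not_lt.1 hsmall)]
          by_contra h
          exact Nat.find_min hP (show N₀ - 1 < N₀ by omega) ⟨i, h⟩
        refine ⟨z, hz, fun N hN j => Ideal.pow_le_pow_right ?_ (hz' j)⟩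
        by_contra hlt
        exact hi₀ (Ideal.pow_le_pow_right (show N₀ ≤ N + k by omega) (hN i₀))
  choose z hz hzsmall using hpre
  have hfin : ∀ j N, {a | z a j ∉ I ^ N}.Finite := fun j N =>
    (Set.finite_iUnion fun i => coord_finite I α (x i) (N + k)).subset fun a ha => by
      by_contra h
      simp only [Set.mem_iUnion, Set.mem_setOf_eq, not_exists, not_not] at h
      exact ha (hzsmall a N h j)
  choose w hw using fun j => exists_coord_eq I α (fun a => z a j) (hfin j)
  refine ⟨w, fun i => coord_injective I α (funext fun a => ?_)⟩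
  rw [map_sum, Finset.sum_apply]
  simp only [map_smul, Pi.smul_apply, hw, smul_eq_mul]
  rw [← hA]
  exact (congrFun (hz a) i).symm

theorem flat_and_ml [IsNoetherianRing R] :
    Module.Flat R (AdicCompletion I (α →₀ R)) ∧ CAlg.IsMittagLeffler R (AdicCompletion I (α →₀ R)) :=
  haveI := Pure.FlatML.flat_pi (R := R) α
  ⟨Pure.UI.flat_left _ (coord_ui I α), Pure.ML.of_ui _ (coord_ui I α) (Pure.FlatML.ml_pi α)⟩

end Free

section Retract

variable {R : Type u} [CommRing R]

/-- Maps out of a module projective modulo `J` lift along surjections of modules killed by `J`. -/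
theorem exists_lift_of_projective (J : Ideal R) {M A B : Type u} [AddCommGroup M] [Module R M]
    [Module.Projective (R ⧸ J) (M ⧸ (J • ⊤ : Submodule R M))] [AddCommGroup A] [Module R A]
    [AddCommGroup B] [Module R B] (hA : ∀ r ∈ J, ∀ a : A, r • a = 0) (f : A →ₗ[R] B)
    (hf : Function.Surjective f) (g : M ⧸ (J • ⊤ : Submodule R M) →ₗ[R] B) :
    ∃ h : M ⧸ (J • ⊤ : Submodule R M) →ₗ[R] A, f ∘ₗ h = g := by
  let P := M ⧸ (J • ⊤ : Submodule R M)
  obtain ⟨s, hs⟩ := Module.projective_lifting_property (R := R ⧸ J)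
    (Finsupp.linearCombination (R ⧸ J) (id : P → P)) LinearMap.id (Finsupp.linearCombination_id_surjective _ _)
  choose pre hpre using fun p : P => hf (g p)
  let t : (P →₀ R ⧸ J) →ₗ[R] A := Finsupp.lsum R fun p =>
    Submodule.liftQ J (LinearMap.toSpanSingleton R A (pre p)) fun r hr => hA r hr (pre p)
  refine ⟨t ∘ₗ s.restrictScalars R, LinearMap.ext fun p => ?_⟩
  have key : f ∘ₗ t = g ∘ₗ (Finsupp.linearCombination (R ⧸ J) (id : P → P)).restrictScalars R := by
    refine Finsupp.lhom_ext fun q c => ?_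
    obtain ⟨c, rfl⟩ := Ideal.Quotient.mk_surjective c
    rw [LinearMap.comp_apply, LinearMap.comp_apply, LinearMap.restrictScalars_apply,
      Finsupp.linearCombination_single]
    show f (t (Finsupp.single q _)) = g (c • q)
    rw [map_smul, ← hpre q, ← map_smul]
    congr 1
    simp only [t, Finsupp.lsum_single]
    rfl
  show f (t (s p)) = g p
  rw [← LinearMap.comp_apply f t, key]
  exact congrArg g (LinearMap.congr_fun hs p)

theorem projective_mod_pow {I : Ideal R} (M : Type u) [AddCommGroup M] [Module R M] [Module.Flat R M]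
    [Module.Projective (R ⧸ I) (M ⧸ (I • ⊤ : Submodule R M))] (n : ℕ) :
    Module.Projective (R ⧸ I ^ (n + 1)) (M ⧸ (I ^ (n + 1) • ⊤ : Submodule R M)) := by
  let R' := R ⧸ I ^ (n + 1)
  let I' : Ideal R' := I.map (algebraMap R R')
  have hI' : IsNilpotent I' := ⟨n + 1, by
    rw [Ideal.zero_eq_bot, ← Ideal.map_pow]
    exact Ideal.map_quotient_self _⟩
  have hle : I ^ (n + 1) ≤ I := Ideal.pow_le_self (by omega)
  let eR : (R ⧸ I) ≃ₐ[R] (R' ⧸ I') :=
    ((DoubleQuot.quotQuotEquivQuotOfLEₐ R hle).symm)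
  letI : Algebra (R ⧸ I) (R' ⧸ I') := eR.toAlgHom.toRingHom.toAlgebra
  haveI : IsScalarTower R (R ⧸ I) (R' ⧸ I') := IsScalarTower.of_algebraMap_eq fun r => (eR.commutes r).symm
  let e₁ : (M ⧸ (I • ⊤ : Submodule R M)) ≃ₗ[R ⧸ I] (R ⧸ I) ⊗[R] M :=
    (TensorProduct.quotTensorEquivQuotSMul M I).symm.extendScalarsOfSurjective Ideal.Quotient.mk_surjective
  haveI hP : Module.Projective (R ⧸ I) ((R ⧸ I) ⊗[R] M) := Module.Projective.of_equiv e₁
  haveI : Module.Flat R' (R' ⊗[R] M) := inferInstance
  let e₂ : (R' ⧸ I') ⊗[R ⧸ I] ((R ⧸ I) ⊗[R] M) ≃ₗ[R' ⧸ I'] (R' ⧸ I') ⊗[R'] (R' ⊗[R] M) :=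
    (AlgebraTensorModule.cancelBaseChange R (R ⧸ I) (R' ⧸ I') (R' ⧸ I') M).trans
      (AlgebraTensorModule.cancelBaseChange R R' (R' ⧸ I') (R' ⧸ I') M).symm
  haveI hP' : Module.Projective (R' ⧸ I') ((R' ⧸ I') ⊗[R'] (R' ⊗[R] M)) := Module.Projective.of_equiv e₂
  haveI : Module.Projective R' (R' ⊗[R] M) := S6270.result I' hI' _ hP'
  exact Module.Projective.of_equiv
    ((TensorProduct.quotTensorEquivQuotSMul M (I ^ (n + 1))).extendScalarsOfSurjective Ideal.Quotient.mk_surjective)

/-- The completion of a flat module which is projective modulo `I` is a retract of the completion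
of a free module. -/
theorem exists_retract (I : Ideal R) (M : Type u) [AddCommGroup M] [Module R M] [Module.Flat R M]
    [Module.Projective (R ⧸ I) (M ⧸ (I • ⊤ : Submodule R M))] :
    ∃ (s : AdicCompletion I M →ₗ[R] AdicCompletion I (M →₀ R))
      (p : AdicCompletion I (M →₀ R) →ₗ[R] AdicCompletion I M), p ∘ₗ s = LinearMap.id := by
  let φ : (M →₀ R) →ₗ[R] M := Finsupp.linearCombination R id
  have hφ : Function.Surjective φ := Finsupp.linearCombination_id_surjective R M
  let Q : ℕ → Type u := fun n => M ⧸ (I ^ n • ⊤ : Submodule R M)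
  let G : ℕ → Type u := fun n => (M →₀ R) ⧸ (I ^ n • ⊤ : Submodule R (M →₀ R))
  let π : ∀ n, G n →ₗ[R] Q n := fun n => φ.reduceModIdeal (I ^ n)
  let tG : ∀ n, G (n + 1) →ₗ[R] G n := fun n => AdicCompletion.transitionMap I _ (Nat.le_succ n)
  let tQ : ∀ n, Q (n + 1) →ₗ[R] Q n := fun n => AdicCompletion.transitionMap I _ (Nat.le_succ n)
  have hπ : ∀ n, Function.Surjective (π n) := fun n x => by
    obtain ⟨y, rfl⟩ := Submodule.Quotient.mk_surjective _ x
    obtain ⟨z, rfl⟩ := hφ y
    exact ⟨Submodule.Quotient.mk z, rfl⟩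
  have hstep : ∀ n, ∀ g : Q n →ₗ[R] G n, π n ∘ₗ g = LinearMap.id →
      ∃ g' : Q (n + 1) →ₗ[R] G (n + 1), π (n + 1) ∘ₗ g' = LinearMap.id ∧ tG n ∘ₗ g' = g ∘ₗ tQ n := by
    intro n g hg
    haveI := projective_mod_pow (I := I) M n
    have hkill : ∀ r ∈ I ^ (n + 1), ∀ a : G (n + 1), r • a = 0 := fun r hr a => by
      obtain ⟨v, rfl⟩ := Submodule.Quotient.mk_surjective _ a
      exact (Submodule.Quotient.mk_eq_zero _).2 (Submodule.smul_mem_smul hr trivial)
    obtain ⟨h, hh⟩ := exists_lift_of_projective (I ^ (n + 1)) hkill (π (n + 1)) (hπ _) LinearMap.id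
    have hcomm : π n ∘ₗ tG n = tQ n ∘ₗ π (n + 1) := by
      refine LinearMap.ext fun x => ?_
      obtain ⟨v, rfl⟩ := Submodule.Quotient.mk_surjective _ x
      rfl
    let d : Q (n + 1) →ₗ[R] LinearMap.ker (π n) := LinearMap.codRestrict _ (g ∘ₗ tQ n - tG n ∘ₗ h) fun x => by
      rw [LinearMap.mem_ker, LinearMap.sub_apply, map_sub, LinearMap.comp_apply, LinearMap.comp_apply,
        ← LinearMap.comp_apply (π n) (tG n), hcomm, LinearMap.comp_apply, ← LinearMap.comp_apply (π (n + 1)) h, hh,
        ← LinearMap.comp_apply (π n) g, hg, LinearMap.id_apply, LinearMap.id_apply, sub_self]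
    let t : LinearMap.ker (π (n + 1)) →ₗ[R] LinearMap.ker (π n) := LinearMap.restrict (tG n) fun x hx => by
      rw [LinearMap.mem_ker] at hx ⊢
      rw [← LinearMap.comp_apply, hcomm, LinearMap.comp_apply, hx, map_zero]
    have ht : Function.Surjective t := fun y => by
      obtain ⟨v, hv⟩ := Submodule.Quotient.mk_surjective _ y.1
      have h1 : φ v ∈ (I ^ n • ⊤ : Submodule R M) := by
        have := LinearMap.mem_ker.1 y.2
        rw [← hv] at this
        exact (Submodule.Quotient.mk_eq_zero _).1 this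
      rw [show (⊤ : Submodule R M) = (⊤ : Submodule R (M →₀ R)).map φ from
        (Submodule.map_top φ ▸ (LinearMap.range_eq_top.2 hφ)).symm, ← Submodule.map_smul''] at h1
      obtain ⟨w, hw, hwv⟩ := h1
      refine ⟨⟨Submodule.Quotient.mk (v - w), LinearMap.mem_ker.2 ?_⟩, Subtype.ext ?_⟩
      · show Submodule.Quotient.mk (φ (v - w)) = 0
        rw [map_sub, hwv, sub_self, Submodule.Quotient.mk_zero]
      · show (Submodule.Quotient.mk (v - w) : G n) = y.1
        rw [← hv, Submodule.Quotient.eq, sub_sub_cancel_left]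
        exact neg_mem hw
    obtain ⟨e, he⟩ := exists_lift_of_projective (I ^ (n + 1)) (A := LinearMap.ker (π (n + 1)))
      (fun r hr a => Subtype.ext (hkill r hr a.1)) t ht d
    refine ⟨h + (LinearMap.ker (π (n + 1))).subtype ∘ₗ e, ?_, ?_⟩
    · refine LinearMap.ext fun x => ?_
      rw [LinearMap.comp_apply, LinearMap.add_apply, map_add, ← LinearMap.comp_apply (π (n + 1)) h, hh,
        LinearMap.comp_apply, Submodule.subtype_apply, LinearMap.mem_ker.1 (e x).2, add_zero]
    · refine LinearMap.ext fun x => ?_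
      have := congrArg Subtype.val (LinearMap.congr_fun he x)
      rw [LinearMap.comp_apply, LinearMap.add_apply, map_add]
      exact (congrArg (tG n (h x) + ·) this).trans (add_sub_cancel _ _)
  choose next hnext₁ hnext₂ using hstep
  have hzero : π 0 ∘ₗ (0 : Q 0 →ₗ[R] G 0) = LinearMap.id := LinearMap.ext fun x => by
    obtain ⟨y, rfl⟩ := Submodule.Quotient.mk_surjective _ x
    refine (map_zero (π 0)).trans (((Submodule.Quotient.mk_eq_zero _).2 ?_).symm)
    rw [pow_zero, Ideal.one_eq_top, Submodule.top_smul]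
    trivial
  let seq : ∀ n, {g : Q n →ₗ[R] G n // π n ∘ₗ g = LinearMap.id} := fun n =>
    Nat.rec ⟨0, hzero⟩ (fun n g => ⟨next n g.1 g.2, hnext₁ n g.1 g.2⟩) n
  have hsucc : ∀ n, tG n ∘ₗ (seq (n + 1)).1 = (seq n).1 ∘ₗ tQ n := fun n => hnext₂ n _ _
  have hcompat : ∀ {m n : ℕ} (hmn : m ≤ n), AdicCompletion.transitionMap I _ hmn ∘ₗ
      ((seq n).1 ∘ₗ AdicCompletion.eval I M n) = (seq m).1 ∘ₗ AdicCompletion.eval I M m := by
    intro m n hmn
    induction n, hmn using Nat.le_induction with
    | base =>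
      refine LinearMap.ext fun x => ?_
      obtain ⟨y, hy⟩ := Submodule.Quotient.mk_surjective _ ((seq m).1 (AdicCompletion.eval I M m x))
      rw [LinearMap.comp_apply, LinearMap.comp_apply, ← hy]
      rfl
    | succ n hmn ih =>
      refine LinearMap.ext fun x => ?_
      rw [← ih, LinearMap.comp_apply, LinearMap.comp_apply, LinearMap.comp_apply, LinearMap.comp_apply,
        ← AdicCompletion.transitionMap_comp_eval_apply I M (Nat.le_succ n) x |>.trans (AdicCompletion.eval_apply I M n x).symm,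
        show (seq n).1 (AdicCompletion.transitionMap I M (Nat.le_succ n) (x.val (n + 1))) =
          tG n ((seq (n + 1)).1 (x.val (n + 1))) from (LinearMap.congr_fun (hsucc n) (x.val (n + 1))).symm,
        AdicCompletion.eval_apply]
      obtain ⟨y, hy⟩ := Submodule.Quotient.mk_surjective _ ((seq (n + 1)).1 (x.val (n + 1)))
      rw [← hy]
      rfl
  refine ⟨AdicCompletion.lift I (fun n => (seq n).1 ∘ₗ AdicCompletion.eval I M n) hcompat,
    (AdicCompletion.map I φ).restrictScalars R, LinearMap.ext fun x => AdicCompletion.ext fun n => ?_⟩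
  show φ.reduceModIdeal (I ^ n) ((seq n).1 (x.val n)) = x.val n
  exact LinearMap.congr_fun (seq n).2 (x.val n)

theorem flat_and_ml_completion [IsNoetherianRing R] (I : Ideal R) [IsAdicComplete I R] (M : Type u)
    [AddCommGroup M] [Module R M] [Module.Flat R M]
    [Module.Projective (R ⧸ I) (M ⧸ (I • ⊤ : Submodule R M))] :
    Module.Flat R (AdicCompletion I M) ∧ CAlg.IsMittagLeffler R (AdicCompletion I M) := by
  obtain ⟨s, p, hsp⟩ := exists_retract I M
  obtain ⟨hflat, hml⟩ := flat_and_ml I M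
  exact ⟨Module.Flat.of_retract s p hsp, Pure.ML.of_ui s (Pure.UI.of_leftInverse hsp) hml⟩

end Retract

end Groth.Agent.Lib.FlatCA.Completion
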