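import Groth.Agent.Lib.FlatCA.NzdLimit

/-!
# Noetherian models containing finitely many given elements
-/

noncomputable section

universe u

open TensorProduct

attribute [local instance] Algebra.TensorProduct.rightAlgebra

namespace Groth.Agent.Lib.FlatCA.DescendElements

/-- A flat finitely presented module over a finitely presented algebra comes by base change from a Noetherian ring,
over which given finitely many elements of the algebra are defined. -/
theorem exists_model {R S N : Type u} [CommRing R] [CommRing S] [Algebra R S] [Algebra.FinitePresentation R S]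
    [AddCommGroup N] [Module S N] [Module R N] [IsScalarTower R S N] [Module.FinitePresentation S N]
    [Module.Flat R N] (t : Finset S) :
    ∃ (R₁ : Type u) (_ : CommRing R₁) (S₁ : Type u) (_ : CommRing S₁) (_ : Algebra R₁ R) (_ : Algebra R₁ S₁)
      (_ : Algebra S₁ S) (_ : Algebra R₁ S) (_ : IsScalarTower R₁ R S) (_ : IsScalarTower R₁ S₁ S)
      (_ : IsNoetherianRing R₁) (_ : Algebra.FiniteType R₁ S₁)
      (N₁ : Type u) (_ : AddCommGroup N₁) (_ : Module S₁ N₁) (_ : Module R₁ N₁) (_ : IsScalarTower R₁ S₁ N₁)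
      (_ : Module.Finite S₁ N₁) (_ : Module.Flat R₁ N₁) (_ : Module S₁ N) (_ : IsScalarTower S₁ S N)
      (F : N₁ →ₗ[S₁] N),
      Algebra.IsPushout R₁ R S₁ S ∧ IsBaseChange S F ∧ (t : Set S) ⊆ Set.range (algebraMap S₁ S) := by
  classical
  obtain ⟨R₀, _, _, S₀, _, _, _, _, _, _, M₀, _, _, _, _, _, _, F, hR₀, hS₀, hM₀, hpo, hF, hflat⟩ :=
    Groth.Agent.H19.FlatLocus.Model.exists_model R S N
  haveI := hflat inferInstance
  let φ : ∀ T : Subalgebra R₀ R, T ⊗[R₀] S₀ →ₐ[R₀] S := fun T =>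
    Algebra.TensorProduct.lift ((IsScalarTower.toAlgHom R₀ R S).comp T.val) (IsScalarTower.toAlgHom R₀ S₀ S)
      fun _ _ => Commute.all _ _
  have hex : ∀ e : S, ∃ s : Finset R, ∀ T : Subalgebra R₀ R, (s : Set R) ⊆ T → e ∈ (φ T).range := by
    intro e
    induction e using hpo.out.inductionOn with
    | zero => exact ⟨∅, fun T _ => zero_mem _⟩
    | tmul b =>
      exact ⟨∅, fun T _ => ⟨1 ⊗ₜ b, by
        show φ T (1 ⊗ₜ b) = algebraMap S₀ S b
        simp [φ]⟩⟩
    | smul r a ha =>
      obtain ⟨s, hs⟩ := ha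
      refine ⟨insert r s, fun T hT => ?_⟩
      rw [Finset.coe_insert, Set.insert_subset_iff] at hT
      obtain ⟨x, hx⟩ := hs T hT.2
      refine ⟨(⟨r, hT.1⟩ : T) ⊗ₜ 1 * x, ?_⟩
      show φ T _ = _
      rw [map_mul, show φ T x = a from hx, Algebra.smul_def]
      simp [φ]
    | add a b ha hb =>
      obtain ⟨s, hs⟩ := ha
      obtain ⟨t, ht⟩ := hb
      refine ⟨s ∪ t, fun T hT => ?_⟩
      rw [Finset.coe_union, Set.union_subset_iff] at hT
      exact add_mem (hs T hT.1) (ht T hT.2)
  choose s hs using hex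
  let R₁ : Subalgebra R₀ R := Algebra.adjoin R₀ ((t.biUnion s : Finset R) : Set R)
  haveI : Algebra.FiniteType R₀ R₁ :=
    (Subalgebra.fg_iff_finiteType _).1 (Subalgebra.fg_adjoin_finset _)
  haveI := hR₀
  haveI : IsNoetherianRing R₀ := Algebra.FiniteType.isNoetherianRing ℤ R₀
  haveI : IsNoetherianRing R₁ := Algebra.FiniteType.isNoetherianRing R₀ R₁
  let S₁ := R₁ ⊗[R₀] S₀
  letI : Algebra S₁ S := (φ R₁).toRingHom.toAlgebra
  haveI : IsScalarTower S₀ S₁ S := IsScalarTower.of_algebraMap_eq fun b => by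
    show algebraMap S₀ S b = φ R₁ (1 ⊗ₜ b)
    simp [φ]
  haveI : IsScalarTower R₁ S₁ S := IsScalarTower.of_algebraMap_eq fun a => by
    show algebraMap R₁ S a = φ R₁ (a ⊗ₜ 1)
    simp [φ]
    rfl
  haveI : IsScalarTower R₀ S₁ S := IsScalarTower.of_algebraMap_eq fun a => ((φ R₁).commutes a).symm
  have hpo₁ : Algebra.IsPushout R₁ R S₁ S :=
    (Algebra.IsPushout.comp_iff R₀ R₁ S₀ S₁ (T' := S)).1 hpo
  haveI : Algebra.FiniteType R₁ S₁ := inferInstance
  let N₁ := S₁ ⊗[S₀] M₀
  haveI : Module.Flat R₁ N₁ := Module.Flat.of_linearEquiv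
    (Impurity.baseChangeEquiv (A := R₀) (B := S₀) (A' := R₁) (B' := S₁) (N := M₀) (N' := N₁)
      (Algebra.IsPushout.symm inferInstance) ((TensorProduct.mk S₀ S₁ M₀) 1) (TensorProduct.isBaseChange S₀ M₀ S₁))
  letI : Module S₁ N := Module.compHom N (algebraMap S₁ S)
  haveI : IsScalarTower S₁ S N := IsScalarTower.of_algebraMap_smul fun _ _ => rfl
  haveI : IsScalarTower S₀ S₁ N := IsScalarTower.of_algebraMap_smul fun b x => by
    show algebraMap S₁ S (algebraMap S₀ S₁ b) • x = b • x
    rw [← IsScalarTower.algebraMap_apply, algebraMap_smul]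
  let F₁ : N₁ →ₗ[S₁] N := LinearMap.liftBaseChange S₁ F
  have hF₁ : IsBaseChange S F₁ := by
    refine IsBaseChange.of_comp (TensorProduct.isBaseChange S₀ M₀ S₁) ?_
    rw [show (F₁ : N₁ →ₗ[S₀] N) ∘ₗ (TensorProduct.mk S₀ S₁ M₀ 1) = F from LinearMap.ext fun x => by
      show LinearMap.liftBaseChange S₁ F ((1 : S₁) ⊗ₜ x) = F x
      rw [LinearMap.liftBaseChange_tmul, one_smul]]
    exact hF
  refine ⟨R₁, inferInstance, S₁, inferInstance, inferInstance, inferInstance, inferInstance, inferInstance,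
    inferInstance, inferInstance, inferInstance, inferInstance, N₁, inferInstance, inferInstance, inferInstance,
    inferInstance, inferInstance, inferInstance, inferInstance, inferInstance, F₁, hpo₁, hF₁, fun g hg => ?_⟩
  obtain ⟨x, hx⟩ := hs g R₁ (le_trans (Finset.coe_subset.2 (Finset.subset_biUnion_of_mem s hg)) Algebra.subset_adjoin)
  exact ⟨x, hx⟩

end Groth.Agent.Lib.FlatCA.DescendElements
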