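import Groth.Prelude.Def_FlatCA
import Groth.Agent.Lib.LocalFlat.UnivInjective
import Mathlib.LinearAlgebra.TensorProduct.Tower
import Mathlib.RingTheory.TensorProduct.Maps

/-!
# The fibre module as a tensor product over the base
-/

universe u

open TensorProduct

attribute [local instance] Algebra.TensorProduct.rightAlgebra

namespace Groth.Agent.Lib.FlatCA.FiberMod

variable {R : Type u} [CommRing R] (p : Ideal R) [p.IsPrime] (S : Type u) [CommRing S]
  [Algebra R S] (N : Type u) [AddCommGroup N] [Module S N] [Module R N] [IsScalarTower R S N]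

/-- `κ(p) ⊗ S ≅ S ⊗ κ(p)`, `S`-linearly. -/
noncomputable def fiberComm : p.Fiber S ≃ₗ[S] S ⊗[R] p.ResidueField :=
  { (Algebra.TensorProduct.comm R p.ResidueField S).toLinearEquiv with
    map_smul' := fun s z => by
      show Algebra.TensorProduct.comm R p.ResidueField S (s • z) =
        s • Algebra.TensorProduct.comm R p.ResidueField S z
      induction z using TensorProduct.induction_on with
      | zero => simp
      | add a b ha hb => simp only [smul_add, map_add, ha, hb]
      | tmul c t =>
        rw [Algebra.smul_def, Algebra.TensorProduct.right_algebraMap_apply]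
        simp [TensorProduct.smul_tmul'] }

@[simp] theorem fiberComm_tmul (c : p.ResidueField) (s : S) :
    fiberComm p S (c ⊗ₜ[R] s) = s ⊗ₜ[R] c := rfl

/-- The fibre module is `N ⊗[R] κ(p)`. -/
noncomputable def fiberModEquiv : FlatCA.fiberMod p S N ≃ₗ[S] N ⊗[R] p.ResidueField :=
  ((TensorProduct.congr (fiberComm p S) (LinearEquiv.refl S N)).trans
    (TensorProduct.comm S _ _)).trans
    (TensorProduct.AlgebraTensorModule.cancelBaseChange R S S N p.ResidueField)

theorem fiberModEquiv_tmul (c : p.ResidueField) (s : S) (n : N) :
    fiberModEquiv p S N ((c ⊗ₜ[R] s : p.Fiber S) ⊗ₜ[S] n) = (s • n) ⊗ₜ[R] c := rfl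

/-- Action of an element of `S` on `N ⊗[R] Q`. -/
theorem smul_eq_rTensor (Q : Type*) [AddCommGroup Q] [Module R Q] (g : S) (x : N ⊗[R] Q) :
    g • x = ((LinearMap.lsmul S N g).restrictScalars R).rTensor Q x := by
  induction x using TensorProduct.induction_on with
  | zero => simp
  | add a b ha hb => simp only [smul_add, map_add, ha, hb]
  | tmul a b => rfl

variable [IsLocalRing R]

open IsLocalRing in
theorem residue_injective_of_mem_nzdFiber {g : S} (hg : g ∈ FlatCA.nzdFiber R S N) :
    Function.Injective (((LinearMap.lsmul S N g).restrictScalars R).rTensor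
      (maximalIdeal R).ResidueField) := by
  rw [injective_iff_map_eq_zero]
  intro x hx
  rw [← smul_eq_rTensor] at hx
  obtain ⟨y, rfl⟩ := (fiberModEquiv (maximalIdeal R) S N).surjective x
  rw [← map_smul, LinearEquiv.map_eq_zero_iff] at hx
  rw [mem_nonZeroSMulDivisors_iff.1 hg y hx, map_zero]

omit [IsLocalRing R] in
/-- The residue field at a maximal ideal `m` is the quotient by `m`. -/
theorem lTensor_quotient_injective_iff_residueField (m : Ideal R) [m.IsMaximal]
    {P P' : Type*} [AddCommGroup P] [Module R P] [AddCommGroup P'] [Module R P'] (f : P →ₗ[R] P') :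
    Function.Injective (f.rTensor m.ResidueField) ↔ Function.Injective (f.lTensor (R ⧸ m)) := by
  let e : (R ⧸ m) ≃ₗ[R] m.ResidueField := LinearEquiv.ofBijective
    ((IsScalarTower.toAlgHom R (R ⧸ m) m.ResidueField).toLinearMap)
    m.bijective_algebraMap_quotient_residueField
  let a := (TensorProduct.comm R P (R ⧸ m)).symm.trans (e.lTensor P)
  let b := (TensorProduct.comm R P' (R ⧸ m)).symm.trans (e.lTensor P')
  have key : f.rTensor m.ResidueField ∘ a = b ∘ f.lTensor (R ⧸ m) := by
    funext x
    induction x using TensorProduct.induction_on with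
    | zero => simp
    | add x y hx hy => simp only [Function.comp_apply, map_add] at *; rw [hx, hy]
    | tmul c t => simp [a, b]
  constructor
  · intro h
    have : Function.Injective (b ∘ f.lTensor (R ⧸ m)) := key ▸ h.comp a.injective
    exact this.of_comp
  · intro h
    have : Function.Injective (f.rTensor m.ResidueField ∘ a) := key ▸ b.injective.comp h
    exact this.of_comp_right a.surjective

end Groth.Agent.Lib.FlatCA.FiberMod
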