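import Groth.Agent.Lib.FlatCA.FibreAss

/-!
# Associated points of fibres descend along base change
-/

universe u

open TensorProduct

attribute [local instance] Algebra.TensorProduct.rightAlgebra

namespace Groth.Agent.Lib.FlatCA.FibreDescend

variable {A B A' B' : Type u} [CommRing A] [CommRing B] [CommRing A'] [CommRing B'] [Algebra A B]
  [Algebra A A'] [Algebra B B'] [Algebra A' B'] [Algebra A B'] [IsScalarTower A B B'] [IsScalarTower A A' B']
  {N N' : Type u} [AddCommGroup N] [Module B N]
  [AddCommGroup N'] [Module B' N'] [Module B N'] [IsScalarTower B B' N']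

/-- The fibre module of a base change is a sum of copies of the fibre module, compatibly with the actions. -/
theorem exists_decomposition (hpo : Algebra.IsPushout A B A' B') (f : N →ₗ[B] N') (hf : IsBaseChange B' f)
    (t : Ideal A) [t.IsPrime] (t' : Ideal A') [t'.IsPrime] [t'.LiesOver t] :
    ∃ (ι : Type u) (h : _root_.FlatCA.fiberMod t' B' N' → ι →₀ _root_.FlatCA.fiberMod t B N),
      ∀ (b : B) (z : _root_.FlatCA.fiberMod t' B' N'), b • h z = 0 ↔ algebraMap B B' b • z = 0 := by
  letI : Module A N := Module.compHom N (algebraMap A B)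
  haveI : IsScalarTower A B N := IsScalarTower.of_algebraMap_smul fun _ _ => rfl
  letI : Module A' N' := Module.compHom N' (algebraMap A' B')
  haveI : IsScalarTower A' B' N' := IsScalarTower.of_algebraMap_smul fun _ _ => rfl
  letI : Module A N' := Module.compHom N' (algebraMap A B')
  haveI : IsScalarTower A B N' := IsScalarTower.of_algebraMap_smul fun a n => by
    rw [← algebraMap_smul B' (algebraMap A B a) n, ← IsScalarTower.algebraMap_apply]
    rfl
  haveI : IsScalarTower A A' N' := IsScalarTower.of_algebraMap_smul fun a n => by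
    show algebraMap A' B' (algebraMap A A' a) • n = algebraMap A B' a • n
    rw [← IsScalarTower.algebraMap_apply]
  haveI : SMulCommClass A' B N' := ⟨fun a b n => by
    rw [← algebraMap_smul B' a (b • n), ← algebraMap_smul B' b n, smul_comm, algebraMap_smul, algebraMap_smul]⟩
  let φ : t.ResidueField →ₐ[A] t'.ResidueField :=
    Ideal.ResidueField.mapₐ t t' (Algebra.ofId A A') (Ideal.LiesOver.over (p := t) (P := t'))
  letI := φ.toRingHom.toAlgebra
  haveI : IsScalarTower A t.ResidueField t'.ResidueField :=
    IsScalarTower.of_algebraMap_eq fun a => (φ.commutes a).symm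
  let bs := Module.Free.chooseBasis t.ResidueField t'.ResidueField
  let ρ : t'.ResidueField ≃ₗ[A] (_ →₀ t.ResidueField) := bs.repr.restrictScalars A
  let g : N ⊗[A] t'.ResidueField →ₗ[B] N' ⊗[A'] t'.ResidueField :=
    AlgebraTensorModule.lift
      { toFun := fun n =>
          { toFun := fun c => f n ⊗ₜ[A'] c
            map_add' := fun c d => by rw [TensorProduct.tmul_add]
            map_smul' := fun a c => by
              rw [RingHom.id_apply, ← algebraMap_smul A' a c, TensorProduct.tmul_smul, algebraMap_smul] }
        map_add' := fun n m => LinearMap.ext fun c => by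
          show f (n + m) ⊗ₜ[A'] c = _
          rw [map_add, TensorProduct.add_tmul]; rfl
        map_smul' := fun b n => LinearMap.ext fun c => by
          show f (b • n) ⊗ₜ[A'] c = _
          rw [map_smul]; rfl }
  let e₀ : N' ⊗[A'] t'.ResidueField ≃+ N ⊗[A] t'.ResidueField :=
    (((TensorProduct.comm A' _ _).trans (LinearEquiv.lTensor _ (Impurity.baseChangeEquiv hpo f hf))).trans
      (AlgebraTensorModule.cancelBaseChange A A' A' t'.ResidueField N)).toAddEquiv.trans
      (TensorProduct.comm A t'.ResidueField N).toAddEquiv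
  have hb1 : ∀ n, Impurity.baseChangeEquiv (A' := A') hpo f hf (f n) = 1 ⊗ₜ[A] n := fun n => by
    haveI : Algebra.IsPushout A A' B B' := hpo.symm
    show Algebra.IsPushout.cancelBaseChange A A' B B' N (hf.equiv.symm (f n)) = _
    rw [show hf.equiv.symm (f n) = (1 : B') ⊗ₜ[B] n from hf.equiv.symm_apply_eq.2 (by simp [IsBaseChange.equiv_tmul]),
      Algebra.IsPushout.cancelBaseChange_tmul]
  have heg : ∀ y, e₀ (g y) = y := by
    intro y
    induction y using TensorProduct.induction_on with
    | zero => simp
    | add a b ha hb => rw [map_add, map_add, ha, hb]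
    | tmul n c =>
      show TensorProduct.comm A t'.ResidueField N
        (AlgebraTensorModule.cancelBaseChange A A' A' t'.ResidueField N
          (c ⊗ₜ[A'] Impurity.baseChangeEquiv (A' := A') hpo f hf (f n))) = _
      rw [hb1, AlgebraTensorModule.cancelBaseChange_tmul, one_smul, TensorProduct.comm_tmul]
  have hg : Function.Bijective g := by
    refine ⟨Function.LeftInverse.injective heg, fun x => ⟨e₀ x, ?_⟩⟩
    exact e₀.injective (heg (e₀ x))
  let E : N' ⊗[A'] t'.ResidueField ≃ₗ[B] (_ →₀ N ⊗[A] t.ResidueField) :=
    ((LinearEquiv.ofBijective g hg).symm.trans (AlgebraTensorModule.congr (LinearEquiv.refl B N) ρ)).trans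
      (TensorProduct.finsuppRight A B N t.ResidueField _)
  refine ⟨_, fun z => (E (FiberMod.fiberModEquiv t' B' N' z)).mapRange (FiberMod.fiberModEquiv t B N).symm (map_zero _),
    fun b z => ?_⟩
  have : ∀ w : N' ⊗[A'] t'.ResidueField, b • (E w).mapRange (FiberMod.fiberModEquiv t B N).symm (map_zero _) =
      (E (b • w)).mapRange (FiberMod.fiberModEquiv t B N).symm (map_zero _) := fun w => by
    ext i
    simp
  rw [this, ← algebraMap_smul B' b (FiberMod.fiberModEquiv t' B' N' z), ← map_smul,
    Finsupp.ext_iff]
  constructor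
  · intro h
    refine (FiberMod.fiberModEquiv t' B' N').map_eq_zero_iff.1 (E.map_eq_zero_iff.1 (Finsupp.ext fun i => ?_))
    exact (LinearEquiv.map_eq_zero_iff _).1 ((Finsupp.mapRange_apply ..).symm.trans (h i))
  · intro h i
    rw [h, map_zero, map_zero, Finsupp.mapRange_zero]

/-- An associated point of a fibre of a base change lies over an associated point of the fibre. -/
theorem assoc_comap (hpo : Algebra.IsPushout A B A' B') (f : N →ₗ[B] N') (hf : IsBaseChange B' f)
    (t : Ideal A) [t.IsPrime] (t' : Ideal A') [t'.IsPrime] [t'.LiesOver t]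
    (P' : Ideal B') [P'.IsPrime] [P'.LiesOver t']
    (hP : _root_.FlatCA.fiberIdeal t' P' ∈ associatedPrimes (t'.Fiber B') (_root_.FlatCA.fiberMod t' B' N')) :
    (P'.comap (algebraMap B B')).LiesOver t ∧
      _root_.FlatCA.fiberIdeal t (P'.comap (algebraMap B B')) ∈
        associatedPrimes (t.Fiber B) (_root_.FlatCA.fiberMod t B N) := by
  classical
  have hl : (P'.comap (algebraMap B B')).LiesOver t := ⟨by
    rw [Ideal.under_def, Ideal.comap_comap, ← IsScalarTower.algebraMap_eq, IsScalarTower.algebraMap_eq A A' B',
      ← Ideal.comap_comap]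
    show t = (P'.under A').comap (algebraMap A A')
    rw [← Ideal.LiesOver.over (p := t') (P := P'), ← Ideal.under_def, ← Ideal.LiesOver.over (p := t) (P := t')]⟩
  refine ⟨hl, ?_⟩
  obtain ⟨ι, h, hh⟩ := exists_decomposition hpo f hf t t'
  obtain ⟨-, z, hz⟩ := (FibreAss.assoc_iff N' t' P').1 hP
  refine (FibreAss.assoc_iff N t _).2 ?_
  let c : ι → Ideal B := fun i => Submodule.colon (⊥ : Submodule B (_root_.FlatCA.fiberMod t B N)) {h z i}
  have hc : (Submodule.colon (⊥ : Submodule B' (_root_.FlatCA.fiberMod t' B' N')) {z}).comap (algebraMap B B') =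
      (h z).support.inf c := by
    ext b
    simp only [Submodule.mem_finsetInf, c, Submodule.mem_colon_singleton, Submodule.mem_bot, Ideal.mem_comap,
      ← hh, Finsupp.ext_iff, Finsupp.coe_smul, Pi.smul_apply, Finsupp.coe_zero, Pi.zero_apply]
    refine ⟨fun hi i _ => hi i, fun hi i => ?_⟩
    by_cases hn : h z i = 0
    · rw [hn, smul_zero]
    · exact hi i (Finsupp.mem_support_iff.2 hn)
  have hrad : P'.comap (algebraMap B B') = (h z).support.inf fun i => (c i).radical := by
    rw [hz, Ideal.comap_radical, hc]
    induction (h z).support using Finset.induction_on with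
    | empty => exact Ideal.radical_top _
    | insert a s _ ih => rw [Finset.inf_insert, Finset.inf_insert, Ideal.radical_inf, ih]
  obtain ⟨i, hi, hle⟩ := (Ideal.IsPrime.inf_le' inferInstance).1 hrad.ge
  exact ⟨inferInstance, h z i, le_antisymm (hrad.le.trans (Finset.inf_le hi)) hle⟩

end Groth.Agent.Lib.FlatCA.FibreDescend
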