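import Groth.Agent.Lib.FlatCA.FibreAss
import Groth.Agent.Lib.FlatCA.FibreDescend

/-!
# Moving impurities along base changes
-/

universe u

open TensorProduct

attribute [local instance] Algebra.TensorProduct.rightAlgebra

namespace Groth.Agent.Lib.FlatCA.ImpurityMove

variable {A B : Type u} [CommRing A] [CommRing B] [Algebra A B] [Algebra.FiniteType A B]
  {N : Type u} [AddCommGroup N] [Module B N] {p : Ideal A} [p.IsPrime]

/-- An impurity pulls back to any base change with compatible points. -/
theorem up {A' B' N' : Type u} [CommRing A'] [CommRing B'] [Algebra A A'] [Algebra B B'] [Algebra A' B']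
    [Algebra A B'] [IsScalarTower A B B'] [IsScalarTower A A' B'] [AddCommGroup N'] [Module B' N'] [Module B N']
    [IsScalarTower B B' N'] [Module A' N'] [IsScalarTower A' B' N'] {f : N →ₗ[B] N'} {t' t : Ideal A'} [t'.IsPrime]
    [t.IsPrime] {P : Ideal B'} [P.IsPrime] (himp : _root_.FlatCA.IsImpurity A B N p A' B' N' f t' t P)
    (A'' : Type u) [CommRing A''] [Algebra A A''] [Algebra A' A''] [IsScalarTower A A' A'']
    (t'' u : Ideal A'') [t''.IsPrime] [u.IsPrime] [t''.LiesOver t'] [u.LiesOver t] (hle : t'' ≤ u)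
    (Q : ∀ (X : Type u) [CommRing X] [Algebra A X], Ideal X → Prop) (hQ : Q A'' u) :
    _root_.FlatCA.HasImpurity A B N p Q := by
  obtain ⟨hpo, hf, -, htp, hPt, hass, hno⟩ := himp
  haveI := htp
  haveI := hPt
  haveI := hpo
  haveI : Algebra.IsPushout A A' B B' := hpo.symm
  let B'' := A'' ⊗[A'] B'
  letI : Algebra B B'' := ((algebraMap B' B'').comp (algebraMap B B')).toAlgebra
  haveI : IsScalarTower B B' B'' := .of_algebraMap_eq' rfl
  haveI : IsScalarTower A B' B'' := IsScalarTower.of_algebraMap_eq fun a => by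
    rw [IsScalarTower.algebraMap_apply A A' B', ← IsScalarTower.algebraMap_apply A' B' B'',
      ← IsScalarTower.algebraMap_apply A A' B'']
  haveI : IsScalarTower A B B'' := IsScalarTower.of_algebraMap_eq fun a => by
    rw [IsScalarTower.algebraMap_apply B B' B'', ← IsScalarTower.algebraMap_apply A B B',
      ← IsScalarTower.algebraMap_apply]
  let N'' := B'' ⊗[B'] N'
  let g : N' →ₗ[B'] N'' := TensorProduct.mk B' B'' N' 1
  have hg : IsBaseChange B'' g := TensorProduct.isBaseChange B' N' B''
  have hpo' : Algebra.IsPushout A' B' A'' B'' := inferInstance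
  have hpo'' : Algebra.IsPushout A B A'' B'' := (Algebra.IsPushout.comp_iff A A' B B' (T := A'') |>.2 hpo'.symm).symm
  haveI : Algebra.FiniteType A' B' := .equiv (Algebra.FiniteType.baseChange A' (A := B)) (Algebra.IsPushout.equiv A A' B B')
  haveI : Algebra.FiniteType A'' B'' := Algebra.FiniteType.baseChange A'' (A := B')
  obtain ⟨P'', hP'', hPP, hPt'', hass''⟩ := FibreAss.exists_assoc_over hpo' g hg t' t'' P hass
  refine ⟨A'', B'', N'', inferInstance, inferInstance, inferInstance, inferInstance, inferInstance, inferInstance,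
    inferInstance, inferInstance, inferInstance, inferInstance, inferInstance, inferInstance, inferInstance,
    inferInstance, (g.restrictScalars B).comp f, t'', u, inferInstance, inferInstance, P'', hP'',
    ⟨hpo'', hf.comp hg, hle, .trans _ t _, hPt'', hass'', fun P₁ _ hP₁ hl => ?_⟩, hQ⟩
  refine hno (P₁.comap (algebraMap B' B'')) (le_trans hPP.over.le (Ideal.comap_mono hP₁)) ⟨?_⟩
  haveI : P₁.LiesOver t := .trans _ u _
  rw [Ideal.under_def, Ideal.comap_comap, ← IsScalarTower.algebraMap_eq]
  exact Ideal.LiesOver.over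

/-- An impurity descends to an intermediate base ring, as soon as the contracted point does not specialize. -/
theorem down (R' : Type u) [CommRing R'] [Algebra A R']
    {A'' B'' N'' : Type u} [CommRing A''] [CommRing B''] [Algebra A A''] [Algebra R' A''] [IsScalarTower A R' A'']
    [Algebra B B''] [Algebra A'' B'']
    [Algebra A B''] [IsScalarTower A B B''] [IsScalarTower A A'' B''] [AddCommGroup N''] [Module B'' N''] [Module B N'']
    [IsScalarTower B B'' N''] [Module A'' N''] [IsScalarTower A'' B'' N''] {f : N →ₗ[B] N''} {t'' u : Ideal A''}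
    [t''.IsPrime] [u.IsPrime] {P : Ideal B''} [P.IsPrime]
    (himp : _root_.FlatCA.IsImpurity A B N p A'' B'' N'' f t'' u P)
    (ψ : R' ⊗[A] B →+* B'') (hψ₁ : ∀ r : R', ψ (r ⊗ₜ 1) = algebraMap A'' B'' (algebraMap R' A'' r))
    (hψ₂ : ∀ b : B, ψ ((1 : R') ⊗ₜ b) = algebraMap B B'' b)
    (hno : ∀ (P₁ : Ideal (R' ⊗[A] B)) [P₁.IsPrime], P.comap ψ ≤ P₁ →
      ¬ P₁.LiesOver (u.comap (algebraMap R' A'')))
    (Q : ∀ (X : Type u) [CommRing X] [Algebra A X], Ideal X → Prop) (hQ : Q R' (u.comap (algebraMap R' A''))) :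
    _root_.FlatCA.HasImpurity A B N p Q := by
  obtain ⟨hpo, hf, hle, htp, hPt, hass, -⟩ := himp
  haveI := htp
  haveI := hPt
  let BR := R' ⊗[A] B
  letI : Algebra BR B'' := ψ.toAlgebra
  letI : Algebra R' B'' := ((algebraMap A'' B'').comp (algebraMap R' A'')).toAlgebra
  haveI : IsScalarTower R' A'' B'' := .of_algebraMap_eq' rfl
  haveI : IsScalarTower R' BR B'' := IsScalarTower.of_algebraMap_eq fun r => (hψ₁ r).symm
  haveI : IsScalarTower B BR B'' := IsScalarTower.of_algebraMap_eq fun b => (hψ₂ b).symm
  haveI : IsScalarTower A BR B'' := IsScalarTower.of_algebraMap_eq fun a => by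
    rw [IsScalarTower.algebraMap_apply A R' BR, ← IsScalarTower.algebraMap_apply R' BR B'',
      IsScalarTower.algebraMap_apply A A'' B'', IsScalarTower.algebraMap_apply A R' A'',
      ← IsScalarTower.algebraMap_apply R' A'' B'']
  haveI : Algebra.IsPushout A A'' B B'' := hpo.symm
  have hpoR : Algebra.IsPushout R' BR A'' B'' :=
    ((Algebra.IsPushout.comp_iff A R' B BR (T := A'')).1 ‹_›).symm
  let NR := BR ⊗[B] N
  letI : Module BR N'' := Module.compHom N'' (algebraMap BR B'')
  haveI : IsScalarTower BR B'' N'' := IsScalarTower.of_algebraMap_smul fun _ _ => rfl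
  haveI : IsScalarTower B BR N'' := IsScalarTower.of_algebraMap_smul fun b n => by
    show algebraMap BR B'' (algebraMap B BR b) • n = b • n
    rw [← IsScalarTower.algebraMap_apply B BR B'', algebraMap_smul]
  let fR : N →ₗ[B] NR := TensorProduct.mk B BR N 1
  have hfR : IsBaseChange BR fR := TensorProduct.isBaseChange B N BR
  have hg : IsBaseChange B'' (hfR.lift f) := (IsBaseChange.comp_iff hfR).1 (by rw [hfR.lift_comp]; exact hf)
  haveI : Algebra.FiniteType R' BR := Algebra.FiniteType.baseChange R' (A := B)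
  let tR := t''.comap (algebraMap R' A'')
  haveI : t''.LiesOver tR := ⟨rfl⟩
  obtain ⟨hlR, hassR⟩ := FibreDescend.assoc_comap hpoR (hfR.lift f) hg tR t'' P hass
  exact ⟨R', BR, NR, inferInstance, inferInstance, inferInstance, inferInstance, inferInstance, inferInstance,
    inferInstance, inferInstance, inferInstance, inferInstance, inferInstance, inferInstance, inferInstance,
    inferInstance, fR, tR, u.comap (algebraMap R' A''), inferInstance, inferInstance, P.comap ψ, inferInstance,
    ⟨inferInstance, hfR, Ideal.comap_mono hle, ⟨htp.over.trans (by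
      rw [Ideal.under_def, Ideal.under_def, Ideal.comap_comap, ← IsScalarTower.algebraMap_eq])⟩,
      hlR, hassR, fun P₁ _ hP₁ => hno P₁ hP₁⟩, hQ⟩

/-- The map from an intermediate base change. -/
theorem exists_hom (R' : Type u) [CommRing R'] [Algebra A R'] {A'' B'' : Type u} [CommRing A''] [CommRing B'']
    [Algebra A A''] [Algebra R' A''] [IsScalarTower A R' A''] [Algebra B B''] [Algebra A'' B'']
    [Algebra A B''] [IsScalarTower A B B''] [IsScalarTower A A'' B''] :
    ∃ ψ : R' ⊗[A] B →ₐ[A] B'', (∀ r : R', ψ (r ⊗ₜ 1) = algebraMap A'' B'' (algebraMap R' A'' r)) ∧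
      ∀ b : B, ψ ((1 : R') ⊗ₜ b) = algebraMap B B'' b :=
  ⟨Algebra.TensorProduct.lift ((IsScalarTower.toAlgHom A A'' B'').comp (IsScalarTower.toAlgHom A R' A''))
    (IsScalarTower.toAlgHom A B B'') fun _ _ => Commute.all _ _,
    fun r => by rw [Algebra.TensorProduct.lift_tmul, map_one, mul_one]; rfl,
    fun b => by rw [Algebra.TensorProduct.lift_tmul, map_one, one_mul]; rfl⟩

end Groth.Agent.Lib.FlatCA.ImpurityMove
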