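import Groth.Agent.Lib.FlatCA.ImpurityMove
import Groth.Agent.Lib.FlatCA.WeakAss
import Groth.Agent.S0389
import Mathlib.RingTheory.Jacobson.Ring
import Mathlib.RingTheory.ZariskisMainTheorem
import Mathlib.RingTheory.Ideal.KrullsHeightTheorem

/-!
# Reducing the base change of an impurity
-/

universe u

open TensorProduct

attribute [local instance] Algebra.TensorProduct.rightAlgebra

namespace Groth.Agent.Lib.FlatCA.ImpurityReduce

section Reduce

variable {A B : Type u} [CommRing A] [CommRing B] [Algebra A B] [Algebra.FiniteType A B]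
  {N : Type u} [AddCommGroup N] [Module B N] {p : Ideal A} [p.IsPrime]

/-- An impurity pulls back to any base change with compatible points, keeping the base change ring. -/
theorem up_exact {A' B' N' : Type u} [CommRing A'] [CommRing B'] [Algebra A A'] [Algebra B B'] [Algebra A' B']
    [Algebra A B'] [IsScalarTower A B B'] [IsScalarTower A A' B'] [AddCommGroup N'] [Module B' N'] [Module B N']
    [IsScalarTower B B' N'] [Module A' N'] [IsScalarTower A' B' N'] {f : N →ₗ[B] N'} {t' t : Ideal A'} [t'.IsPrime]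
    [t.IsPrime] {P : Ideal B'} [P.IsPrime] (himp : _root_.FlatCA.IsImpurity A B N p A' B' N' f t' t P)
    (A'' : Type u) [CommRing A''] [Algebra A A''] [Algebra A' A''] [IsScalarTower A A' A'']
    (t'' u : Ideal A'') [t''.IsPrime] [u.IsPrime] [t''.LiesOver t'] [u.LiesOver t] (hle : t'' ≤ u)
    : ∃ (B'' N'' : Type u) (_ : CommRing B'') (_ : Algebra B B'') (_ : Algebra A'' B'') (_ : Algebra A B'')
      (_ : IsScalarTower A B B'') (_ : IsScalarTower A A'' B'') (_ : AddCommGroup N'') (_ : Module B'' N'')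
      (_ : Module B N'') (_ : IsScalarTower B B'' N'') (_ : Module A'' N'') (_ : IsScalarTower A'' B'' N'')
      (f'' : N →ₗ[B] N'') (P'' : Ideal B'') (_ : P''.IsPrime),
      _root_.FlatCA.IsImpurity A B N p A'' B'' N'' f'' t'' u P'' := by
  obtain ⟨hpo, hf, -, htp, hPt, hass, hno⟩ := himp
  haveI := htp
  haveI := hPt
  haveI := hpo
  haveI : Algebra.IsPushout A A' B B' := hpo.symm
  let B'' := A'' ⊗[A'] B'
  letI : Algebra B B'' := ((algebraMap B' B'').comp (algebraMap B B')).toAlgebra
  haveI : IsScalarTower B B' B'' := .of_algebraMap_eq' rfl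
  haveI : IsScalarTower A B' B'' := IsScalarTower.of_algebraMap_eq fun a => by
    rw [IsScalarTower.algebraMap_apply A A' B', ← IsScalarTower.algebraMap_apply A' B' B'',
      ← IsScalarTower.algebraMap_apply A A' B'']
  haveI : IsScalarTower A B B'' := IsScalarTower.of_algebraMap_eq fun a => by
    rw [IsScalarTower.algebraMap_apply B B' B'', ← IsScalarTower.algebraMap_apply A B B',
      ← IsScalarTower.algebraMap_apply]
  let N'' := B'' ⊗[B'] N'
  let g : N' →ₗ[B'] N'' := TensorProduct.mk B' B'' N' 1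
  have hg : IsBaseChange B'' g := TensorProduct.isBaseChange B' N' B''
  have hpo' : Algebra.IsPushout A' B' A'' B'' := inferInstance
  have hpo'' : Algebra.IsPushout A B A'' B'' := (Algebra.IsPushout.comp_iff A A' B B' (T := A'') |>.2 hpo'.symm).symm
  haveI : Algebra.FiniteType A' B' := .equiv (Algebra.FiniteType.baseChange A' (A := B)) (Algebra.IsPushout.equiv A A' B B')
  haveI : Algebra.FiniteType A'' B'' := Algebra.FiniteType.baseChange A'' (A := B')
  obtain ⟨P'', hP'', hPP, hPt'', hass''⟩ := FibreAss.exists_assoc_over hpo' g hg t' t'' P hass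
  refine ⟨B'', N'', inferInstance, inferInstance, inferInstance, inferInstance, inferInstance, inferInstance,
    inferInstance, inferInstance, inferInstance, inferInstance, inferInstance, inferInstance,
    (g.restrictScalars B).comp f, P'', hP'', hpo'', hf.comp hg, hle, .trans _ t _, hPt'', hass'', fun P₁ _ hP₁ hl => ?_⟩
  refine hno (P₁.comap (algebraMap B' B'')) (le_trans hPP.over.le (Ideal.comap_mono hP₁)) ⟨?_⟩
  haveI : P₁.LiesOver t := .trans _ u _
  rw [Ideal.under_def, Ideal.comap_comap, ← IsScalarTower.algebraMap_eq]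
  exact Ideal.LiesOver.over

/-- An element of the extended ideal comes from a finitely generated part of the base. -/
theorem exists_rep {A' B' : Type u} [CommRing A'] [CommRing B'] [Algebra A A'] [Algebra B B'] [Algebra A' B']
    [Algebra A B'] [IsScalarTower A B B'] [IsScalarTower A A' B'] [Algebra.IsPushout A A' B B']
    (t : Ideal A') {τ : B'} (hτ : τ ∈ t.map (algebraMap A' B')) :
    ∃ (n : ℕ) (a : Fin n → A') (b : Fin n → B), (∀ i, a i ∈ t) ∧
      τ = ∑ i, algebraMap A' B' (a i) * algebraMap B B' (b i) := by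
  let S : AddSubmonoid B' :=
    { carrier := {x | ∃ (n : ℕ) (a : Fin n → A') (b : Fin n → B), (∀ i, a i ∈ t) ∧
        x = ∑ i, algebraMap A' B' (a i) * algebraMap B B' (b i)}
      zero_mem' := ⟨0, Fin.elim0, Fin.elim0, fun i => i.elim0, by simp⟩
      add_mem' := by
        rintro _ _ ⟨n, a, b, ha, rfl⟩ ⟨m, c, d, hc, rfl⟩
        refine ⟨n + m, Fin.append a c, Fin.append b d, fun i => ?_, ?_⟩
        · refine Fin.addCases (fun i => ?_) (fun i => ?_) i
          · rw [Fin.append_left]; exact ha i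
          · rw [Fin.append_right]; exact hc i
        · rw [Fin.sum_univ_add]
          simp [Fin.append_left, Fin.append_right] }
  have key : ∀ (a : A') (_ : a ∈ t) (x : B'), algebraMap A' B' a * x ∈ S := by
    intro a ha x
    induction x using (Algebra.IsPushout.out (R := A) (S := A') (R' := B) (S' := B')).inductionOn generalizing a with
    | zero => rw [mul_zero]; exact S.zero_mem
    | tmul b => exact ⟨1, fun _ => a, fun _ => b, fun _ => ha, by simp⟩
    | smul c x hx =>
      rw [Algebra.smul_def, ← mul_assoc, ← map_mul]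
      exact hx _ (Ideal.mul_mem_right c t ha)
    | add x y hx hy => rw [mul_add]; exact S.add_mem (hx a ha) (hy a ha)
  suffices ∀ x : B', x * τ ∈ S by
    have h := this 1
    rwa [one_mul] at h
  induction hτ using Submodule.span_induction with
  | mem y hy =>
    obtain ⟨a, ha, rfl⟩ := hy
    exact fun x => mul_comm x _ ▸ key a ha x
  | zero => exact fun x => (mul_zero x).symm ▸ S.zero_mem
  | add a b _ _ ha hb => exact fun x => (mul_add x a b).symm ▸ S.add_mem (ha x) (hb x)
  | smul c a _ ha => exact fun x => by rw [smul_eq_mul, ← mul_assoc]; exact ha _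

/-- An impurity can be found over a finitely presented base change ring, at a closed point of the fibre. -/
theorem exists_fp_closed (h : _root_.FlatCA.HasImpurity A B N p (fun _ _ _ _ => True)) :
    _root_.FlatCA.HasImpurity A B N p (fun A' _ _ t => ∃ _ : t.IsPrime, Algebra.FinitePresentation A A' ∧
      (_root_.FlatCA.fiberIdeal p t).IsMaximal) := by
  classical
  obtain ⟨A₁, B₁, N₁, _, _, _, _, _, _, _, _, _, _, _, _, _, _, f₁, t₁', t₁, _, _, P₁, _, himp, -⟩ := h
  haveI : Algebra.IsPushout A A₁ B B₁ := himp.1.symm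
  obtain ⟨s, hs, τ, hτ, hmem⟩ : ∃ s ∉ t₁, ∃ τ ∈ t₁.map (algebraMap A₁ B₁), algebraMap A₁ B₁ s + τ ∈ P₁ := by
    by_contra hcon
    push Not at hcon
    obtain ⟨P', hP', hle, hl⟩ := Impurity.exists_prime_over t₁ P₁ hcon
    exact himp.2.2.2.2.2.2 P' hle hl
  obtain ⟨n, a, b, ha, rfl⟩ := exists_rep (A := A) (B := B) t₁ hτ
  let A₀ := MvPolynomial (Option (Fin n)) A
  let π : A₀ →ₐ[A] A₁ := MvPolynomial.aeval fun o => o.elim s a
  letI : Algebra A₀ A₁ := π.toRingHom.toAlgebra
  haveI : IsScalarTower A A₀ A₁ := IsScalarTower.of_algebraMap_eq fun x => (π.commutes x).symm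
  have hπ : ∀ o, algebraMap A₀ A₁ (MvPolynomial.X o) = o.elim s a := fun o => MvPolynomial.aeval_X _ o
  let t₀ := t₁.comap (algebraMap A₀ A₁)
  let z : A₀ ⊗[A] B := MvPolynomial.X none ⊗ₜ 1 + ∑ i : Fin n, MvPolynomial.X (some i) ⊗ₜ b i
  obtain ⟨ψ, hψ₁, hψ₂⟩ : ∃ ψ : A₀ ⊗[A] B →ₐ[A] B₁,
      (∀ r : A₀, ψ (r ⊗ₜ 1) = algebraMap A₁ B₁ (algebraMap A₀ A₁ r)) ∧
      ∀ x : B, ψ ((1 : A₀) ⊗ₜ x) = algebraMap B B₁ x := ImpurityMove.exists_hom A₀
  have hz : z ∈ (P₁.comap ψ.toRingHom) := by
    rw [Ideal.mem_comap]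
    convert hmem using 1
    show ψ z = _
    simp only [z, map_add, map_sum]
    rw [hψ₁, hπ]
    refine congrArg _ (Finset.sum_congr rfl fun i _ => ?_)
    rw [show (MvPolynomial.X (some i) : A₀) ⊗ₜ[A] b i = (MvPolynomial.X (some i) ⊗ₜ 1) * ((1 : A₀) ⊗ₜ b i) by simp,
      map_mul, hψ₁, hψ₂, hπ]
    rfl
  have hdown := ImpurityMove.down A₀ himp ψ.toRingHom hψ₁ hψ₂ (fun Q₁ hQ₁ hle₁ hl₁ => by
      have h1 : ∀ i : Fin n, (MvPolynomial.X (some i) : A₀) ⊗ₜ[A] b i ∈ Q₁ := fun i => by
        rw [show (MvPolynomial.X (some i) : A₀) ⊗ₜ[A] b i = (MvPolynomial.X (some i) ⊗ₜ 1) * ((1 : A₀) ⊗ₜ b i) by simp]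
        refine Q₁.mul_mem_right _ ((Ideal.mem_of_liesOver Q₁ t₀ _).1 ?_)
        show algebraMap A₀ A₁ (MvPolynomial.X (some i)) ∈ t₁
        rw [hπ]
        exact ha i
      have h2 : algebraMap A₀ (A₀ ⊗[A] B) (MvPolynomial.X none) ∈ Q₁ :=
        (add_mem_cancel_right (sum_mem fun i _ => h1 i)).1 (hle₁ hz)
      have h3 : algebraMap A₀ A₁ (MvPolynomial.X none) ∈ t₁ := (Ideal.mem_of_liesOver Q₁ t₀ _).2 h2
      rw [hπ] at h3
      exact hs h3)
    (fun X _ _ v => Algebra.FinitePresentation A X ∧ ∃ s₀, s₀ ∉ v) ⟨inferInstance, MvPolynomial.X none, fun h => hs (by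
      rw [Ideal.mem_comap, hπ] at h
      exact h)⟩
  obtain ⟨A₂, B₂, N₂, _, _, _, _, _, _, _, _, _, _, _, _, _, _, f₂, t₂', t₂, _, ht₂, P₂, _, himp₂, hfp, -⟩ := hdown
  obtain ⟨hpo₂, hf₂, hle₂, htp₂, hPt₂, hass₂, hno₂⟩ := himp₂
  obtain ⟨s₂, hs₂, τ₂, hτ₂, hmem₂⟩ : ∃ s ∉ t₂, ∃ τ ∈ t₂.map (algebraMap A₂ B₂), algebraMap A₂ B₂ s + τ ∈ P₂ := by
    by_contra hcon
    push Not at hcon
    obtain ⟨P', hP', hle, hl⟩ := Impurity.exists_prime_over t₂ P₂ hcon
    exact hno₂ P' hle hl
  haveI := htp₂
  haveI : Algebra.FiniteType A A₂ := .of_finitePresentation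
  haveI : IsJacobsonRing (p.Fiber A₂) := isJacobsonRing_of_finiteType (A := p.ResidueField)
  obtain ⟨hT, hTc⟩ := WeakAss.fiberIdeal_prime p t₂
  obtain ⟨m, ⟨hTm, hm⟩, hsm⟩ : ∃ m ∈ {J : Ideal (p.Fiber A₂) | _root_.FlatCA.fiberIdeal p t₂ ≤ J ∧ J.IsMaximal},
      Impurity.incl p s₂ ∉ m := by
    by_contra hcon
    push Not at hcon
    have h1 : Impurity.incl p s₂ ∈ (_root_.FlatCA.fiberIdeal p t₂).jacobson := Ideal.mem_sInf.2 fun {J} hJ => hcon J hJ
    rw [IsJacobsonRing.out' _ hT.isRadical, ← Ideal.mem_comap, hTc] at h1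
    exact hs₂ h1
  haveI := hm
  let w := m.comap (Impurity.incl p)
  haveI : w.LiesOver p := FibreAss.liesOver_comap p m
  have htw : t₂ ≤ w := hTc.ge.trans (Ideal.comap_mono hTm)
  have hno : ∀ (P' : Ideal B₂) [P'.IsPrime], P₂ ≤ P' → ¬ P'.LiesOver w := fun P' _ hle hl => by
    haveI := hl
    refine hsm ((Ideal.mem_of_liesOver P' w s₂).2 ?_)
    refine (add_mem_cancel_right ?_).1 (hle hmem₂)
    exact (Ideal.map_le_iff_le_comap.2 fun x hx => (Ideal.mem_of_liesOver P' w x).1 (htw hx)) hτ₂
  exact ⟨A₂, B₂, N₂, inferInstance, inferInstance, inferInstance, inferInstance, inferInstance, inferInstance,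
    inferInstance, inferInstance, inferInstance, inferInstance, inferInstance, inferInstance, inferInstance,
    inferInstance, f₂, t₂', w, inferInstance, inferInstance, P₂, inferInstance,
    ⟨hpo₂, hf₂, hle₂.trans htw, inferInstance, hPt₂, hass₂, hno⟩, inferInstance, hfp, by
      show (w.map (Impurity.incl p)).IsMaximal
      rw [WeakAss.map_comap_incl]
      exact hm⟩

/-- There are no impurities whose specialization happens inside one fibre. -/
theorem not_liesOver [Module A N] [IsScalarTower A B N] {A' B' N' : Type u} [CommRing A'] [CommRing B'] [Algebra A A']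
    [Algebra B B'] [Algebra A' B'] [Algebra A B'] [IsScalarTower A B B'] [IsScalarTower A A' B'] [AddCommGroup N']
    [Module B' N'] [Module B N'] [IsScalarTower B B' N'] [Module A' N'] [IsScalarTower A' B' N'] {f : N →ₗ[B] N'}
    {t' t : Ideal A'} [t'.IsPrime] [t.IsPrime] {P : Ideal B'} [P.IsPrime]
    (himp : _root_.FlatCA.IsImpurity A B N p A' B' N' f t' t P) : ¬ t'.LiesOver p := by
  intro hl
  haveI := himp.2.2.2.1
  obtain ⟨hp1, hc1⟩ := WeakAss.fiberIdeal_prime p t'
  obtain ⟨hp2, hc2⟩ := WeakAss.fiberIdeal_prime p t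
  haveI := hp1
  haveI := hp2
  haveI : IsScalarTower A A' (p.Fiber A') := IsScalarTower.of_algebraMap_eq fun a =>
    ((Algebra.TensorProduct.includeRight (R := A) (A := p.ResidueField) (B := A')).commutes a).symm
  haveI : (_root_.FlatCA.fiberIdeal p t').LiesOver t' := ⟨hc1.symm⟩
  haveI : (_root_.FlatCA.fiberIdeal p t).LiesOver t := ⟨hc2.symm⟩
  obtain ⟨B'', N'', _, _, _, _, _, _, _, _, _, _, _, _, f'', P'', _, hpo, hf, hle, -, -, hass, hno⟩ :=
    up_exact himp (p.Fiber A') (_root_.FlatCA.fiberIdeal p t') (_root_.FlatCA.fiberIdeal p t) (Ideal.map_mono himp.2.2.1)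
  haveI : Module.Free p.ResidueField (p.ResidueField ⊗[A] N) := Module.Free.of_divisionRing _ _
  haveI : Module.Projective (p.Fiber A') N'' :=
    Module.Projective.of_equiv ((Impurity.baseChangeEquiv hpo f'' hf).trans
      (AlgebraTensorModule.cancelBaseChange A p.ResidueField (p.Fiber A') (p.Fiber A') N).symm).symm
  obtain ⟨P', hP', hPP', hl'⟩ := Impurity.exists_prime_over_of_projective (N := N'') hle hass
  exact hno P' hPP' hl'

end Reduce

section Generic

/-- A map with flat cokernel stays injective. -/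
theorem lTensor_injective_of_split {R : Type u} [CommRing R] (L : Type u) [CommRing L] [Algebra R L] [Module.Flat R L]
    {X M : Type u} [AddCommGroup X] [Module R X] [AddCommGroup M] [Module R M] (ι : X →ₗ[R] M)
    (hι : Function.Injective ι) [Module.Projective L (L ⊗[R] (M ⧸ LinearMap.range ι))]
    (Q : Type u) [AddCommGroup Q] [Module R Q] [Module L Q] [IsScalarTower R L Q] :
    Function.Injective (ι.lTensor Q) := by
  let i := ι.baseChange L
  let π := (LinearMap.range ι).mkQ.baseChange L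
  have hi : Function.Injective i := Module.Flat.lTensor_preserves_injective_linearMap ι hι
  have hex : Function.Exact i π := lTensor_exact L (fun y => by
    rw [Submodule.mkQ_apply, Submodule.Quotient.mk_eq_zero]; rfl) (Submodule.mkQ_surjective _)
  have hπ : Function.Surjective π := LinearMap.lTensor_surjective L (Submodule.mkQ_surjective _)
  obtain ⟨σ, hσ⟩ := Module.projective_lifting_property π LinearMap.id hπ
  let e := LinearEquiv.ofInjective i hi
  let r : L ⊗[R] M →ₗ[L] L ⊗[R] X := e.symm.toLinearMap.comp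
    ((LinearMap.id - σ.comp π).codRestrict (LinearMap.range i) fun y => (hex _).1 (by
      rw [LinearMap.sub_apply, LinearMap.id_apply, LinearMap.comp_apply, map_sub]
      exact sub_eq_zero.2 (LinearMap.congr_fun hσ (π y)).symm))
  have hr : r.comp i = LinearMap.id := LinearMap.ext fun x => by
    show e.symm _ = x
    rw [LinearEquiv.symm_apply_eq]
    refine Subtype.ext ?_
    show i x - σ (π (i x)) = i x
    rw [(hex _).2 ⟨x, rfl⟩, map_zero, sub_zero]
  have h2 : Function.Injective (i.lTensor Q) := fun a b hab => by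
    have := congrArg (r.lTensor Q) hab
    rwa [← LinearMap.lTensor_comp_apply, ← LinearMap.lTensor_comp_apply, hr, LinearMap.lTensor_id,
      LinearMap.id_apply, LinearMap.id_apply] at this
  have hcancel : ∀ y : Q ⊗[L] (L ⊗[R] X), AlgebraTensorModule.cancelBaseChange R L L Q M (i.lTensor Q y) =
      ι.lTensor Q (AlgebraTensorModule.cancelBaseChange R L L Q X y) := by
    intro y
    induction y using TensorProduct.induction_on with
    | zero => simp
    | add a b ha hb => simp only [map_add, ha, hb]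
    | tmul q v =>
      induction v using TensorProduct.induction_on with
      | zero => simp
      | add a b ha hb => simp only [TensorProduct.tmul_add, map_add, ha, hb]
      | tmul s n => simp [i]
  intro a b hab
  apply (AlgebraTensorModule.cancelBaseChange R L L Q X).symm.injective
  apply h2
  apply (AlgebraTensorModule.cancelBaseChange R L L Q M).injective
  rw [hcancel, hcancel, LinearEquiv.apply_symm_apply, LinearEquiv.apply_symm_apply, hab]

variable {R S : Type u} [CommRing R] [IsDomain R] [IsNoetherianRing R] [CommRing S] [Algebra R S]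
  [Algebra.FiniteType R S] {M : Type u} [AddCommGroup M] [Module S M] [Module R M] [IsScalarTower R S M]
  [Module.Finite S M]

/-- An associated point of the generic fibre spreads out to associated points of nearby fibres. -/
theorem exists_generic (P : Ideal S) [P.IsPrime] [P.LiesOver (⊥ : Ideal R)]
    (hass : _root_.FlatCA.fiberIdeal (⊥ : Ideal R) P ∈
      associatedPrimes ((⊥ : Ideal R).Fiber S) (_root_.FlatCA.fiberMod (⊥ : Ideal R) S M)) :
    ∃ f : R, f ≠ 0 ∧ ∀ (q : Ideal R) [q.IsPrime], f ∉ q →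
      ∃ (P₁ : Ideal S) (_ : P₁.IsPrime), P ≤ P₁ ∧ P₁.LiesOver q ∧
        _root_.FlatCA.fiberIdeal q P₁ ∈ associatedPrimes (q.Fiber S) (_root_.FlatCA.fiberMod q S M) := by
  classical
  haveI : IsNoetherianRing S := Algebra.FiniteType.isNoetherianRing R S
  let K := (⊥ : Ideal R).ResidueField
  have hinj : ∀ r : R, algebraMap R K r = 0 ↔ r = 0 := fun r => Ideal.algebraMap_residueField_eq_zero.trans (Submodule.mem_bot R)
  have hK : ∀ r : R, r ≠ 0 → ∀ y : M ⊗[R] K, algebraMap R S r • y = 0 → y = 0 := fun r hr y hy => by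
    have hu : IsUnit (algebraMap R K r) := isUnit_iff_ne_zero.2 fun h => hr ((hinj r).1 h)
    let e := LinearEquiv.lTensor M ((LinearEquiv.smulOfUnit hu.unit (R := K) (M := K)).restrictScalars R)
    have he : ∀ z : M ⊗[R] K, e z = algebraMap R S r • z := fun z => by
      induction z using TensorProduct.induction_on with
      | zero => simp
      | add a b ha hb => rw [map_add, ha, hb, smul_add]
      | tmul a b =>
        rw [algebraMap_smul, ← TensorProduct.tmul_smul, Algebra.smul_def]
        rfl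
    exact e.map_eq_zero_iff.1 ((he y).trans hy)
  -- a section with annihilator `P`
  obtain ⟨-, z, hz⟩ := (FibreAss.assoc_iff M (⊥ : Ideal R) P).1 hass
  obtain ⟨w, hw⟩ := Submodule.exists_eq_colon_of_mem_minimalPrimes
    (show P ∈ (Submodule.colon (⊥ : Submodule S (_root_.FlatCA.fiberMod (⊥ : Ideal R) S M)) {z}).minimalPrimes by
      rw [← Ideal.radical_minimalPrimes, ← hz, Ideal.minimalPrimes_eq_subsingleton_self]
      rfl)
  let y := FiberMod.fiberModEquiv (⊥ : Ideal R) S M w
  obtain ⟨s, hs, x, hx⟩ : ∃ s : R, s ≠ 0 ∧ ∃ x : M, algebraMap R S s • y = x ⊗ₜ[R] (1 : K) := by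
    generalize y = y
    induction y using TensorProduct.induction_on with
    | zero => exact ⟨1, one_ne_zero, 0, by rw [smul_zero, TensorProduct.zero_tmul]⟩
    | add a b ha hb =>
      obtain ⟨c, hc, x, hx⟩ := ha
      obtain ⟨d, hd, x', hx'⟩ := hb
      refine ⟨c * d, mul_ne_zero hc hd, algebraMap R S d • x + algebraMap R S c • x', ?_⟩
      rw [map_mul, smul_add, TensorProduct.add_tmul, ← TensorProduct.smul_tmul', ← TensorProduct.smul_tmul',
        ← hx, ← hx', smul_smul, smul_smul, mul_comm (algebraMap R S d)]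
    | tmul m k =>
      obtain ⟨a, b, hb, rfl⟩ := IsFractionRing.div_surjective (A := R ⧸ (⊥ : Ideal R)) k
      obtain ⟨a, rfl⟩ := Ideal.Quotient.mk_surjective a
      obtain ⟨b, rfl⟩ := Ideal.Quotient.mk_surjective b
      have hb' : b ≠ 0 := fun h => nonZeroDivisors.ne_zero hb (by rw [h, map_zero])
      refine ⟨b, hb', a • m, ?_⟩
      rw [algebraMap_smul, ← TensorProduct.tmul_smul, TensorProduct.smul_tmul, Algebra.smul_def a (1 : K), mul_one,
        Algebra.smul_def b]
      congr 1
      rw [← Ideal.Quotient.algebraMap_eq, ← IsScalarTower.algebraMap_apply, ← IsScalarTower.algebraMap_apply,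
        mul_div_assoc', mul_div_cancel_left₀ _ fun h => hb' ((hinj b).1 h)]
  have hP : ∀ b : S, b ∈ P ↔ b • (x ⊗ₜ[R] (1 : K)) = 0 := fun b => by
    rw [← hx, smul_comm, hw, Submodule.mem_colon_singleton, Submodule.mem_bot]
    refine ⟨fun h => ?_, fun h => ?_⟩
    · rw [show b • y = 0 from by rw [← map_smul, h, map_zero], smul_zero]
    · exact (FiberMod.fiberModEquiv (⊥ : Ideal R) S M).map_eq_zero_iff.1 (by rw [map_smul]; exact hK s hs _ h)
  have hkill : ∀ b ∈ P, ∃ a : R, a ≠ 0 ∧ a • b • x = 0 := fun b hb => by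
    haveI : FaithfulSMul R K := (faithfulSMul_iff_algebraMap_injective R K).2
      ((injective_iff_map_eq_zero _).2 fun r hr => (hinj r).1 hr)
    haveI : IsFractionRing R K := IsFractionRing.of_field R K fun z => by
      obtain ⟨a, b, -, rfl⟩ := IsFractionRing.div_surjective (A := R ⧸ (⊥ : Ideal R)) z
      obtain ⟨a, rfl⟩ := Ideal.Quotient.mk_surjective a
      obtain ⟨b, rfl⟩ := Ideal.Quotient.mk_surjective b
      exact ⟨a, b, by simp [← Ideal.Quotient.algebraMap_eq, ← IsScalarTower.algebraMap_apply]⟩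
    haveI : Module.Flat R K := IsLocalization.flat K (nonZeroDivisors R)
    have h1 : (1 : K) ⊗ₜ[R] (b • x) = 0 := by
      apply (TensorProduct.comm R K M).injective
      rw [TensorProduct.comm_tmul, map_zero, ← TensorProduct.smul_tmul', (hP b).1 hb]
    obtain ⟨a, ha, ha'⟩ := WeakAss.exists_kill_of_flat (b • x) h1 (⊥ : Ideal R) (⊥ : Ideal K)
      (Ideal.ext fun r => by rw [Ideal.mem_comap, Submodule.mem_bot, hinj, Submodule.mem_bot])
    exact ⟨a, fun h => ha (h ▸ zero_mem _), ha'⟩
  choose! a ha₀ ha using hkill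
  obtain ⟨gs, hgs⟩ := (isNoetherian_def.1 inferInstance) P
  let a₀ := ∏ g ∈ gs, a g
  have hgsP : ∀ g ∈ gs, g ∈ P := fun g hg => hgs ▸ Submodule.subset_span hg
  have ha₀' : a₀ ≠ 0 := Finset.prod_ne_zero_iff.2 fun g hg => ha₀ g (hgsP g hg)
  let x₀ := algebraMap R S a₀ • x
  have hx₀ : ∀ b : S, b • x₀ = 0 ↔ b ∈ P := fun b => by
    refine ⟨fun h => (hP b).2 (hK a₀ ha₀' _ ?_), fun h => ?_⟩
    · rw [smul_comm, TensorProduct.smul_tmul', TensorProduct.smul_tmul', h, TensorProduct.zero_tmul]
    · rw [← hgs] at h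
      induction h using Submodule.span_induction with
      | mem g hg =>
        rw [smul_comm, algebraMap_smul]
        obtain ⟨c, hc⟩ := Finset.dvd_prod_of_mem a hg
        show a₀ • g • x = 0
        rw [show a₀ = c * a g by rw [mul_comm]; exact hc, mul_smul, ha g (hgsP g hg), smul_zero]
      | zero => exact zero_smul _ _
      | add c d _ _ hc hd => rw [add_smul, hc, hd, add_zero]
      | smul c d _ hd => rw [smul_eq_mul, mul_smul, hd, smul_zero]
  let ι : (S ⧸ P) →ₗ[S] M := Submodule.liftQ P (LinearMap.toSpanSingleton S M x₀) fun b hb =>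
    LinearMap.mem_ker.2 ((hx₀ b).2 hb)
  have hι : Function.Injective ι := LinearMap.ker_eq_bot.1 (Submodule.ker_liftQ_eq_bot _ _ _ fun b hb =>
    (hx₀ b).1 (LinearMap.mem_ker.1 hb))
  obtain ⟨f₁, hf₁, hfree₁, -⟩ := Groth.Agent.S0389.result (R := R) (S := S) (M := M ⧸ LinearMap.range ι)
  obtain ⟨f₂, hf₂, hfree₂, -⟩ := Groth.Agent.S0389.result (R := R) (S := S) (M := S ⧸ P)
  refine ⟨f₁ * f₂, mul_ne_zero hf₁ hf₂, fun q _ hq => ?_⟩
  have hq₁ : f₁ ∉ q := fun h => hq (q.mul_mem_right _ h)
  have hq₂ : f₂ ∉ q := fun h => hq (q.mul_mem_left _ h)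
  let k := q.ResidueField
  have halg : ∀ g, g ∉ q → ∃ φ : Localization.Away g →ₐ[R] k, True := fun g hg =>
    ⟨IsLocalization.Away.liftAlgHom g (f := Algebra.ofId R k)
      (isUnit_iff_ne_zero.2 fun h => hg (Ideal.algebraMap_residueField_eq_zero.1 h)), trivial⟩
  have hinjk : Function.Injective ((ι.restrictScalars R).lTensor k) := by
    obtain ⟨φ, -⟩ := halg f₁ hq₁
    letI := φ.toRingHom.toAlgebra
    haveI : IsScalarTower R (Localization.Away f₁) k := IsScalarTower.of_algebraMap_eq fun r => (φ.commutes r).symm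
    haveI : Module.Flat R (Localization.Away f₁) := IsLocalization.flat _ (Submonoid.powers f₁)
    haveI : Module.Projective (Localization.Away f₁) (Localization.Away f₁ ⊗[R] (M ⧸ LinearMap.range (ι.restrictScalars R))) :=
      Module.Projective.of_equiv (LinearEquiv.baseChange R (Localization.Away f₁) _ _
        (Submodule.Quotient.restrictScalarsEquiv R (LinearMap.range ι))).symm
    exact lTensor_injective_of_split (Localization.Away f₁) (ι.restrictScalars R) hι k
  have hne : Nontrivial ((S ⧸ P) ⊗[R] k) := by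
    obtain ⟨φ, -⟩ := halg f₂ hq₂
    letI := φ.toRingHom.toAlgebra
    haveI : IsScalarTower R (Localization.Away f₂) k := IsScalarTower.of_algebraMap_eq fun r => (φ.commutes r).symm
    let L := Localization.Away f₂
    haveI : Module.Flat R L := IsLocalization.flat _ (Submonoid.powers f₂)
    let bas := Module.Free.chooseBasis L (L ⊗[R] (S ⧸ P))
    have hnt : Nontrivial (L ⊗[R] (S ⧸ P)) := by
      refine ⟨⟨(1 : L) ⊗ₜ 1, 0, fun h => ?_⟩⟩
      have hd : Disjoint (Submonoid.powers f₂ : Set R) ↑(⊥ : Ideal R) := by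
        rw [Ideal.disjoint_powers_iff_notMem_of_isPrime]
        simpa using hf₂
      haveI := IsLocalization.isPrime_of_isPrime_disjoint (.powers f₂) L (⊥ : Ideal R) inferInstance hd
      obtain ⟨w, hw, hw'⟩ := WeakAss.exists_kill_of_flat (1 : S ⧸ P) h (⊥ : Ideal R) ((⊥ : Ideal R).map (algebraMap R L))
        ((IsLocalization.liesOver_map_of_isPrime_disjoint (.powers f₂) L hd).over.symm)
      refine hw ((Ideal.mem_of_liesOver P (⊥ : Ideal R) w).2 (Ideal.Quotient.eq_zero_iff_mem.1 ?_))
      rw [← hw', Algebra.smul_def, mul_one]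
      rfl
    obtain ⟨i⟩ := bas.index_nonempty
    have h1 : Nontrivial (k ⊗[L] (L ⊗[R] (S ⧸ P))) :=
      ⟨⟨(Algebra.TensorProduct.basis k bas) i, 0, Module.Basis.ne_zero _ i⟩⟩
    exact ((AlgebraTensorModule.cancelBaseChange R L L k (S ⧸ P)).toEquiv.trans
      (TensorProduct.comm R k (S ⧸ P)).toEquiv).symm.nontrivial
  let j : (S ⧸ P) ⊗[R] k →ₗ[S] M ⊗[R] k := AlgebraTensorModule.map ι LinearMap.id
  have hj : Function.Injective j := by
    have h := (LinearMap.lTensor_inj_iff_rTensor_inj k (ι.restrictScalars R)).1 hinjk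
    exact fun a b hab => h hab
  obtain ⟨P₁, hP₁⟩ := associatedPrimes.nonempty S ((S ⧸ P) ⊗[R] k)
  obtain ⟨hP₁p, z₁, hz₁⟩ := hP₁
  haveI := hP₁p
  have hkp : ∀ r : R, r ∈ q → ∀ u : (S ⧸ P) ⊗[R] k, algebraMap R S r • u = 0 := fun r hr u => by
    induction u using TensorProduct.induction_on with
    | zero => simp
    | add a b ha hb => rw [smul_add, ha, hb, add_zero]
    | tmul a b =>
      rw [algebraMap_smul, ← TensorProduct.tmul_smul, Algebra.smul_def,
        Ideal.algebraMap_residueField_eq_zero.2 hr, zero_mul, TensorProduct.tmul_zero]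
  have hle : P ≤ P₁ := fun b hb => by
    rw [hz₁]
    refine Ideal.le_radical ?_
    rw [Submodule.mem_colon_singleton, Submodule.mem_bot]
    generalize z₁ = u
    induction u using TensorProduct.induction_on with
    | zero => simp
    | add a c ha hc => rw [smul_add, ha, hc, add_zero]
    | tmul a c =>
      obtain ⟨a, rfl⟩ := Ideal.Quotient.mk_surjective a
      rw [TensorProduct.smul_tmul', show b • (Ideal.Quotient.mk P a : S ⧸ P) = 0 from
        Ideal.Quotient.eq_zero_iff_mem.2 (P.mul_mem_right a hb), TensorProduct.zero_tmul]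
  haveI hlq : P₁.LiesOver q := ⟨le_antisymm (fun r hr => by
      show algebraMap R S r ∈ P₁
      rw [hz₁]
      refine Ideal.le_radical ?_
      rw [Submodule.mem_colon_singleton, Submodule.mem_bot]
      exact hkp r hr z₁) fun r hr => by
    by_contra hrq
    have hu : IsUnit (algebraMap R k r) := isUnit_iff_ne_zero.2 fun h => hrq (Ideal.algebraMap_residueField_eq_zero.1 h)
    let e := LinearEquiv.lTensor (S ⧸ P) ((LinearEquiv.smulOfUnit hu.unit (R := k) (M := k)).restrictScalars R)
    have he : ∀ z : (S ⧸ P) ⊗[R] k, e z = algebraMap R S r • z := fun z => by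
      induction z using TensorProduct.induction_on with
      | zero => simp
      | add a b ha hb => rw [map_add, ha, hb, smul_add]
      | tmul a b =>
        rw [algebraMap_smul, ← TensorProduct.tmul_smul, Algebra.smul_def]
        rfl
    have hr' : algebraMap R S r ∈ P₁ := hr
    rw [hz₁] at hr'
    obtain ⟨n, hn⟩ := hr'
    rw [Submodule.mem_colon_singleton, Submodule.mem_bot] at hn
    have hz0 : z₁ = 0 := by
      induction n with
      | zero => rwa [pow_zero, one_smul] at hn
      | succ n ih =>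
        rw [pow_succ', mul_smul] at hn
        exact ih (e.map_eq_zero_iff.1 ((he _).trans hn))
    exact hP₁p.ne_top (hz₁.trans (Ideal.radical_eq_top.2 (Submodule.colon_eq_top_iff_subset _ |>.2 (by
      rw [hz0]; simp))))⟩
  refine ⟨P₁, hP₁p, hle, hlq, (FibreAss.assoc_iff M q P₁).2 ⟨hP₁p, (FiberMod.fiberModEquiv q S M).symm (j z₁), ?_⟩⟩
  rw [hz₁]
  congr 1
  ext b
  simp only [Submodule.mem_colon_singleton, Submodule.mem_bot]
  rw [← map_smul, ← map_smul, LinearEquiv.map_eq_zero_iff, map_eq_zero_iff j hj]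

end Generic

section Dim

variable {R : Type u} [CommRing R] [IsDomain R] [IsNoetherianRing R]

/-- Below a prime containing `f ≠ 0` there is a prime avoiding `f` with nothing strictly between. -/
theorem exists_prime_avoiding (u : Ideal R) [u.IsPrime] {f : R} (hf : f ≠ 0) (hfu : f ∈ u) :
    ∃ q : Ideal R, q.IsPrime ∧ q ≤ u ∧ f ∉ q ∧ ∀ w : Ideal R, w.IsPrime → q < w → w ≤ u → w = u := by
  obtain ⟨q, ⟨hq, hqu, hfq⟩, hmax⟩ := set_has_maximal_iff_noetherian.2 inferInstance
    {I : Ideal R | I.IsPrime ∧ I ≤ u ∧ f ∉ I} ⟨⊥, Ideal.isPrime_bot, bot_le, by simpa using hf⟩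
  refine ⟨q, hq, hqu, hfq, fun w hw hqw hwu => ?_⟩
  haveI := hq
  have hfw : ∀ v : Ideal R, v.IsPrime → q < v → v ≤ u → f ∈ v := fun v hv hqv hvu => by
    by_contra hfv
    exact hmax v ⟨hv, hvu, hfv⟩ hqv
  let mk := Ideal.Quotient.mk q
  let f' := mk f
  have hf' : f' ≠ 0 := fun h => hfq (Ideal.Quotient.eq_zero_iff_mem.1 h)
  have hmap : ∀ v : Ideal R, v.IsPrime → q ≤ v → (v.map mk).IsPrime ∧ (v.map mk).comap mk = v := fun v hv hqv => by
    refine ⟨haveI := hv; Ideal.map_isPrime_of_surjective Ideal.Quotient.mk_surjective (by rwa [Ideal.mk_ker]), ?_⟩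
    rw [Ideal.comap_map_of_surjective _ Ideal.Quotient.mk_surjective, ← RingHom.ker_eq_comap_bot, Ideal.mk_ker]
    exact sup_eq_left.2 hqv
  obtain ⟨hu', hu''⟩ := hmap u inferInstance hqu
  obtain ⟨hw', hw''⟩ := hmap w hw hqw.le
  haveI := hu'
  haveI := hw'
  have hcontains : ∀ v : Ideal (R ⧸ q), v.IsPrime → v ≠ ⊥ → v ≤ u.map mk → f' ∈ v := fun v hv hne hvu => by
    refine hfw (v.comap mk) (Ideal.IsPrime.comap _) (lt_of_le_of_ne ?_ ?_) ((Ideal.comap_mono hvu).trans hu''.le)
    · intro x hx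
      rw [Ideal.mem_comap, show mk x = 0 from Ideal.Quotient.eq_zero_iff_mem.2 hx]
      exact zero_mem _
    · intro h
      refine hne (Ideal.comap_injective_of_surjective mk Ideal.Quotient.mk_surjective (h.symm.trans ?_))
      rw [← RingHom.ker_eq_comap_bot, Ideal.mk_ker]
  have hone : ∀ v v₀ : Ideal (R ⧸ q), v.IsPrime → v₀.IsPrime → v.height ≤ 1 → v₀ < v → v₀ = ⊥ := fun v v₀ hv hv₀ hh hlt => by
    by_contra hne
    haveI : (⊥ : Ideal (R ⧸ q)).IsPrime := Ideal.isPrime_bot
    have h1 : (⊥ : Ideal (R ⧸ q)).height < v₀.height :=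
      Ideal.height_strict_mono_of_isPrime (bot_lt_iff_ne_bot.2 hne)
    have h2 : v₀.height < v.height := haveI := hv; haveI := hv₀; Ideal.height_strict_mono_of_isPrime hlt
    have h3 : v₀.height < 1 := h2.trans_le hh
    rw [Order.lt_one_iff] at h3
    rw [h3] at h1
    exact not_lt_bot h1
  let S₀ := (Ideal.span {f'}).minimalPrimes
  have hS₀ : S₀.Finite := Ideal.finite_minimalPrimes_of_isNoetherianRing _ _
  have hsub : (u.map mk : Set (R ⧸ q)) ⊆ ⋃ v ∈ (↑hS₀.toFinset : Set (Ideal (R ⧸ q))), (v : Set (R ⧸ q)) := by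
    have hfu' : f' ∈ u.map mk := Ideal.mem_map_of_mem _ hfu
    intro x hx
    by_cases hx0 : x = 0
    · obtain ⟨v, hv, -⟩ := Ideal.exists_minimalPrimes_le (I := Ideal.span {f'}) (J := u.map mk)
        ((Ideal.span_singleton_le_iff_mem _).2 hfu')
      exact Set.mem_iUnion₂.2 ⟨v, hS₀.mem_toFinset.2 hv, hx0 ▸ zero_mem _⟩
    obtain ⟨v, hv, hvu⟩ := Ideal.exists_minimalPrimes_le (I := Ideal.span {x}) (J := u.map mk)
      ((Ideal.span_singleton_le_iff_mem _).2 hx)
    have hxv : x ∈ v := hv.1.2 (Ideal.mem_span_singleton_self x)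
    have hh : v.height ≤ 1 := Ideal.height_le_one_of_isPrincipal_of_mem_minimalPrimes (Ideal.span {x}) v hv
    have hvne : v ≠ ⊥ := fun h => hx0 (by simpa [h] using hxv)
    refine Set.mem_iUnion₂.2 ⟨v, hS₀.mem_toFinset.2 ⟨⟨hv.1.1, (Ideal.span_singleton_le_iff_mem _).2
      (hcontains v hv.1.1 hvne hvu)⟩, fun v₀ hv₀ hle => ?_⟩, hxv⟩
    rcases hle.eq_or_lt with h | h
    · exact h.ge
    · exact absurd (hone v v₀ hv.1.1 hv₀.1 hh h) fun h0 => hf' (by
        simpa [h0] using hv₀.2 (Ideal.mem_span_singleton_self f'))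
  obtain ⟨v, hv, hle⟩ := (Ideal.subset_union_prime ⊥ ⊥ fun v hv _ _ => (hS₀.mem_toFinset.1 hv).1.1).1 hsub
  have hv' := hS₀.mem_toFinset.1 hv
  have hh : (u.map mk).height ≤ 1 := (Ideal.height_mono hle).trans
    (Ideal.height_le_one_of_isPrincipal_of_mem_minimalPrimes (Ideal.span {f'}) v hv')
  by_contra hne
  have hlt : w.map mk < u.map mk := lt_of_le_of_ne (Ideal.map_mono hwu) fun h => hne (by
    rw [← hw'', h, hu''])
  have h0 := hone _ _ hu' hw' hh hlt
  refine hqw.ne ?_
  rw [← hw'', h0, ← RingHom.ker_eq_comap_bot, Ideal.mk_ker]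

end Dim

end Groth.Agent.Lib.FlatCA.ImpurityReduce
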