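import Mathlib.RingTheory.Ideal.Maps

/-!
# Multiplication by elements of an extended ideal
-/

namespace Groth.Agent.Lib.FlatCA.MapSmul

variable {R S N : Type*} [CommRing R] [CommRing S] [Algebra R S] [AddCommGroup N] [Module S N]
  [Module R N] [IsScalarTower R S N]

theorem smul_mem_smul_top {I : Ideal R} {s : S} (hs : s ∈ I.map (algebraMap R S)) (z : N) :
    s • z ∈ I • (⊤ : Submodule R N) := by
  have h : s • z ∈ I.map (algebraMap R S) • (⊤ : Submodule S N) :=
    Submodule.smul_mem_smul hs Submodule.mem_top
  rw [← Submodule.restrictScalars_mem R, Ideal.smul_restrictScalars] at h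
  simpa using h

end Groth.Agent.Lib.FlatCA.MapSmul
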