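import Groth.Agent.Lib.FlatCA.FiberMod
import Groth.Agent.Lib.LocalFlat.UnivInjective
import Mathlib.RingTheory.Localization.BaseChange

/-!
# Universally injective multiplication maps
-/

universe u

open TensorProduct

namespace Groth.Agent.Lib.FlatCA.NzdFiber

open Groth.Agent.Lib.FlatCA.FiberMod

variable {R : Type u} [CommRing R] [IsLocalRing R] {S : Type u} [CommRing S] [Algebra R S]
  {N : Type u} [AddCommGroup N] [Module S N] [Module R N] [IsScalarTower R S N]

open IsLocalRing in
theorem univInj_lsmul_of_projective [Module.Projective R N] {g : S}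
    (hg : g ∈ FlatCA.nzdFiber R S N) (Q : Type*) [AddCommGroup Q] [Module R Q] :
    Function.Injective (((LinearMap.lsmul S N g).restrictScalars R).rTensor Q) :=
  Groth.Agent.Lib.LocalFlat.UnivInjective.rTensor_injective_of_projective _
    ((lTensor_quotient_injective_iff_residueField (maximalIdeal R) _).1
      (residue_injective_of_mem_nzdFiber S N hg)) Q

open IsLocalRing in
theorem mem_nzdFiber_of_smul_sub_mem {g : S}
    (hg : g - 1 ∈ (maximalIdeal R).map (algebraMap R S)) : g ∈ FlatCA.nzdFiber R S N := by
  rw [mem_nonZeroSMulDivisors_iff]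
  intro y hy
  apply (fiberModEquiv (maximalIdeal R) S N).injective
  have h0 : ∀ s ∈ (maximalIdeal R).map (algebraMap R S), ∀ x : N ⊗[R] (maximalIdeal R).ResidueField,
      s • x = 0 := by
    intro s hs
    refine Submodule.span_induction ?_ ?_ ?_ ?_ hs
    · rintro _ ⟨r, hr, rfl⟩ x
      rw [algebraMap_smul]
      induction x using TensorProduct.induction_on with
      | zero => simp
      | add a b ha hb => rw [smul_add, ha, hb, add_zero]
      | tmul a b =>
        rw [← TensorProduct.tmul_smul, Algebra.smul_def,
          Ideal.algebraMap_residueField_eq_zero.2 hr, zero_mul, TensorProduct.tmul_zero]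
    · intro x; exact zero_smul _ _
    · intro a b _ _ ha hb x; rw [add_smul, ha, hb, add_zero]
    · intro c a _ ha x; rw [smul_eq_mul, mul_smul, ha, smul_zero]
  have := congrArg (fiberModEquiv (maximalIdeal R) S N) hy
  rw [map_smul, map_zero, show g = 1 + (g - 1) by ring, add_smul, one_smul,
    h0 _ hg, add_zero] at this
  rw [this, map_zero]

theorem rTensor_mk_injective (W : Submonoid S) (Q : Type*) [AddCommGroup Q] [Module R Q]
    (h : ∀ s ∈ W, Function.Injective (((LinearMap.lsmul S N s).restrictScalars R).rTensor Q)) :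
    Function.Injective (((LocalizedModule.mkLinearMap W N).restrictScalars R).rTensor Q) := by
  rw [injective_iff_map_eq_zero]
  intro x hx
  have := IsLocalizedModule.rTensor W (R := R) (A := S) (N := Q) (LocalizedModule.mkLinearMap W N)
  obtain ⟨s, hs⟩ := (IsLocalizedModule.eq_zero_iff W
    (TensorProduct.AlgebraTensorModule.rTensor R Q (LocalizedModule.mkLinearMap W N))).1 hx
  rw [Submonoid.smul_def, smul_eq_rTensor] at hs
  exact h s s.2 (hs.trans (map_zero _).symm)

omit [IsLocalRing R] in
/-- An element congruent to one modulo `I S` whose powers act injectively cannot kill anything. -/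
theorem eq_zero_of_mem_associated {Q : Type*} [AddCommGroup Q] [Module S Q] (I : Ideal S)
    (hinj : ∀ g : S, g - 1 ∈ I → Function.Injective (fun x : Q => g • x)) {x : Q} {q : Ideal S}
    (hq : q ≤ (Submodule.span S {x}).annihilator) (htop : q ⊔ I = ⊤) : x = 0 := by
  obtain ⟨a, ha, b, hb, hab⟩ := Submodule.mem_sup.1 (htop ▸ Submodule.mem_top (x := (1 : S)))
  refine hinj a (by rw [← hab, sub_add_cancel_left]; exact I.neg_mem hb) ?_
  show a • x = a • (0 : Q)
  rw [smul_zero]
  exact Submodule.mem_annihilator_span_singleton x a |>.1 (hq ha)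

omit [IsLocalRing R] in
theorem sup_ne_top_of_mem_ass {Q : Type u} [AddCommGroup Q] [Module S Q] (I : Ideal S)
    (hinj : ∀ g : S, g - 1 ∈ I → Function.Injective (fun x : Q => g • x)) {q : Ideal S}
    (hq : q ∈ FlatCA.ass S Q) : q ⊔ I ≠ ⊤ := by
  intro htop
  obtain ⟨hp, x, hx⟩ := hq
  refine hp.ne_top ?_
  rw [hx, eq_zero_of_mem_associated I hinj hx.le htop, Submodule.span_singleton_eq_bot.2 rfl,
    Submodule.annihilator_bot]

end Groth.Agent.Lib.FlatCA.NzdFiber
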